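import Cfsg.Agent.Lib.Recognition.UFourThree.Hypotheses

/-!
# The quaternion factors and the fused involution
-/

set_option autoImplicit false

namespace CfsgLib.Recognition.UFourThree

open Subgroup

namespace Hyp

variable {G : Type*} [Group G] {z : G} {Q₁ Q₂ K₁ K₂ Q : Subgroup G} (h : Hyp z Q₁ Q₂ K₁ K₂ Q)
include h

theorem z_sq : z * z = 1 := by
  have := pow_orderOf_eq_one z
  rwa [h.z_inv, pow_two] at this

theorem z_ne : z ≠ 1 := fun e => by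
  have := h.z_inv
  rw [e, orderOf_one] at this
  norm_num at this

theorem z_inv_eq : z⁻¹ = z := inv_eq_of_mul_eq_one_right h.z_sq

theorem mem_C₁ {g : G} (hg : g ∈ Q₁) : g * z = z * g :=
  mem_centralizer_singleton_iff.1 (h.le₁ (h.p₁.le hg))

theorem mem_C₂ {g : G} (hg : g ∈ Q₂) : g * z = z * g :=
  mem_centralizer_singleton_iff.1 (h.le₂ (h.p₂.le hg))

theorem comm₁₂ {u w : G} (hu : u ∈ Q₁) (hw : w ∈ Q₂) : u * w = w * u :=
  h.comm u (h.p₁.le hu) w (h.p₂.le hw)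

theorem left_mem_Q {u : G} (hu : u ∈ Q₁) : u ∈ Q :=
  (h.mem_Q u).2 ⟨u, hu, 1, one_mem _, (mul_one u).symm⟩

theorem right_mem_Q {w : G} (hw : w ∈ Q₂) : w ∈ Q :=
  (h.mem_Q w).2 ⟨1, one_mem _, w, hw, (one_mul w).symm⟩

theorem Q_le : Q ≤ centralizer ({z} : Set G) := fun g hg => by
  obtain ⟨u, hu, w, hw, rfl⟩ := (h.mem_Q g).1 hg
  exact mul_mem (h.le₁ (h.p₁.le hu)) (h.le₂ (h.p₂.le hw))

theorem z_mem_Q : z ∈ Q := h.left_mem_Q h.p₁.z_mem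

theorem sq_eq (g : G) {u w : G} (hu : u ∈ Q₁) (hw : w ∈ Q₂) (hg : g = u * w) :
    g * g = (u * u) * (w * w) := by
  subst hg
  rw [mul_assoc, ← mul_assoc w, ← h.comm₁₂ hu hw]; group

theorem sq₁_cases {u : G} (hu : u ∈ Q₁) : u * u = 1 ∧ (u = 1 ∨ u = z) ∨ u * u = z := by
  by_cases h1 : u = 1
  · subst h1; exact Or.inl ⟨mul_one 1, Or.inl rfl⟩
  · by_cases h2 : u = z
    · subst h2; exact Or.inl ⟨h.z_sq, Or.inr rfl⟩
    · exact Or.inr (h.p₁.sq u hu h1 h2)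

theorem sq₂_cases {u : G} (hu : u ∈ Q₂) : u * u = 1 ∧ (u = 1 ∨ u = z) ∨ u * u = z := by
  by_cases h1 : u = 1
  · subst h1; exact Or.inl ⟨mul_one 1, Or.inl rfl⟩
  · by_cases h2 : u = z
    · subst h2; exact Or.inl ⟨h.z_sq, Or.inr rfl⟩
    · exact Or.inr (h.p₂.sq u hu h1 h2)

/-- Squares in `Q` lie in `⟨z⟩`. -/
theorem sq_Q {g : G} (hg : g ∈ Q) : g * g = 1 ∨ g * g = z := by
  obtain ⟨u, hu, w, hw, e⟩ := (h.mem_Q g).1 hg
  rw [h.sq_eq g hu hw e]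
  rcases h.sq₁_cases hu with ⟨e1, -⟩ | e1 <;> rcases h.sq₂_cases hw with ⟨e2, -⟩ | e2 <;>
    simp [e1, e2, h.z_sq]

/-- Commutators in `Q` lie in `⟨z⟩`. -/
theorem comm_Q {g k : G} (hg : g ∈ Q) (hk : k ∈ Q) : g * k = k * g ∨ g * k = z * (k * g) := by
  have cz : ∀ v ∈ Q, v * z = z * v := fun v hv => mem_centralizer_singleton_iff.1 (h.Q_le hv)
  have e1 := h.sq_Q (mul_mem hg hk)
  have e2 := h.sq_Q hg
  have e3 := h.sq_Q hk
  have : g * k = (g * g) * (g⁻¹ * k⁻¹ * (k * k)) := by group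
  have hi : g * k = ((g * k) * (g * k)) * (k⁻¹ * g⁻¹) := by group
  have hk' : k⁻¹ * g⁻¹ = (k * k)⁻¹ * k * ((g * g)⁻¹ * g) := by group
  rw [hk'] at hi
  rcases e1 with e1 | e1 <;> rcases e2 with e2 | e2 <;> rcases e3 with e3 | e3 <;>
    rw [e1, e2, e3] at hi <;>
    simp only [h.z_inv_eq, inv_one, one_mul, mul_assoc, ← mul_assoc k z, cz k hk,
      ← mul_assoc z z, h.z_sq] at hi <;>
    first | exact Or.inl hi | exact Or.inr hi

/-- An element of `Q` other than `1, z` with square one is a product of elements of order four. -/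
theorem invol_Q {t : G} (ht : t ∈ Q) (ht2 : t * t = 1) (ht1 : t ≠ 1) (htz : t ≠ z) :
    ∃ a ∈ Q₁, ∃ b ∈ Q₂, a * a = z ∧ b * b = z ∧ t = a * b := by
  obtain ⟨u, hu, w, hw, e⟩ := (h.mem_Q t).1 ht
  have h2 := h.sq_eq t hu hw e
  rcases h.sq₁_cases hu with ⟨e1, c1⟩ | e1 <;> rcases h.sq₂_cases hw with ⟨e2, c2⟩ | e2
  · rcases c1 with rfl | rfl <;> rcases c2 with rfl | rfl <;> simp_all [h.z_sq]
  · rw [e1, e2, one_mul, ht2] at h2; exact absurd h2.symm h.z_ne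
  · rw [e1, e2, mul_one, ht2] at h2; exact absurd h2.symm h.z_ne
  · exact ⟨u, hu, w, hw, e1, e2, e⟩

/-- Elements of order four of `Q` lie in a factor. -/
theorem four_Q {g : G} (hg : g ∈ Q) (h4 : g * g = z) : g ∈ Q₁ ∨ g ∈ Q₂ := by
  obtain ⟨u, hu, w, hw, e⟩ := (h.mem_Q g).1 hg
  have h2 := h.sq_eq g hu hw e
  rcases h.sq₁_cases hu with ⟨e1, c1⟩ | e1 <;> rcases h.sq₂_cases hw with ⟨e2, c2⟩ | e2
  · rw [e1, e2, mul_one, h4] at h2; exact absurd h2 h.z_ne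
  · refine Or.inr (e ▸ mul_mem ?_ hw)
    rcases c1 with rfl | rfl
    exacts [one_mem _, h.p₂.z_mem]
  · refine Or.inl (e ▸ mul_mem hu ?_)
    rcases c2 with rfl | rfl
    exacts [one_mem _, h.p₁.z_mem]
  · rw [e1, e2, h.z_sq, h4] at h2; exact absurd h2 h.z_ne

/-- The two factors meet in `⟨z⟩`. -/
theorem inter_Q {g : G} (h₁ : g ∈ Q₁) (h₂ : g ∈ Q₂) : g = 1 ∨ g = z :=
  h.inter g (h.p₁.le h₁) (h.p₂.le h₂)

/-- Uniqueness of the decomposition in `Q` up to `z`. -/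
theorem decomp_Q {u u' w w' : G} (hu : u ∈ Q₁) (hu' : u' ∈ Q₁) (hw : w ∈ Q₂) (hw' : w' ∈ Q₂)
    (e : u * w = u' * w') : u = u' ∧ w = w' ∨ u = z * u' ∧ w = z * w' := by
  have e2 : u'⁻¹ * u = w' * w⁻¹ := by
    calc u'⁻¹ * u = u'⁻¹ * (u * w) * w⁻¹ := by group
      _ = w' * w⁻¹ := by rw [e]; group
  rcases h.inter_Q (mul_mem (inv_mem hu') hu) (e2 ▸ mul_mem hw' (inv_mem hw)) with h0 | h0
  · refine Or.inl ⟨(inv_mul_eq_one.1 h0).symm, ?_⟩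
    rw [h0] at e2
    exact (mul_inv_eq_one.1 e2.symm).symm
  · refine Or.inr ⟨?_, ?_⟩
    · rw [inv_mul_eq_iff_eq_mul] at h0
      rw [h0, h.mem_C₁ hu']
    · rw [h0] at e2
      have h3 : w' = z * w := by rw [e2]; group
      rw [h3, ← mul_assoc, h.z_sq, one_mul]

end Hyp

end CfsgLib.Recognition.UFourThree
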