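import Cfsg.Agent.Lib.Recognition.UFourThree.SeedDef

/-!
# The four-group through `z` and the element of order three cycling it
-/

set_option autoImplicit false

namespace CfsgLib.Recognition.UFourThree

open Subgroup

namespace Piece

variable {G : Type*} [Group G] {z : G} {Q K : Subgroup G}

/-- The elements of order four of a quaternion factor are conjugate in it. -/
theorem trans_conj (P : Piece z Q K) (hz1 : z ≠ 1) (hz2 : z * z = 1) {a q : G} (ha : a ∈ Q)
    (ha2 : a * a = z) (hq : q ∈ Q) (hq2 : q * q = z) : ∃ k ∈ K, k * a * k⁻¹ = q := by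
  by_cases hc : q * a = a * q
  · rcases P.comm a ha ha2 q hq hc with rfl | rfl | rfl | rfl
    · exact absurd (by rw [← hq2, mul_one]) hz1
    · exact absurd (hq2.symm.trans hz2) hz1
    · exact ⟨1, one_mem _, by simp⟩
    · obtain ⟨c, hc, hc2, hn⟩ := P.other a ha ha2
      exact ⟨c, P.le hc, (P.flip a ha ha2 c hc hc2 hn).1⟩
  · obtain ⟨r, hr, -, hra, -, -⟩ := P.rot a ha ha2 q hq hq2 (fun e => hc e.symm)
    exact ⟨r, hr, hra⟩

/-- Representatives of the elements of order four modulo `z`. -/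
theorem reps (P : Piece z Q K) (hz1 : z ≠ 1) (hz2 : z * z = 1) {a : G} (ha : a ∈ Q)
    (ha2 : a * a = z) : ∃ R : Finset G, R.card = 3 ∧ (∀ r ∈ R, r ∈ Q ∧ r * r = z) ∧
      (∀ r ∈ R, z * r ∉ R) ∧ ∀ q ∈ Q, q * q = z → q ∈ R ∨ z * q ∈ R := by
  classical
  obtain ⟨c, hc, hc2, hn⟩ := P.other a ha ha2
  obtain ⟨f1, f2⟩ := P.flip a ha ha2 c hc hc2 hn
  have hia : z * a⁻¹ = a := by rw [← ha2]; group
  have hic : z * c⁻¹ = c := by rw [← hc2]; group
  have hia' : a⁻¹ = z * a := by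
    calc a⁻¹ = z * (z * a⁻¹) := by rw [← mul_assoc, hz2, one_mul]
      _ = z * a := by rw [hia]
  have hic' : c⁻¹ = z * c := by
    calc c⁻¹ = z * (z * c⁻¹) := by rw [← mul_assoc, hz2, one_mul]
      _ = z * c := by rw [hic]
  have hca : c * a = z * (a * c) := by
    calc c * a = (c * a * c⁻¹) * c := by group
      _ = z * (a * c) := by rw [f1, hia', mul_assoc]
  have hac2 : a * c * (a * c) = z := by
    calc a * c * (a * c) = a * (c * a * c⁻¹) * (c * c) := by group
      _ = z := by rw [f1, hc2]; simp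
  have hzc : ∀ x : G, x * x = z → z * x = x * z := fun x hx => by rw [← hx, mul_assoc]
  have hne : a ≠ c ∧ a ≠ a * c ∧ c ≠ a * c := by
    refine ⟨fun e => hn (by rw [e]), fun e => ?_, fun e => ?_⟩
    · have : c = 1 := mul_left_cancel (e.symm.trans (mul_one a).symm)
      exact hz1 (by rw [← hc2, this, mul_one])
    · have : a = 1 := mul_right_cancel (e.symm.trans (one_mul c).symm)
      exact hz1 (by rw [← ha2, this, mul_one])
  refine ⟨{a, c, a * c}, ?_, ?_, ?_, ?_⟩
  · rw [Finset.card_insert_of_notMem (by simp [hne.1, hne.2.1]),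
      Finset.card_pair hne.2.2]
  · intro r hr
    simp only [Finset.mem_insert, Finset.mem_singleton] at hr
    rcases hr with rfl | rfl | rfl
    exacts [⟨ha, ha2⟩, ⟨hc, hc2⟩, ⟨mul_mem ha hc, hac2⟩]
  · have haz := hzc a ha2
    have hcz := hzc c hc2
    intro r hr hr'
    simp only [Finset.mem_insert, Finset.mem_singleton] at hr hr'
    have key : ∀ x y : G, z * x = y → (x * c = c * x → y * c = c * y) ∧
        (x * a = a * x → y * a = a * y) ∧ (y * c = c * y → x * c = c * x) ∧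
        (y * a = a * y → x * a = a * x) := by
      rintro x y rfl
      refine ⟨fun h => ?_, fun h => ?_, fun h => ?_, fun h => ?_⟩
      · rw [mul_assoc, h, ← mul_assoc, hcz, mul_assoc]
      · rw [mul_assoc, h, ← mul_assoc, haz, mul_assoc]
      · rw [mul_assoc, ← mul_assoc c, ← hcz, mul_assoc] at h; exact mul_left_cancel h
      · rw [mul_assoc, ← mul_assoc a, ← haz, mul_assoc] at h; exact mul_left_cancel h
    have d1 : ¬ a * c * c = c * (a * c) := fun e => hn (mul_right_cancel (e.trans (mul_assoc c a c).symm))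
    have d2 : ¬ a * c * a = a * (a * c) := fun e => hn (mul_left_cancel ((mul_assoc a c a).symm.trans e)).symm
    rcases hr with rfl | rfl | rfl <;> rcases hr' with e | e | e
    · exact hz1 (by simpa using e)
    · exact hn ((key _ _ e).2.2.1 rfl)
    · exact d2 ((key _ _ e).2.1 rfl)
    · exact hn ((key _ _ e).1 rfl)
    · exact hz1 (by simpa using e)
    · exact d1 ((key _ _ e).1 rfl)
    · exact d2 ((key _ _ e).2.2.2 rfl)
    · exact d1 ((key _ _ e).2.2.1 rfl)
    · exact hz1 (by simpa using e)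
  · intro q hq hq2
    simp only [Finset.mem_insert, Finset.mem_singleton]
    rcases P.gen a ha ha2 c hc hc2 hn q hq with rfl | rfl | rfl | rfl | rfl | rfl | rfl | rfl
    · exact absurd (by rw [← hq2, mul_one]) hz1
    · exact absurd (hq2.symm.trans hz2) hz1
    · exact Or.inl (Or.inl rfl)
    · exact Or.inr (Or.inl hia)
    · exact Or.inl (Or.inr (Or.inl rfl))
    · exact Or.inr (Or.inr (Or.inl hic))
    · exact Or.inl (Or.inr (Or.inr rfl))
    · exact Or.inr (Or.inr (Or.inr (by rw [hca, ← mul_assoc, hz2, one_mul])))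

end Piece

namespace Hyp

variable {G : Type*} [Group G] {z : G} {Q₁ Q₂ K₁ K₂ Q : Subgroup G} (h : Hyp z Q₁ Q₂ K₁ K₂ Q)
include h

theorem transitive₁ : ∀ a ∈ Q₁, a * a = z → ∀ q ∈ Q₁, q * q = z → ∃ k ∈ K₁, k * a * k⁻¹ = q :=
  fun _ ha ha2 _ hq hq2 => h.p₁.trans_conj h.z_ne h.z_sq ha ha2 hq hq2

theorem transitive₂ : ∀ a ∈ Q₂, a * a = z → ∀ q ∈ Q₂, q * q = z → ∃ k ∈ K₂, k * a * k⁻¹ = q :=
  fun _ ha ha2 _ hq hq2 => h.p₂.trans_conj h.z_ne h.z_sq ha ha2 hq hq2

/-- The product of elements of order four is an involution other than `z`. -/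
theorem prod_invol {q w : G} (hq : q ∈ Q₁) (hq2 : q * q = z) (hw : w ∈ Q₂) (hw2 : w * w = z) :
    q * w ∈ Q ∧ q * w * (q * w) = 1 ∧ q * w ≠ 1 ∧ q * w ≠ z := by
  refine ⟨mul_mem (h.left_mem_Q hq) (h.right_mem_Q hw), ?_, fun e => ?_, fun e => ?_⟩
  · rw [h.sq_eq (q * w) hq hw rfl, hq2, hw2, h.z_sq]
  · have e' : q = w⁻¹ := eq_inv_of_mul_eq_one_left e
    rcases h.inter_Q hq (e' ▸ inv_mem hw) with h1 | h1 <;> rw [h1] at hq2
    · exact h.z_ne (by simpa using hq2.symm)
    · exact h.z_ne (hq2.symm.trans h.z_sq)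
  · have e' : q = z * w⁻¹ := by rw [← e]; group
    rcases h.inter_Q hq (e' ▸ mul_mem h.p₂.z_mem (inv_mem hw)) with h1 | h1 <;> rw [h1] at hq2
    · exact h.z_ne (by simpa using hq2.symm)
    · exact h.z_ne (hq2.symm.trans h.z_sq)

/-- The involutions of `Q` other than `z` form one orbit of eighteen, so their centralisers in `C(z)`
have order 64. -/
theorem card_P [Finite G] {a b : G} (ha : a ∈ Q₁) (ha2 : a * a = z) (hb : b ∈ Q₂) (hb2 : b * b = z) :
    Nat.card ↥(centralizer ({z} : Set G) ⊓ centralizer ({a * b} : Set G)) = 64 := by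
  classical
  set C : Subgroup G := centralizer ({z} : Set G) with hC
  set t := a * b with ht
  let A : MulAction C G := MulAction.compHom G ((MulAut.conj : G →* MulAut G).comp C.subtype)
  have hsmul : ∀ (c : C) (x : G), c • x = (c : G) * x * (c : G)⁻¹ := fun _ _ => rfl
  obtain ⟨R, hR3, hR, hRz, hRall⟩ := h.p₁.reps h.z_ne h.z_sq ha ha2
  obtain ⟨S, hS3, hS, hSz, hSall⟩ := h.p₂.reps h.z_ne h.z_sq hb hb2
  let T : Finset G := S ∪ S.image (z * ·)
  have hT : ∀ w, w ∈ T ↔ w ∈ Q₂ ∧ w * w = z := by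
    intro w
    simp only [T, Finset.mem_union, Finset.mem_image]
    constructor
    · rintro (hw | ⟨v, hv, rfl⟩)
      · exact hS w hw
      · obtain ⟨h1, h2⟩ := hS v hv
        refine ⟨mul_mem h.p₂.z_mem h1, ?_⟩
        calc z * v * (z * v) = z * (v * z) * v := by group
          _ = (z * z) * (v * v) := by rw [h.mem_C₂ h1]; group
          _ = z := by rw [h.z_sq, h2, one_mul]
    · rintro ⟨h1, h2⟩
      exact (hSall w h1 h2).imp id fun hw => ⟨z * w, hw, by rw [← mul_assoc, h.z_sq, one_mul]⟩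
  have hT6 : T.card = 6 := by
    rw [Finset.card_union_of_disjoint ?_, Finset.card_image_of_injective _ (mul_right_injective z), hS3]
    rw [Finset.disjoint_left]
    intro w hw hw'
    obtain ⟨v, hv, rfl⟩ := Finset.mem_image.1 hw'
    exact hSz v hv hw
  have horb : MulAction.orbit C t = (fun p : G × G => p.1 * p.2) '' ((R ×ˢ T : Finset (G × G)) : Set (G × G)) := by
    apply Set.eq_of_subset_of_subset
    · rintro _ ⟨c, rfl⟩
      obtain ⟨hm, h2, h1, hz⟩ := h.prod_invol ha ha2 hb hb2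
      have hcz : (c : G) * z * (c : G)⁻¹ = z := by
        rw [mem_centralizer_singleton_iff.1 c.2, mul_inv_cancel_right]
      obtain ⟨q, hq, w, hw, hq2, hw2, e⟩ := h.invol_Q (h.norm _ c.2 _ hm)
        (by rw [conj_mul, h2]; group) (by simpa using h1)
        (fun e => hz (MulEquiv.injective (MulAut.conj (c : G)) (e.trans hcz.symm)))
      simp only [hsmul]
      rw [ht, e]
      rcases hRall q hq hq2 with hr | hr
      · exact ⟨(q, w), Finset.mem_coe.2 (Finset.mem_product.2 ⟨hr, (hT w).2 ⟨hw, hw2⟩⟩), rfl⟩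
      · refine ⟨(z * q, z * w), Finset.mem_coe.2 (Finset.mem_product.2
          ⟨hr, (hT _).2 ⟨mul_mem h.p₂.z_mem hw, ?_⟩⟩), ?_⟩
        · calc z * w * (z * w) = z * (w * z) * w := by group
            _ = (z * z) * (w * w) := by rw [h.mem_C₂ hw]; group
            _ = z := by rw [h.z_sq, hw2, one_mul]
        · show z * q * (z * w) = q * w
          calc z * q * (z * w) = z * (q * z) * w := by group
            _ = q * w := by rw [h.mem_C₁ hq, ← mul_assoc, h.z_sq, one_mul]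
    · rintro _ ⟨⟨q, w⟩, hp, rfl⟩
      obtain ⟨hq, hw⟩ := Finset.mem_product.1 (Finset.mem_coe.1 hp)
      obtain ⟨hq, hq2⟩ := hR q hq
      obtain ⟨hw, hw2⟩ := (hT w).1 hw
      obtain ⟨k, hk, ek⟩ := h.transitive₁ a ha ha2 q hq hq2
      obtain ⟨l, hl, el⟩ := h.transitive₂ b hb hb2 w hw hw2
      refine ⟨⟨k * l, mul_mem (h.le₁ hk) (h.le₂ hl)⟩, ?_⟩
      show k * l * t * (k * l)⁻¹ = q * w
      rw [← ek, ← el, ht]
      calc k * l * (a * b) * (k * l)⁻¹ = k * (l * a) * b * l⁻¹ * k⁻¹ := by group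
        _ = k * a * (l * b * l⁻¹) * k⁻¹ := by rw [← h.comm a (h.p₁.le ha) l hl]; group
        _ = k * a * k⁻¹ * (k * (l * b * l⁻¹)) * k⁻¹ := by group
        _ = k * a * k⁻¹ * (l * b * l⁻¹) := by
          rw [h.comm k hk _ (mul_mem (mul_mem hl (h.p₂.le hb)) (inv_mem hl))]; group
  have h18 : (MulAction.orbit C t).ncard = 18 := by
    rw [horb, Set.InjOn.ncard_image ?_, Set.ncard_coe_finset, Finset.card_product, hR3, hT6]
    rintro ⟨q, w⟩ hp ⟨q', w'⟩ hp' e
    obtain ⟨hq, hw⟩ := Finset.mem_product.1 (Finset.mem_coe.1 hp)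
    obtain ⟨hq', hw'⟩ := Finset.mem_product.1 (Finset.mem_coe.1 hp')
    rcases h.decomp_Q (hR q hq).1 (hR q' hq').1 ((hT w).1 hw).1 ((hT w').1 hw').1 e with
      ⟨h1, h2⟩ | ⟨h1, -⟩
    · exact Prod.ext h1 h2
    · exact absurd (h1 ▸ hq) (hRz q' hq')
  have hst : MulAction.stabilizer C t = (centralizer ({t} : Set G)).subgroupOf C := by
    ext c
    rw [MulAction.mem_stabilizer_iff, mem_subgroupOf, mem_centralizer_singleton_iff, hsmul,
      mul_inv_eq_iff_eq_mul]
  have hmul := (MulAction.stabilizer C t).card_mul_index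
  rw [MulAction.index_stabilizer, h18, hst] at hmul
  have hcard : Nat.card ↥((centralizer ({t} : Set G)).subgroupOf C) = Nat.card ↥(C ⊓ centralizer ({t} : Set G)) := by
    rw [← Subgroup.inf_subgroupOf_left]
    exact Nat.card_congr (Subgroup.subgroupOfEquivOfLe inf_le_left).toEquiv
  rw [hcard] at hmul
  have := h.card_C
  rw [← hC] at this
  omega

end Hyp

namespace Hyp

variable {G : Type*} [Group G] {z : G} {Q₁ Q₂ K₁ K₂ Q : Subgroup G} (h : Hyp z Q₁ Q₂ K₁ K₂ Q)
include h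

theorem exists_seed [Finite G] : ∃ a b t σ, Seed z Q₁ Q₂ Q a b t σ := by
  classical
  obtain ⟨g, hm, hne⟩ := h.not_weakly_closed
  obtain ⟨t, ht⟩ : ∃ t, t = g * z * g⁻¹ := ⟨_, rfl⟩
  rw [← ht] at hm hne
  have ht2 : t * t = 1 := by rw [ht, conj_mul, h.z_sq]; group
  have ht1 : t ≠ 1 := fun e => h.z_ne (by rw [ht] at e; simpa using e)
  obtain ⟨a, ha, b, hb, ha2, hb2, hab⟩ := h.invol_Q hm ht2 ht1 hne
  have hQz : ∀ x ∈ Q, x * z = z * x := fun x hx => mem_centralizer_singleton_iff.1 (h.Q_le hx)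
  have htz : t * z = z * t := hQz t hm
  -- the conjugate of `Q` belonging to `t`
  set Q' : Subgroup G := Q.map (MulAut.conj g).toMonoidHom with hQ'
  have mem' : ∀ x, x ∈ Q' ↔ g⁻¹ * x * g ∈ Q := fun x => by
    rw [hQ', Subgroup.mem_map]
    constructor
    · rintro ⟨y, hy, rfl⟩
      simpa [mul_assoc] using hy
    · exact fun hx => ⟨_, hx, by simp [mul_assoc]⟩
  have htQ' : t ∈ Q' := (mem' t).2 (by rw [ht]; simpa [mul_assoc] using h.z_mem_Q)
  have hnorm' : ∀ c, c * t = t * c → ∀ x ∈ Q', c * x * c⁻¹ ∈ Q' := by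
    intro c hc x hx
    rw [mem'] at hx ⊢
    have hcc : g⁻¹ * c * g ∈ centralizer ({z} : Set G) := by
      rw [mem_centralizer_singleton_iff]
      calc g⁻¹ * c * g * z = g⁻¹ * (c * t) * g := by rw [ht]; group
        _ = z * (g⁻¹ * c * g) := by rw [hc, ht]; group
    simpa [mul_assoc] using h.norm _ hcc _ hx
  -- `z` lies in this conjugate
  have hzQ' : z ∈ Q' := by
    by_contra hz
    have hsub : ((Q ⊓ Q' : Subgroup G) : Set G) ⊆ {1, t} := by
      rintro v ⟨hvQ, hv'⟩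
      have hcen : ∀ c ∈ Q, c * t = t * c → c * v = v * c := by
        intro c hc hct
        rcases h.comm_Q hc hvQ with e | e
        · exact e
        · exfalso
          refine hz ?_
          have : z = (c * v * c⁻¹) * v⁻¹ := by rw [e]; group
          rw [this]
          exact mul_mem (hnorm' c hct v hv') (inv_mem hv')
      obtain ⟨u, hu, w, hw, e⟩ := (h.mem_Q v).1 hvQ
      have hua : u * a = a * u := by
        have h1 := hcen a (h.left_mem_Q ha) (by rw [hab, mul_assoc, ← h.comm₁₂ ha hb])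
        rw [e, ← mul_assoc, mul_assoc u, ← h.comm₁₂ ha hw, ← mul_assoc] at h1
        exact (mul_right_cancel h1).symm
      have hwb : w * b = b * w := by
        have h1 := hcen b (h.right_mem_Q hb) (by
          rw [hab, ← mul_assoc, ← h.comm₁₂ ha hb, mul_assoc])
        rw [e, ← mul_assoc, ← h.comm₁₂ hu hb, mul_assoc, mul_assoc] at h1
        exact (mul_left_cancel h1).symm
      obtain ⟨c, hc, hc2, hn⟩ := h.p₁.other a ha ha2
      obtain ⟨d, hd, hd2, hn'⟩ := h.p₂.other b hb hb2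
      have fa := (h.p₁.flip a ha ha2 c hc hc2 hn).1
      have fb := (h.p₂.flip b hb hb2 d hd hd2 hn').1
      have hconj : ∀ x ∈ Q₁, ∀ y ∈ Q₂, c * d * (x * y) * (c * d)⁻¹ = c * x * c⁻¹ * (d * y * d⁻¹) := by
        intro x hx y hy
        calc c * d * (x * y) * (c * d)⁻¹ = c * (d * x) * y * d⁻¹ * c⁻¹ := by group
          _ = c * x * (d * y * d⁻¹ * c⁻¹) := by rw [← h.comm₁₂ hx hd]; group
          _ = c * x * c⁻¹ * (d * y * d⁻¹) := by
            rw [← h.comm₁₂ (inv_mem hc) (mul_mem (mul_mem hd hy) (inv_mem hd))]; group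
      have hcd : c * d * t = t * (c * d) := by
        have e1 := hconj a ha b hb
        rw [← hab, fa, fb, h.comm₁₂ (inv_mem ha) (inv_mem hb), ← mul_inv_rev, ← hab,
          inv_eq_of_mul_eq_one_right ht2] at e1
        exact mul_inv_eq_iff_eq_mul.1 e1
      have hv := hcen (c * d) (mul_mem (h.left_mem_Q hc) (h.right_mem_Q hd)) hcd
      rw [e] at hv
      have hv' : c * u * c⁻¹ * (d * w * d⁻¹) = u * w := by
        rw [← hconj u hu w hw, hv, mul_inv_cancel_right]
      have hcases₁ := h.p₁.comm a ha ha2 u hu hua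
      have hcases₂ := h.p₂.comm b hb hb2 w hw hwb
      have hzc : c * z * c⁻¹ = z := by rw [h.mem_C₁ hc, mul_inv_cancel_right]
      have hzd : d * z * d⁻¹ = z := by rw [h.mem_C₂ hd, mul_inv_cancel_right]
      have hai : a⁻¹ = z * a := by
        calc a⁻¹ = (z * z) * a⁻¹ := by rw [h.z_sq, one_mul]
          _ = z * a := by rw [← ha2]; group
      have hbi : b⁻¹ = z * b := by
        calc b⁻¹ = (z * z) * b⁻¹ := by rw [h.z_sq, one_mul]
          _ = z * b := by rw [← hb2]; group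
      have qa : ∀ x, x = a ∨ x = a⁻¹ → c * x * c⁻¹ = x⁻¹ ∧ x⁻¹ ≠ x ∧ (x = a ∨ x = z * a) := by
        rintro x (rfl | rfl)
        · exact ⟨fa, fun e => h.z_ne (by rw [← ha2]; nth_rw 1 [← e]; group), Or.inl rfl⟩
        · refine ⟨by rw [← conj_inv, fa], fun e => h.z_ne ?_, Or.inr hai⟩
          rw [inv_inv] at e
          rw [← ha2]; nth_rw 1 [e]; group
      have qb : ∀ x, x = b ∨ x = b⁻¹ → d * x * d⁻¹ = x⁻¹ ∧ x⁻¹ ≠ x ∧ (x = b ∨ x = z * b) := by
        rintro x (rfl | rfl)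
        · exact ⟨fb, fun e => h.z_ne (by rw [← hb2]; nth_rw 1 [← e]; group), Or.inl rfl⟩
        · refine ⟨by rw [← conj_inv, fb], fun e => h.z_ne ?_, Or.inr hbi⟩
          rw [inv_inv] at e
          rw [← hb2]; nth_rw 1 [e]; group
      have za : ∀ x, x = 1 ∨ x = z → c * x * c⁻¹ = x ∧ d * x * d⁻¹ = x := by
        rintro x (rfl | rfl)
        · simp
        · exact ⟨hzc, hzd⟩
      have split : ∀ x y z₀ : G, x = y ∨ x = z₀ ∨ x = a ∨ x = a⁻¹ → (x = y ∨ x = z₀) ∨ (x = a ∨ x = a⁻¹) :=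
        fun _ _ _ hh => or_assoc.2 hh
      have split' : ∀ x y z₀ : G, x = y ∨ x = z₀ ∨ x = b ∨ x = b⁻¹ → (x = y ∨ x = z₀) ∨ (x = b ∨ x = b⁻¹) :=
        fun _ _ _ hh => or_assoc.2 hh
      have hv0 : v ∈ Q' := ‹_›
      have fin : ∀ ε, (ε = 1 ∨ ε = z) → ∀ r, (r = 1 ∨ r = t) → v = ε * r → v ∈ ({1, t} : Set G) := by
        rintro ε (rfl | rfl) r hr hvr
        · rw [hvr, one_mul]
          rcases hr with rfl | rfl <;> simp
        · exfalso
          refine hz ?_
          rcases hr with rfl | rfl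
          · rwa [hvr, mul_one] at hv0
          · have := mul_mem hv0 (inv_mem htQ')
            rwa [hvr, mul_inv_cancel_right] at this
      rcases split _ _ _ hcases₁ with hu0 | hu0 <;> rcases split' _ _ _ hcases₂ with hw0 | hw0
      · rcases hu0 with hu0 | hu0 <;> rcases hw0 with hw0 | hw0 <;> rw [hu0, hw0] at e
        · exact fin 1 (Or.inl rfl) 1 (Or.inl rfl) e
        · exact fin z (Or.inr rfl) 1 (Or.inl rfl) (by rw [e, one_mul, mul_one])
        · exact fin z (Or.inr rfl) 1 (Or.inl rfl) e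
        · exact fin 1 (Or.inl rfl) 1 (Or.inl rfl) (by rw [e, h.z_sq, one_mul])
      · rw [(za u hu0).1, (qb w hw0).1] at hv'
        exact absurd (mul_left_cancel hv') (qb w hw0).2.1
      · rw [(qa u hu0).1, (za w hw0).2] at hv'
        exact absurd (mul_right_cancel hv') (qa u hu0).2.1
      · rcases (qa u hu0).2.2 with rfl | rfl <;> rcases (qb w hw0).2.2 with rfl | rfl
        · exact fin 1 (Or.inl rfl) t (Or.inr rfl) (by rw [e, hab, one_mul])
        · exact fin z (Or.inr rfl) t (Or.inr rfl)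
            (by rw [e, hab, ← mul_assoc, h.mem_C₁ ha, mul_assoc])
        · exact fin z (Or.inr rfl) t (Or.inr rfl) (by rw [e, hab, mul_assoc])
        · exact fin 1 (Or.inl rfl) t (Or.inr rfl)
            (by rw [e, hab, one_mul, mul_assoc, ← mul_assoc a z, h.mem_C₁ ha, mul_assoc z a,
              ← mul_assoc, h.z_sq, one_mul])
    have h4 := h.inter_conj g (ht ▸ hm) (ht ▸ hne)
    have hle : ((Q ⊓ Q' : Subgroup G) : Set G).ncard ≤ 2 :=
      (Set.ncard_le_ncard hsub (Set.toFinite _)).trans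
        ((Set.ncard_insert_le 1 {t}).trans (by rw [Set.ncard_singleton]))
    rw [← Nat.card_coe_set_eq] at hle
    exact absurd (h4.symm.le.trans hle) (by norm_num)
  -- two elements moving the four-group
  obtain ⟨c, hc, hc2, hn⟩ := h.p₁.other a ha ha2
  have hct : c * t * c⁻¹ = z * t := by
    calc c * t * c⁻¹ = c * a * (b * c⁻¹) := by rw [hab]; group
      _ = c * a * c⁻¹ * b := by rw [← h.comm₁₂ (inv_mem hc) hb]; group
      _ = z * t := by
        rw [(h.p₁.flip a ha ha2 c hc hc2 hn).1, hab, ← mul_assoc]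
        congr 1
        calc a⁻¹ = (z * z) * a⁻¹ := by rw [h.z_sq, one_mul]
          _ = z * a := by rw [← ha2]; group
  have hzQ := (mem' z).1 hzQ'
  obtain ⟨a', ha', b', hb', ha2', hb2', hab'⟩ := h.invol_Q hzQ
    (by
      calc g⁻¹ * z * g * (g⁻¹ * z * g) = g⁻¹ * (z * z) * g := by group
        _ = 1 := by rw [h.z_sq]; group)
    (fun e => h.z_ne (by
      calc z = g * (g⁻¹ * z * g) * g⁻¹ := by group
        _ = 1 := by rw [e]; group))
    (fun e => hne (by rw [ht]; nth_rw 1 [← e]; group))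
  obtain ⟨c', hc', hc2', hn'⟩ := h.p₁.other a' ha' ha2'
  set u := g * c' * g⁻¹ with hu
  have hct' : c' * (g⁻¹ * z * g) * c'⁻¹ = z * (g⁻¹ * z * g) := by
    calc c' * (g⁻¹ * z * g) * c'⁻¹ = c' * a' * (b' * c'⁻¹) := by rw [hab']; group
      _ = c' * a' * c'⁻¹ * b' := by rw [← h.comm₁₂ (inv_mem hc') hb']; group
      _ = z * (g⁻¹ * z * g) := by
        rw [(h.p₁.flip a' ha' ha2' c' hc' hc2' hn').1, hab', ← mul_assoc]
        congr 1
        calc a'⁻¹ = (z * z) * a'⁻¹ := by rw [h.z_sq, one_mul]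
          _ = z * a' := by rw [← ha2']; group
  have huz : u * z * u⁻¹ = t * z := by
    calc u * z * u⁻¹ = g * (c' * (g⁻¹ * z * g) * c'⁻¹) * g⁻¹ := by rw [hu]; group
      _ = t * z := by rw [hct', ht]; group
  have hut : u * t * u⁻¹ = t := by
    calc u * t * u⁻¹ = g * (c' * z * c'⁻¹) * g⁻¹ := by rw [hu, ht]; group
      _ = t := by rw [h.mem_C₁ hc', mul_inv_cancel_right, ht]
  set s := c * u with hs
  have hcz : c * z * c⁻¹ = z := by rw [h.mem_C₁ hc, mul_inv_cancel_right]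
  have s1 : s * z * s⁻¹ = t := by
    calc s * z * s⁻¹ = c * (u * z * u⁻¹) * c⁻¹ := by rw [hs]; group
      _ = (c * t * c⁻¹) * (c * z * c⁻¹) := by rw [huz]; group
      _ = t := by rw [hct, hcz, mul_assoc, htz, ← mul_assoc, h.z_sq, one_mul]
  have s2 : s * t * s⁻¹ = z * t := by
    calc s * t * s⁻¹ = c * (u * t * u⁻¹) * c⁻¹ := by rw [hs]; group
      _ = z * t := by rw [hut, hct]
  have s3 : s * (z * t) * s⁻¹ = z := by
    rw [← conj_mul, s1, s2, ← mul_assoc, htz, mul_assoc, ht2, mul_one]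
  have c1 : s ^ 3 * z * (s ^ 3)⁻¹ = z := by
    calc s ^ 3 * z * (s ^ 3)⁻¹ = s * (s * (s * z * s⁻¹) * s⁻¹) * s⁻¹ := by
          simp only [pow_succ, pow_zero, one_mul, mul_inv_rev, mul_assoc]
      _ = z := by rw [s1, s2, s3]
  have c2 : s ^ 3 * t * (s ^ 3)⁻¹ = t := by
    calc s ^ 3 * t * (s ^ 3)⁻¹ = s * (s * (s * t * s⁻¹) * s⁻¹) * s⁻¹ := by
          simp only [pow_succ, pow_zero, one_mul, mul_inv_rev, mul_assoc]
      _ = t := by rw [s2, s3, s1]
  have hP : s ^ 3 ∈ centralizer ({z} : Set G) ⊓ centralizer ({t} : Set G) :=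
    ⟨mem_centralizer_singleton_iff.2 (mul_inv_eq_iff_eq_mul.1 c1),
      mem_centralizer_singleton_iff.2 (mul_inv_eq_iff_eq_mul.1 c2)⟩
  have h64 := h.card_P ha ha2 hb hb2
  rw [← hab] at h64
  have hs192 : (s ^ 3) ^ 64 = 1 :=
    orderOf_dvd_iff_pow_eq_one.1 (h64 ▸ Subgroup.orderOf_dvd_natCard _ hP)
  have hp := pow_mem hP 21
  obtain ⟨hp1, hp2⟩ := hp
  have hσ : s ^ 64 = (s ^ 3) ^ 21 * s := by rw [← pow_mul, ← pow_succ]
  have hzt : ∀ x, x ∈ centralizer ({z} : Set G) ⊓ centralizer ({t} : Set G) →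
      x * t * x⁻¹ = t ∧ x * (z * t) * x⁻¹ = z * t := fun x hx => by
    have e1 := mem_centralizer_singleton_iff.1 hx.1
    have e2 := mem_centralizer_singleton_iff.1 hx.2
    constructor
    · rw [e2, mul_inv_cancel_right]
    · rw [← mul_assoc, e1, mul_assoc z, e2, ← mul_assoc, mul_inv_cancel_right]
  obtain ⟨fx1, fx2⟩ := hzt _ ⟨hp1, hp2⟩
  refine ⟨a, b, t, s ^ 64, ha, ha2, hb, hb2, hab, ?_, ?_, ?_, ?_⟩
  · rw [← pow_mul, show 64 * 3 = 3 * 64 from rfl, pow_mul, hs192]
  · calc s ^ 64 * z * (s ^ 64)⁻¹ = (s ^ 3) ^ 21 * (s * z * s⁻¹) * ((s ^ 3) ^ 21)⁻¹ := by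
          rw [hσ]; simp only [mul_assoc, mul_inv_rev]
      _ = t := by rw [s1, fx1]
  · calc s ^ 64 * t * (s ^ 64)⁻¹ = (s ^ 3) ^ 21 * (s * t * s⁻¹) * ((s ^ 3) ^ 21)⁻¹ := by
          rw [hσ]; simp only [mul_assoc, mul_inv_rev]
      _ = z * t := by rw [s2, fx2]
  · have e1 : s ^ 64 * z * (s ^ 64)⁻¹ = t := by
      calc s ^ 64 * z * (s ^ 64)⁻¹ = (s ^ 3) ^ 21 * (s * z * s⁻¹) * ((s ^ 3) ^ 21)⁻¹ := by
            rw [hσ]; simp only [mul_assoc, mul_inv_rev]
        _ = t := by rw [s1, fx1]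
    have e2 : s ^ 64 * t * (s ^ 64)⁻¹ = z * t := by
      calc s ^ 64 * t * (s ^ 64)⁻¹ = (s ^ 3) ^ 21 * (s * t * s⁻¹) * ((s ^ 3) ^ 21)⁻¹ := by
            rw [hσ]; simp only [mul_assoc, mul_inv_rev]
        _ = z * t := by rw [s2, fx2]
    generalize s ^ 64 = σ at e1 e2 ⊢
    have h4 := h.inter_conj σ (e1 ▸ hm) (e1 ▸ hne)
    intro x hx hx'
    have hin : ∀ y, y ∈ Q → σ⁻¹ * y * σ ∈ Q → y ∈ ((Q ⊓ Q.map (MulAut.conj σ).toMonoidHom : Subgroup G) : Set G) :=
      fun y hy hy' => ⟨hy, _, hy', by simp [mul_assoc]⟩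
    have i1 : σ⁻¹ * t * σ = z := by rw [← e1]; group
    have i2 : σ⁻¹ * (z * t) * σ = t := by rw [← e2]; group
    have i3 : σ⁻¹ * z * σ = z * t := by
      calc σ⁻¹ * z * σ = σ⁻¹ * (z * t) * σ * (σ⁻¹ * t⁻¹ * σ) := by group
        _ = t * z := by rw [i2, show σ⁻¹ * t⁻¹ * σ = (σ⁻¹ * t * σ)⁻¹ by group, i1, h.z_inv_eq]
        _ = z * t := htz
    have hfour : ({1, z, t, z * t} : Set G) ⊆ ((Q ⊓ Q.map (MulAut.conj σ).toMonoidHom : Subgroup G) : Set G) := by
      rintro y (rfl | rfl | rfl | rfl)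
      · exact one_mem _
      · exact hin _ h.z_mem_Q (by rw [i3]; exact mul_mem h.z_mem_Q hm)
      · exact hin _ hm (by rw [i1]; exact h.z_mem_Q)
      · exact hin _ (mul_mem h.z_mem_Q hm) (by rw [i2]; exact hm)
    have hnd : ({1, z, t, z * t} : Set G).ncard = 4 := by
      have n1 : (1 : G) ≠ z := fun e => h.z_ne e.symm
      have n3 : (1 : G) ≠ z * t := fun e => hne (by
        have := congrArg (z * ·) e
        simpa [← mul_assoc, h.z_sq] using this.symm)
      have n5 : z ≠ z * t := fun e => ht1 (mul_left_cancel (e.symm.trans (mul_one z).symm))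
      have n6 : t ≠ z * t := fun e => h.z_ne (mul_right_cancel ((one_mul t).trans e)).symm
      rw [Set.ncard_insert_of_notMem (by simp [n1, ht1.symm, n3]),
        Set.ncard_insert_of_notMem (by simp [hne.symm, n5]),
        Set.ncard_insert_of_notMem (by simp [n6]), Set.ncard_singleton]
    have heq := Set.eq_of_subset_of_ncard_le hfour (by
      rw [hnd, ← Nat.card_coe_set_eq]; exact h4.le) (Set.toFinite _)
    have := hin x hx hx'
    rw [← heq] at this
    simpa using this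

end Hyp

end CfsgLib.Recognition.UFourThree
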