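import Cfsg.Agent.Lib.Recognition.UFourThree.ShapeResult
import Cfsg.Agent.Lib.Recognition.UFourThree.Seed

/-!
# Normalised choices of `c` and `σ`
-/

set_option autoImplicit false
set_option linter.unusedSectionVars false

namespace CfsgLib.Recognition.UFourThree

open Subgroup

theorem class_ad : ∀ p < 16, brCode 0 3 3 0 p 1 = 0 → brCode 0 3 3 0 p 2 = 0 → p = 0 := by
  decide +kernel

/-- The action of `c` on the four-group. -/
def flipCode (v : ℕ) : ℕ := [0, 1, 3, 2].getD v 0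

theorem rot_flip : ∀ v < 4, rotCode (rotCode v) ^^^ flipCode v = 0 → v = 0 ∨ v = 3 := by
  decide +kernel

theorem flip_lt : ∀ v < 4, flipCode v < 4 ∧ rotCode (rotCode v) < 4 := by decide +kernel

variable {G : Type*} [Group G] [Finite G] {z : G} {Q₁ Q₂ K₁ K₂ Q : Subgroup G}

namespace Pre

variable {a b t σ c c' : G} (h : Hyp z Q₁ Q₂ K₁ K₂ Q) (S : Pre z Q₁ Q₂ Q a b t σ c c')
include h S

theorem card_four : Nat.card (four z t) = 64 := by
  have := h.card_P S.a_mem S.a_sq S.b_mem S.b_sq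
  rw [← S.t_eq] at this
  exact this

theorem x_inv : (σ * (c * c') * σ⁻¹)⁻¹ = σ * (c * c') * σ⁻¹ := by
  refine inv_eq_of_mul_eq_one_right ?_
  calc σ * (c * c') * σ⁻¹ * (σ * (c * c') * σ⁻¹) = σ * ((c * c') * (c * c')) * σ⁻¹ := by group
    _ = 1 := by rw [e_sq h S]; group

theorem a_inv : a⁻¹ = z * a := by
  refine inv_eq_of_mul_eq_one_right ?_
  rw [← mul_assoc, h.mem_C₁ S.a_mem, mul_assoc, S.a_sq, h.z_sq]

theorem zt_a : z * t * a = b := by
  rw [S.t_eq]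
  calc z * (a * b) * a = z * a * (b * a) := by group
    _ = z * (a * a) * b := by rw [← h.comm₁₂ S.a_mem S.b_mem]; group
    _ = b := by rw [S.a_sq, h.z_sq, one_mul]

theorem x_a : (σ * (c * c') * σ⁻¹) * a * (σ * (c * c') * σ⁻¹)⁻¹ = b := by
  obtain ⟨-, hxa, -⟩ := shape h S (card_four h S)
  rw [hxa, ← zt_a h S]; group

theorem x_b : (σ * (c * c') * σ⁻¹) * b * (σ * (c * c') * σ⁻¹)⁻¹ = a := by
  have e := x_a h S
  have i := x_inv h S
  generalize σ * (c * c') * σ⁻¹ = x at e i ⊢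
  calc x * b * x⁻¹ = x * (x * a * x⁻¹) * x⁻¹ := by rw [e]
    _ = (x * x) * a * (x * x)⁻¹ := by group
    _ = a := by
      have : x * x = 1 := by
        calc x * x = x⁻¹ * x := by rw [i]
          _ = 1 := inv_mul_cancel x
      rw [this]; group

theorem four_le : four z t ≤ centralizer ({z} : Set G) := inf_le_left

/-- The swap of the factors by `x`. -/
theorem x_c : (σ * (c * c') * σ⁻¹) * c * (σ * (c * c') * σ⁻¹)⁻¹ = c' ∨
    (σ * (c * c') * σ⁻¹) * c * (σ * (c * c') * σ⁻¹)⁻¹ = z * c' := by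
  obtain ⟨-, -, -, hxe, -⟩ := shape h S (card_four h S)
  have hxb := x_b h S
  have hxa := x_a h S
  have hx4 := conj_four h S (e_four h S)
  generalize σ * (c * c') * σ⁻¹ = x at hxe hxb hxa hx4 ⊢
  have hxC := four_le h S hx4
  have hz : x * z * x⁻¹ = z := by rw [(mem_four.1 hx4).1, mul_inv_cancel_right]
  have hsq : ∀ u : G, u * u = z → (x * u * x⁻¹) * (x * u * x⁻¹) = z := fun u hu => by
    calc (x * u * x⁻¹) * (x * u * x⁻¹) = x * (u * u) * x⁻¹ := by group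
      _ = z := by rw [hu, hz]
  have h2 : x * c * x⁻¹ ∈ Q₂ := by
    refine (h.four_Q (h.norm x hxC c (h.left_mem_Q S.c_mem)) (hsq c S.c_sq)).resolve_left fun h1 => S.a_c ?_
    have e := h.comm₁₂ h1 (hxa ▸ S.b_mem : x * a * x⁻¹ ∈ Q₂)
    calc a * c = x⁻¹ * ((x * a * x⁻¹) * (x * c * x⁻¹)) * x := by group
      _ = x⁻¹ * ((x * c * x⁻¹) * (x * a * x⁻¹)) * x := by rw [e]
      _ = c * a := by group
  have h1 : x * c' * x⁻¹ ∈ Q₁ := by
    refine (h.four_Q (h.norm x hxC c' (h.right_mem_Q S.c'_mem)) (hsq c' S.c'_sq)).resolve_right fun h2' =>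
      S.b_c' ?_
    have e := h.comm₁₂ (hxb ▸ S.a_mem : x * b * x⁻¹ ∈ Q₁) h2'
    calc b * c' = x⁻¹ * ((x * b * x⁻¹) * (x * c' * x⁻¹)) * x := by group
      _ = x⁻¹ * ((x * c' * x⁻¹) * (x * b * x⁻¹)) * x := by rw [e]
      _ = c' * b := by group
  have e : (x * c' * x⁻¹) * (x * c * x⁻¹) = c * c' := by
    rw [h.comm₁₂ h1 h2]
    calc x * c * x⁻¹ * (x * c' * x⁻¹) = x * (c * c') * x⁻¹ := by group
      _ = c * c' := by rw [hxe, mul_inv_cancel_right]
  rcases h.decomp_Q h1 S.c_mem h2 S.c'_mem e with ⟨-, e2⟩ | ⟨-, e2⟩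
  exacts [Or.inl e2, Or.inr e2]

theorem t_c : t * c * t = z * c := by
  have h1 := (h.p₁.flip a S.a_mem S.a_sq c S.c_mem S.c_sq S.a_c).2
  have e : t⁻¹ = t := inv_eq_of_mul_eq_one_right (klein h S).t2
  have hc : c⁻¹ = z * c := inv_eq_of_mul_eq_one_right (by
    rw [← mul_assoc, h.mem_C₁ S.c_mem, mul_assoc, S.c_sq, h.z_sq])
  calc t * c * t = t * c * t⁻¹ := by rw [e]
    _ = a * (b * c) * b⁻¹ * a⁻¹ := by rw [S.t_eq]; group
    _ = a * c * a⁻¹ := by rw [← h.comm₁₂ S.c_mem S.b_mem]; group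
    _ = z * c := by rw [h1, hc]

/-- The image of `c` under `d`. -/
theorem d_c : (σ * a * σ⁻¹) * c * (σ * a * σ⁻¹)⁻¹ = a⁻¹ * c ∨
    (σ * a * σ⁻¹) * c * (σ * a * σ⁻¹)⁻¹ = a * c := by
  obtain ⟨hda, -, hde, -⟩ := shape h S (card_four h S)
  have hd4 := conj_four h S (a_four h S)
  generalize σ * a * σ⁻¹ = d at hda hde hd4 ⊢
  have hdC := four_le h S hd4
  have hz : d * z * d⁻¹ = z := by rw [(mem_four.1 hd4).1, mul_inv_cancel_right]
  have hsq : ∀ u : G, u * u = z → (d * u * d⁻¹) * (d * u * d⁻¹) = z := fun u hu => by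
    calc (d * u * d⁻¹) * (d * u * d⁻¹) = d * (u * u) * d⁻¹ := by group
      _ = z := by rw [hu, hz]
  have hda' : d * a * d⁻¹ = a := by rw [hda, mul_inv_cancel_right]
  have hdb : d * b * d⁻¹ = b := by
    have hb : b = a⁻¹ * t := by rw [S.t_eq]; group
    rw [hb]
    calc d * (a⁻¹ * t) * d⁻¹ = (d * a * d⁻¹)⁻¹ * (d * t * d⁻¹) := by group
      _ = _ := by rw [hda', (mem_four.1 hd4).2, mul_inv_cancel_right]
  have h1 : d * c * d⁻¹ ∈ Q₁ := by
    refine (h.four_Q (h.norm d hdC c (h.left_mem_Q S.c_mem)) (hsq c S.c_sq)).resolve_right fun h2 => S.a_c ?_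
    have e := h.comm₁₂ (hda'.symm ▸ S.a_mem : d * a * d⁻¹ ∈ Q₁) h2
    calc a * c = d⁻¹ * ((d * a * d⁻¹) * (d * c * d⁻¹)) * d := by group
      _ = d⁻¹ * ((d * c * d⁻¹) * (d * a * d⁻¹)) * d := by rw [e]
      _ = c * a := by group
  have h2 : d * c' * d⁻¹ ∈ Q₂ := by
    refine (h.four_Q (h.norm d hdC c' (h.right_mem_Q S.c'_mem)) (hsq c' S.c'_sq)).resolve_left fun h1' =>
      S.b_c' ?_
    have e := h.comm₁₂ h1' (hdb.symm ▸ S.b_mem : d * b * d⁻¹ ∈ Q₂)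
    calc b * c' = d⁻¹ * ((d * b * d⁻¹) * (d * c' * d⁻¹)) * d := by group
      _ = d⁻¹ * ((d * c' * d⁻¹) * (d * b * d⁻¹)) * d := by rw [e]
      _ = c' * b := by group
  have e : (d * c * d⁻¹) * (d * c' * d⁻¹) = (z * a * c) * (b * c') := by
    calc (d * c * d⁻¹) * (d * c' * d⁻¹) = d * (c * c') * d⁻¹ := by group
      _ = z * t * (c * c') := by rw [hde]; group
      _ = z * a * (b * c) * c' := by rw [S.t_eq]; group
      _ = _ := by rw [← h.comm₁₂ S.c_mem S.b_mem]; group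
  have hm : z * a * c ∈ Q₁ := mul_mem (mul_mem h.p₁.z_mem S.a_mem) S.c_mem
  rcases h.decomp_Q h1 hm h2 (mul_mem S.b_mem S.c'_mem) e with ⟨e1, -⟩ | ⟨e1, -⟩
  · exact Or.inl (by rw [e1, a_inv h S])
  · exact Or.inr (by rw [e1, ← mul_assoc, ← mul_assoc, h.z_sq, one_mul])

/-- Changing `c` to `c * a`. -/
theorem change_c : Pre z Q₁ Q₂ Q a b t σ (c * a) (c' * b) := by
  refine ⟨S.toSeed, mul_mem S.c_mem S.a_mem, ?_, fun e => S.a_c ?_, mul_mem S.c'_mem S.b_mem, ?_,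
    fun e => S.b_c' ?_⟩
  · calc c * a * (c * a) = c * (a * c) * a := by group
      _ = c * z * (c * (a * a)) := by rw [(flip₁ h S).1]; group
      _ = z * (c * c) * (a * a) := by rw [h.mem_C₁ S.c_mem]; group
      _ = z := by rw [S.c_sq, S.a_sq, h.z_sq, one_mul]
  · exact mul_right_cancel (b := a) (by rw [mul_assoc, e])
  · calc c' * b * (c' * b) = c' * (b * c') * b := by group
      _ = c' * z * (c' * (b * b)) := by rw [(flip₂ h S).1]; group
      _ = z * (c' * c') * (b * b) := by rw [h.mem_C₂ S.c'_mem]; group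
      _ = z := by rw [S.c'_sq, S.b_sq, h.z_sq, one_mul]
  · exact mul_right_cancel (b := b) (by rw [mul_assoc, e])

/-- Multiplying `σ` by an element of `Q` centralising the four-group. -/
theorem change_σ {e : G} (he : e ∈ four z t) (heQ : e ∈ Q) (h3 : (σ * e) ^ 3 = 1) :
    Pre z Q₁ Q₂ Q a b t (σ * e) c c' := by
  obtain ⟨e1, e2⟩ := mem_four.1 he
  refine ⟨⟨S.a_mem, S.a_sq, S.b_mem, S.b_sq, S.t_eq, h3, ?_, ?_, ?_⟩, S.c_mem, S.c_sq, S.a_c,
    S.c'_mem, S.c'_sq, S.b_c'⟩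
  · calc σ * e * z * (σ * e)⁻¹ = σ * (e * z * e⁻¹) * σ⁻¹ := by group
      _ = t := by rw [e1, mul_inv_cancel_right, S.sigma_z]
  · calc σ * e * t * (σ * e)⁻¹ = σ * (e * t * e⁻¹) * σ⁻¹ := by group
      _ = z * t := by rw [e2, mul_inv_cancel_right, S.sigma_t]
  · intro g hg hg'
    refine S.inter g hg ?_
    have := h.norm e (four_le h S he) _ hg'
    simpa [mul_assoc] using this

/-- The inverting relation of `c`. -/
theorem inverter (hp : σ * c * σ * c⁻¹ = a * (σ * a * σ⁻¹)) :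
    c * σ * c⁻¹ * σ * (σ * a * σ⁻¹) = 1 := by
  obtain ⟨hda, -, -, -, hf, -⟩ := shape h S (card_four h S)
  have hrot : ∀ g : G, σ⁻¹ * g * σ = σ * (σ * g * σ⁻¹) * σ⁻¹ := fun g => by
    calc σ⁻¹ * g * σ = σ⁻¹ * σ ^ 3 * g * (σ ^ 3)⁻¹ * σ := by rw [S.sigma3]; simp
      _ = _ := by rw [pow_three]; group
  have hd0 : σ⁻¹ * a * σ = a * (σ * a * σ⁻¹) * (z * t) := by
    rw [hrot, hf]
  have hzt4 : a * (z * t) = z * t * a := Klein.xi_comm (a_four h S) (i := 3) (by norm_num)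
  calc c * σ * c⁻¹ * σ * (σ * a * σ⁻¹) = σ⁻¹ * (σ * c * σ * c⁻¹) * σ * (σ * a * σ⁻¹) := by group
    _ = (σ⁻¹ * a * σ) * a * (σ * a * σ⁻¹) := by rw [hp]; group
    _ = a * (σ * a * σ⁻¹) * (z * t * a) * (σ * a * σ⁻¹) := by rw [hd0]; group
    _ = a * ((σ * a * σ⁻¹) * a) * ((z * t) * (σ * a * σ⁻¹)) := by rw [← hzt4]; group
    _ = (a * a) * (σ * a * σ⁻¹) * ((z * t) * (σ * a * σ⁻¹)) := by rw [hda]; group
    _ = z * (σ * a * σ⁻¹) * ((σ * a * σ⁻¹) * xi z t 3) := by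
        rw [S.a_sq, Klein.xi_comm (conj_four h S (a_four h S)) (i := 3) (by norm_num)]; rfl
    _ = z * (σ * (a * a) * σ⁻¹) * (z * t) := by rw [xi_three]; group
    _ = 1 := by
        rw [S.a_sq, S.sigma_z]
        exact (klein h S).xi_sq (i := 3) (by norm_num)

end Pre

/-- The first two normalisations. -/
theorem exists_pre (h : Hyp z Q₁ Q₂ K₁ K₂ Q) : ∃ a b t σ c c', Pre z Q₁ Q₂ Q a b t σ c c' ∧
    (σ * (c * c') * σ⁻¹) * c * (σ * (c * c') * σ⁻¹)⁻¹ = c' ∧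
    (σ * a * σ⁻¹) * c * (σ * a * σ⁻¹)⁻¹ = a⁻¹ * c := by
  obtain ⟨a, b, t, σ, S⟩ := h.exists_seed
  obtain ⟨c, hc, hc2, hn⟩ := h.p₁.other a S.a_mem S.a_sq
  obtain ⟨c', hc', hc2', hn'⟩ := h.p₂.other b S.b_mem S.b_sq
  have S0 : Pre z Q₁ Q₂ Q a b t σ c c' := ⟨S, hc, hc2, hn, hc', hc2', hn'⟩
  obtain ⟨c, c', S1, hx⟩ : ∃ c c', Pre z Q₁ Q₂ Q a b t σ c c' ∧
      (σ * (c * c') * σ⁻¹) * c * (σ * (c * c') * σ⁻¹)⁻¹ = c' := by
    rcases Pre.x_c h S0 with e | e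
    · exact ⟨c, c', S0, e⟩
    refine ⟨c * a, c' * b, Pre.change_c h S0, ?_⟩
    have K := Pre.klein h S0
    have hxe : σ * (c * a * (c' * b)) * σ⁻¹ = σ * (c * c') * σ⁻¹ * (z * t) := by
      rw [← S.sigma_t, S.t_eq]
      calc σ * (c * a * (c' * b)) * σ⁻¹ = σ * (c * (a * c') * b) * σ⁻¹ := by group
        _ = _ := by rw [h.comm₁₂ S.a_mem hc']; group
    rw [hxe]
    have hxa := Pre.x_a h S0
    have hx4 := Pre.conj_four h S0 (Pre.e_four h S0)
    have htc := Pre.t_c h S0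
    generalize σ * (c * c') * σ⁻¹ = x at e hxa hx4 ⊢
    have hti : t⁻¹ = t := inv_eq_of_mul_eq_one_right K.t2
    have ha := (mem_four.1 (Pre.a_four h S0))
    calc x * (z * t) * (c * a) * (x * (z * t))⁻¹
        = x * (z * (t * c * t⁻¹) * (t * a * t⁻¹) * z⁻¹) * x⁻¹ := by group
      _ = x * (z * (z * c) * a * z) * x⁻¹ := by
          rw [hti, htc, h.z_inv_eq, ← ha.2, mul_assoc a, K.t2, mul_one]
      _ = x * (c * (a * z)) * x⁻¹ := by rw [← mul_assoc z z, h.z_sq, one_mul]; group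
      _ = (x * c * x⁻¹) * (x * a * x⁻¹) * (x * z * x⁻¹) := by group
      _ = z * c' * b * z := by rw [e, hxa, (mem_four.1 hx4).1, mul_inv_cancel_right]
      _ = c' * b := by
          rw [mul_assoc z c' b, mul_assoc z, h.mem_C₂ (mul_mem hc' S.b_mem), ← mul_assoc, h.z_sq, one_mul]
  rcases Pre.d_c h S1 with e | e
  · exact ⟨a, b, t, σ, c, c', S1, hx, e⟩
  obtain ⟨-, -, hde, hxe, -, hsx, -⟩ := Pre.shape h S1 (Pre.card_four h S1)
  have K := Pre.klein h S1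
  have he4 := Pre.e_four h S1
  have e3 : (σ * (c * c')) ^ 3 = 1 := by
    calc (σ * (c * c')) ^ 3
        = (σ * (c * c') * σ⁻¹) * (σ * (σ * (c * c') * σ⁻¹) * σ⁻¹) * (σ * σ * σ) * (c * c') := by
            rw [pow_three]; group
      _ = (σ * (c * c') * σ⁻¹) * (σ * (σ * (c * c') * σ⁻¹) * σ⁻¹) * (σ ^ 3) * (c * c') := by
            rw [pow_three]; group
      _ = ((σ * (c * c') * σ⁻¹) * (c * c')) * (σ * (c * c') * σ⁻¹) * (c * c') := by rw [S.sigma3, hsx]; group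
      _ = (c * c') * ((σ * (c * c') * σ⁻¹) * (σ * (c * c') * σ⁻¹)) * (c * c') := by rw [hxe]; group
      _ = (c * c') * (σ * ((c * c') * (c * c')) * σ⁻¹) * (c * c') := by group
      _ = 1 := by rw [Pre.e_sq h S1, mul_one, mul_inv_cancel, mul_one, Pre.e_sq h S1]
  refine ⟨a, b, t, σ * (c * c'), c, c',
    Pre.change_σ h S1 he4 ((h.mem_Q _).2 ⟨c, S1.c_mem, c', S1.c'_mem, rfl⟩) e3, ?_, ?_⟩
  · have : σ * (c * c') * (c * c') * (σ * (c * c'))⁻¹ = σ * (c * c') * σ⁻¹ := by group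
    rw [this]
    exact hx
  · have hd : σ * (c * c') * a * (σ * (c * c'))⁻¹ = t * (σ * a * σ⁻¹) := by
      have hb := (Klein.br_symm K (Pre.br_ae h S1)).2
      rw [xi_one] at hb
      rw [← S.sigma_z]
      calc σ * (c * c') * a * (σ * (c * c'))⁻¹ = σ * ((c * c') * a) * (c * c')⁻¹ * σ⁻¹ := by group
        _ = _ := by rw [hb]; group
    rw [hd]
    have htc := Pre.t_c h S1
    have hta := (mem_four.1 (Pre.a_four h S1)).2
    generalize σ * a * σ⁻¹ = d at e ⊢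
    have hti : t⁻¹ = t := inv_eq_of_mul_eq_one_right K.t2
    calc t * d * c * (t * d)⁻¹ = t * (d * c * d⁻¹) * t⁻¹ := by group
      _ = t * a * c * t := by rw [e, hti]; group
      _ = a * (t * c * t) := by rw [← hta]; group
      _ = a⁻¹ * c := by rw [htc, Pre.a_inv h S1, ← mul_assoc, ← h.mem_C₁ S.a_mem]

/-- All normalisations. -/
theorem exists_choices (h : Hyp z Q₁ Q₂ K₁ K₂ Q) : ∃ a b t σ c c', Pre z Q₁ Q₂ Q a b t σ c c' ∧
    (σ * (c * c') * σ⁻¹) * c * (σ * (c * c') * σ⁻¹)⁻¹ = c' ∧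
    (σ * a * σ⁻¹) * c * (σ * a * σ⁻¹)⁻¹ = a⁻¹ * c ∧
    c * σ * c⁻¹ * σ * (σ * a * σ⁻¹) = 1 := by
  obtain ⟨a, b, t, σ, c, c', S, hx, hd⟩ := exists_pre h
  have K := Pre.klein h S
  have hP := Pre.card_four h S
  obtain ⟨hda, hxa, hde, hxe, hf, hsx, hall⟩ := Pre.shape h S hP
  have ma := Pre.a_four h S
  have me := Pre.e_four h S
  have md := Pre.conj_four h S ma
  have mx := Pre.conj_four h S me
  have htc := Pre.t_c h S
  have hzc := h.mem_C₁ S.c_mem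
  have hti : t⁻¹ = t := inv_eq_of_mul_eq_one_right K.t2
  have hzt : σ * (z * t) * σ⁻¹ = z := Pre.xi_rot h S (i := 3) (by norm_num)
  have hai := Pre.a_inv h S
  -- conjugation by `c`
  have ca : c * a * c⁻¹ = z * a := by
    rw [(h.p₁.flip a S.a_mem S.a_sq c S.c_mem S.c_sq S.a_c).1, hai]
  have ca' : c⁻¹ * a * c = z * a := by
    calc c⁻¹ * a * c = c⁻¹ * (z * (c * a * c⁻¹)) * c := by rw [ca, ← mul_assoc z, h.z_sq, one_mul]
      _ = (c⁻¹ * z) * c * a := by group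
      _ = z * a := by rw [mul_assoc c⁻¹, ← hzc, inv_mul_cancel_left]
  have ct : c * t * c⁻¹ = z * t := by
    calc c * t * c⁻¹ = c * t * c⁻¹ * (t * t) := by rw [K.t2, mul_one]
      _ = c * (t * c * t)⁻¹ * t := by
          rw [show (t * c * t)⁻¹ = t⁻¹ * c⁻¹ * t⁻¹ by group, hti]; group
      _ = z * t := by rw [htc, mul_inv_rev, mul_inv_cancel_left, h.z_inv_eq]
  have cd : c * (σ * a * σ⁻¹) * c⁻¹ = a * (σ * a * σ⁻¹) := by
    have e0 : (a⁻¹ * c)⁻¹ * (σ * a * σ⁻¹) = (σ * a * σ⁻¹) * c⁻¹ := by rw [← hd]; group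
    rw [mul_assoc c, ← e0]; group
  have cx : c * (σ * (c * c') * σ⁻¹) * c⁻¹ = z * (c * c') * (σ * (c * c') * σ⁻¹) := by
    have gen : ∀ X u : G, X * c * X⁻¹ = u → u⁻¹ * X = X * c⁻¹ := by
      intro X u e; rw [← e]; group
    have e0 := gen _ _ hx
    rw [mul_assoc c, ← e0, show c'⁻¹ = z * c' from inv_eq_of_mul_eq_one_right (by
      rw [← mul_assoc, h.mem_C₂ S.c'_mem, mul_assoc, S.c'_sq, h.z_sq])]
    calc c * (z * c' * (σ * (c * c') * σ⁻¹)) = (c * z) * c' * (σ * (c * c') * σ⁻¹) := by group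
      _ = _ := by rw [hzc]; group
  have ce : c⁻¹ * (c * c') * c = c * c' := by rw [inv_mul_cancel_left, h.comm₁₂ S.c_mem S.c'_mem]
  set p := σ * c * σ * c⁻¹ with hp
  have hcz : c⁻¹ * z * c = z := by rw [mul_assoc, ← hzc, inv_mul_cancel_left]
  have pz : p * z * p⁻¹ = z := by
    calc p * z * p⁻¹ = σ * (c * (σ * (c⁻¹ * z * c) * σ⁻¹) * c⁻¹) * σ⁻¹ := by rw [hp]; group
      _ = z := by rw [hcz, S.sigma_z, ct, hzt]
  have hct' : c⁻¹ * t * c = z * t := by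
    calc c⁻¹ * t * c = c⁻¹ * (z * (c * t * c⁻¹)) * c := by rw [ct, ← mul_assoc z, h.z_sq, one_mul]
      _ = (c⁻¹ * z) * c * t := by group
      _ = z * t := by rw [mul_assoc c⁻¹, ← hzc, inv_mul_cancel_left]
  have pt : p * t * p⁻¹ = t := by
    calc p * t * p⁻¹ = σ * (c * (σ * (c⁻¹ * t * c) * σ⁻¹) * c⁻¹) * σ⁻¹ := by rw [hp]; group
      _ = t := by rw [hct', hzt, hzc, mul_inv_cancel_right, S.sigma_z]
  have p4 : p ∈ four z t := mem_four.2 ⟨mul_inv_eq_iff_eq_mul.1 pz, mul_inv_eq_iff_eq_mul.1 pt⟩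
  have pa : p * a * p⁻¹ = a := by
    calc p * a * p⁻¹ = σ * (c * (σ * (c⁻¹ * a * c) * σ⁻¹) * c⁻¹) * σ⁻¹ := by rw [hp]; group
      _ = σ * ((c * t * c⁻¹) * (c * (σ * a * σ⁻¹) * c⁻¹)) * σ⁻¹ := by rw [ca', ← S.sigma_z]; group
      _ = (σ * (z * t) * σ⁻¹) * ((σ * a * σ⁻¹) * (σ * (σ * a * σ⁻¹) * σ⁻¹)) := by rw [ct, cd]; group
      _ = z * (((σ * a * σ⁻¹) * a) * (σ * a * σ⁻¹) * (z * t)) := by rw [hzt, hf]; group
      _ = z * a * ((σ * a * σ⁻¹) * (σ * a * σ⁻¹)) * (z * t) := by rw [hda]; group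
      _ = z * a * t * (z * t) := by
          rw [show (σ * a * σ⁻¹) * (σ * a * σ⁻¹) = σ * (a * a) * σ⁻¹ by group, S.a_sq, S.sigma_z]
      _ = a := by
          rw [mul_assoc (z * a), K.comm, ← mul_assoc t, K.t2, one_mul, mul_assoc z, h.mem_C₁ S.a_mem,
            ← mul_assoc, h.z_sq, one_mul]
  have pe : p * (c * c') * p⁻¹ = t * (c * c') := by
    calc p * (c * c') * p⁻¹
        = σ * (c * (σ * (c⁻¹ * (c * c') * c) * σ⁻¹) * c⁻¹) * σ⁻¹ := by rw [hp]; group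
      _ = σ * z * σ⁻¹ * ((σ * (c * c') * σ⁻¹) * (σ * (σ * (c * c') * σ⁻¹) * σ⁻¹)) := by rw [ce, cx]; group
      _ = t * (((σ * (c * c') * σ⁻¹) * (c * c')) * (σ * (c * c') * σ⁻¹)) := by rw [S.sigma_z, hsx]; group
      _ = t * (c * c') := by
          rw [hxe, show (c * c') * (σ * (c * c') * σ⁻¹) * (σ * (c * c') * σ⁻¹) =
            (c * c') * (σ * ((c * c') * (c * c')) * σ⁻¹) by group, Pre.e_sq h S, mul_one,
            mul_inv_cancel, mul_one]
  -- `p` is `a * d` up to the four-group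
  have H1 : Br z t a (σ * a * σ⁻¹) 0 := ⟨by norm_num, by rw [xi_zero, one_mul, hda]⟩
  have H2 : Br z t a (σ * (c * c') * σ⁻¹) 3 := K.br_symm ⟨by norm_num, hxa⟩
  have H3 : Br z t (c * c') (σ * a * σ⁻¹) 3 := K.br_symm ⟨by norm_num, hde⟩
  have H4 : Br z t (c * c') (σ * (c * c') * σ⁻¹) 0 := ⟨by norm_num, by rw [xi_zero, one_mul, hxe]⟩
  obtain ⟨q, hq, v, hv, epq⟩ := hall _ (mul_mem (inv_mem (mul_mem ma md)) p4)
  have hbr : ∀ {u : G} {k i : ℕ}, k < 16 → nf a (c * c') (σ * a * σ⁻¹) (σ * (c * c') * σ⁻¹) k = u →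
      u ∈ four z t →
      Br z t ((a * (σ * a * σ⁻¹))⁻¹ * p) u i → brCode 0 3 3 0 q k = i := by
    intro u k i hk eu hu hb
    rw [epq] at hb
    have h2 := K.br_mul (Pre.nf_mem h S q) (Pre.br_nf h S H1 H2 H3 H4 q k)
      (Klein.br_xi (Pre.nf_mem h S k) hv)
    rw [Nat.xor_zero, eu] at h2
    exact K.br_unique h2 hb
  have zade : (a * (σ * a * σ⁻¹)) * (c * c') * (a * (σ * a * σ⁻¹))⁻¹ = t * (c * c') := by
    have hae := (Pre.br_ae h S).2
    rw [xi_one] at hae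
    have hzt4 : a * (z * t) = z * t * a := Klein.xi_comm ma (i := 3) (by norm_num)
    calc (a * (σ * a * σ⁻¹)) * (c * c') * (a * (σ * a * σ⁻¹))⁻¹
        = a * (((σ * a * σ⁻¹) * (c * c')) * (σ * a * σ⁻¹)⁻¹) * a⁻¹ := by group
      _ = a * (z * t) * ((c * c') * a⁻¹) := by rw [hde]; group
      _ = z * t * (a * (c * c')) * a⁻¹ := by rw [hzt4]; group
      _ = z * t * z * (c * c') := by rw [hae]; group
      _ = t * (c * c') := by rw [K.comm, mul_assoc t, h.z_sq, mul_one]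
  have q0 : q = 0 := by
    refine class_ad q hq (hbr (k := 1) (i := 0) (by norm_num) (by simp [nf, bit4]) ma ?_)
      (hbr (k := 2) (i := 0) (by norm_num) (by simp [nf, bit4]) me ?_)
    · refine ⟨by norm_num, ?_⟩
      rw [xi_zero, one_mul]
      have e1 : p * a = a * p := mul_inv_eq_iff_eq_mul.1 pa
      have e2 : Commute (a * (σ * a * σ⁻¹)) a := Commute.mul_left (Commute.refl a) hda
      exact (Commute.mul_left e2.inv_left e1).eq
    · refine ⟨by norm_num, ?_⟩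
      rw [xi_zero, one_mul]
      calc (a * (σ * a * σ⁻¹))⁻¹ * p * (c * c')
          = (a * (σ * a * σ⁻¹))⁻¹ * (p * (c * c') * p⁻¹) * p := by group
        _ = (c * c') * ((a * (σ * a * σ⁻¹))⁻¹ * p) := by rw [pe, ← zade]; group
  subst q0
  have hpv : p = a * (σ * a * σ⁻¹) * xi z t v := by
    have : (a * (σ * a * σ⁻¹))⁻¹ * p = xi z t v := by rw [epq]; simp [nf, bit4]
    rw [← this]; group
  have hvv : v = 0 ∨ v = 3 := by
    obtain ⟨hfl, hrr⟩ := flip_lt v hv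
    have hr1 := (xor_lt4 v hv v hv).2.2
    have hcv : c * xi z t v * c⁻¹ = xi z t (flipCode v) := by
      have hzc' : c * z * c⁻¹ = z := by rw [hzc, mul_inv_cancel_right]
      have hc3 : c * (z * t) * c⁻¹ = t := by
        rw [show c * (z * t) * c⁻¹ = (c * z * c⁻¹) * (c * t * c⁻¹) by group, hzc', ct, ← mul_assoc,
          h.z_sq, one_mul]
      interval_cases v <;> simp [xi, flipCode, hzc', ct, hc3]
    have hrot : ∀ g : G, σ⁻¹ * g * σ = σ * (σ * g * σ⁻¹) * σ⁻¹ := fun g => by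
      calc σ⁻¹ * g * σ = σ⁻¹ * σ ^ 3 * g * (σ ^ 3)⁻¹ * σ := by rw [S.sigma3]; simp
        _ = _ := by rw [pow_three]; group
    have hsv : σ⁻¹ * xi z t v * σ = xi z t (rotCode (rotCode v)) := by
      rw [hrot, Pre.xi_rot h S hv, Pre.xi_rot h S hr1]
    -- `c²=z` gives the equation
    have e1 : c * p * c⁻¹ = (σ⁻¹ * p * σ) * t := by
      have hz : c⁻¹ * z = c := by rw [← S.c_sq, inv_mul_cancel_left]
      have hzi : σ⁻¹ * z * σ = z * t := Pre.sigma_inv_z h S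
      have hcc : c * c * σ * (c * c)⁻¹ = z * σ * z⁻¹ := by rw [S.c_sq]
      have h5 : c * p * c⁻¹ = c * σ * c * (σ * (c * c)⁻¹) := by rw [hp]; group
      have h6 : (σ⁻¹ * p * σ) * t = c * σ * (c⁻¹ * (σ * t)) := by rw [hp]; group
      rw [h5, h6]
      calc c * σ * c * (σ * (c * c)⁻¹) = c * σ * (c⁻¹ * ((c * c) * σ * (c * c)⁻¹)) := by group
        _ = c * σ * (c⁻¹ * (σ * ((σ⁻¹ * z * σ) * z⁻¹))) := by rw [hcc]; group
        _ = c * σ * (c⁻¹ * (σ * t)) := by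
            rw [hzi, h.z_inv_eq, K.comm, mul_assoc t, h.z_sq, mul_one]
    have hd0 : σ⁻¹ * a * σ = a * (σ * a * σ⁻¹) * (z * t) := by
      rw [hrot, hf]
    have e2 : c * p * c⁻¹ = (σ * a * σ⁻¹) * xi z t (flipCode v) := by
      rw [← hcv, hpv]
      calc c * (a * (σ * a * σ⁻¹) * xi z t v) * c⁻¹
          = (c * a * c⁻¹) * (c * (σ * a * σ⁻¹) * c⁻¹) * (c * xi z t v * c⁻¹) := by group
        _ = (z * (a * a)) * (σ * a * σ⁻¹) * (c * xi z t v * c⁻¹) := by rw [ca, cd]; group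
        _ = _ := by rw [S.a_sq, h.z_sq, one_mul]
    have e3 : σ⁻¹ * p * σ * t = (σ * a * σ⁻¹) * (xi z t (rotCode (rotCode v))) := by
      rw [← hsv, hpv]
      have hzt4 : a * (z * t) = z * t * a := Klein.xi_comm ma (i := 3) (by norm_num)
      calc σ⁻¹ * (a * (σ * a * σ⁻¹) * xi z t v) * σ * t
          = (σ⁻¹ * a * σ) * a * ((σ⁻¹ * xi z t v * σ) * t) := by group
        _ = a * (σ * a * σ⁻¹) * (z * t * a) * ((σ⁻¹ * xi z t v * σ) * t) := by rw [hd0]; group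
        _ = a * ((σ * a * σ⁻¹) * a) * ((z * t) * ((σ⁻¹ * xi z t v * σ) * t)) := by rw [← hzt4]; group
        _ = (a * a) * (σ * a * σ⁻¹) * ((z * t) * ((σ⁻¹ * xi z t v * σ) * t)) := by rw [hda]; group
        _ = (σ * a * σ⁻¹) * z * ((z * t) * (t * (σ⁻¹ * xi z t v * σ))) := by
            have tm : t * xi z t (rotCode (rotCode v)) = xi z t (rotCode (rotCode v)) * t :=
              Klein.xi_comm (K.xi_mem (i := 2) (by norm_num)) hrr
            rw [S.a_sq, (mem_four.1 md).1, hsv, tm]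
        _ = _ := by
            rw [show (σ * a * σ⁻¹) * z * ((z * t) * (t * (σ⁻¹ * xi z t v * σ))) =
              (σ * a * σ⁻¹) * ((z * z) * (t * t) * (σ⁻¹ * xi z t v * σ)) by group, h.z_sq, K.t2, one_mul,
              one_mul]
    have e4 := mul_left_cancel ((e2.symm.trans e1).trans e3)
    have h9 := K.xi_inj hfl hrr e4
    exact rot_flip v hv (by rw [← h9, Nat.xor_self])
  rcases hvv with rfl | rfl
  · refine ⟨a, b, t, σ, c, c', S, hx, hd, Pre.inverter h S ?_⟩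
    rw [xi_zero, mul_one] at hpv
    exact hpv
  · have z3 : (σ * z) ^ 3 = 1 := by
      calc (σ * z) ^ 3 = (σ * z * σ⁻¹) * (σ * (σ * z * σ⁻¹) * σ⁻¹) * σ ^ 3 * z := by
            rw [pow_three, pow_three]; group
        _ = t * (z * t) * z := by rw [S.sigma3, S.sigma_z, S.sigma_t, mul_one]
        _ = 1 := by rw [K.comm, ← mul_assoc t, K.t2, one_mul, h.z_sq]
    have S' := Pre.change_σ h S (Klein.xi_mem K (i := 1) (by norm_num)) h.z_mem_Q z3
    rw [xi_one] at S'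
    have hcon : ∀ g : G, g * z = z * g → σ * z * g * (σ * z)⁻¹ = σ * g * σ⁻¹ := fun g hg => by
      calc σ * z * g * (σ * z)⁻¹ = σ * ((z * g) * z⁻¹) * σ⁻¹ := by group
        _ = _ := by rw [← hg, mul_inv_cancel_right]
    refine ⟨a, b, t, σ * z, c, c', S', ?_, ?_, Pre.inverter h S' ?_⟩
    · rw [hcon _ (mem_four.1 me).1]; exact hx
    · rw [hcon _ (mem_four.1 ma).1]; exact hd
    · rw [hcon _ (mem_four.1 ma).1]
      have e1 : z * σ * z = σ * t := by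
        calc z * σ * z = σ * ((σ⁻¹ * z * σ) * z) := by group
          _ = σ * t := by rw [Pre.sigma_inv_z h S, K.comm, mul_assoc t, h.z_sq, mul_one]
      calc σ * z * c * (σ * z) * c⁻¹ = σ * (z * c) * (σ * z) * c⁻¹ := by group
        _ = σ * c * (z * σ * z) * c⁻¹ := by rw [← hzc]; group
        _ = p * (c * t * c⁻¹) := by rw [e1, hp]; group
        _ = _ := by rw [ct, hpv, xi_three, mul_assoc, show z * t * (z * t) = 1 from K.xi_sq (i := 3) (by norm_num), mul_one]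

end CfsgLib.Recognition.UFourThree
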