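import Mathlib

/-!
# The two-bit codes of the four-group and the finite search for the shape of `C(z) ∩ C(t)`

The four-group `⟨z, t⟩` is coded by `0, 1, 2, 3`; classes modulo the four-group by four bits,
belonging to `a, e, d, x`.
-/

set_option autoImplicit false

namespace CfsgLib.Recognition.UFourThree

/-- A bit. -/
def bit4 (p i : ℕ) : ℕ := p / 2 ^ i % 2

/-- Commutator codes of the generators; `k` lists those of `(a,d)`, `(a,x)`, `(e,d)`, `(e,x)`. -/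
def genCode (k₁ k₂ k₃ k₄ i j : ℕ) : ℕ :=
  [[0, 1, k₁, k₂], [1, 0, k₃, k₄], [k₁, k₃, 0, 2], [k₂, k₄, 2, 0]].getD i [] |>.getD j 0

/-- The commutator code of a generator with a class. -/
def rowCode (k₁ k₂ k₃ k₄ i q : ℕ) : ℕ :=
  bit4 q 0 * genCode k₁ k₂ k₃ k₄ i 0 ^^^ (bit4 q 1 * genCode k₁ k₂ k₃ k₄ i 1 ^^^
    (bit4 q 2 * genCode k₁ k₂ k₃ k₄ i 2 ^^^ bit4 q 3 * genCode k₁ k₂ k₃ k₄ i 3))

/-- The commutator code of two classes. -/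
def brCode (k₁ k₂ k₃ k₄ p q : ℕ) : ℕ :=
  bit4 p 0 * rowCode k₁ k₂ k₃ k₄ 0 q ^^^ (bit4 p 1 * rowCode k₁ k₂ k₃ k₄ 1 q ^^^
    (bit4 p 2 * rowCode k₁ k₂ k₃ k₄ 2 q ^^^ bit4 p 3 * rowCode k₁ k₂ k₃ k₄ 3 q))

/-- The code of the square of a class. -/
def sqCode (k₁ k₂ k₃ k₄ p : ℕ) : ℕ :=
  bit4 p 0 * 1 ^^^ (bit4 p 2 * 2 ^^^
    (bit4 p 0 * (bit4 p 1 * 1 ^^^ (bit4 p 2 * k₁ ^^^ bit4 p 3 * k₂)) ^^^
      (bit4 p 1 * (bit4 p 2 * k₃ ^^^ bit4 p 3 * k₄) ^^^ bit4 p 2 * (bit4 p 3 * 2))))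

/-- The image of a class under the element of order three. -/
def imCode (f g p : ℕ) : ℕ :=
  bit4 p 0 * 4 ^^^ (bit4 p 1 * 8 ^^^ (bit4 p 2 * f ^^^ bit4 p 3 * g))

/-- The element of order three on the four-group. -/
def rotCode (v : ℕ) : ℕ := [0, 2, 3, 1].getD v 0

/-- The conditions. -/
def Fits (k₁ k₂ k₃ k₄ f g : ℕ) : Prop :=
  imCode f g f = 1 ∧ imCode f g g = 2 ∧
    ∀ i < 4, ∀ j < i,
      brCode k₁ k₂ k₃ k₄ (imCode f g (2 ^ i)) (imCode f g (2 ^ j)) =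
        rotCode (brCode k₁ k₂ k₃ k₄ (2 ^ i) (2 ^ j))

instance (k₁ k₂ k₃ k₄ f g : ℕ) : Decidable (Fits k₁ k₂ k₃ k₄ f g) := by
  unfold Fits; infer_instance

/-- No nonidentity class of the second summand fixes both factors. -/
def Faith (k₁ k₂ k₃ k₄ : ℕ) : Prop :=
  ∀ w ∈ [4, 8, 12], ¬ (brCode k₁ k₂ k₃ k₄ 1 w < 2 ∧ brCode k₁ k₂ k₃ k₄ 2 w < 2)

instance (k₁ k₂ k₃ k₄ : ℕ) : Decidable (Faith k₁ k₂ k₃ k₄) := by unfold Faith; infer_instance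


/-- All the conditions on the codes. -/
def Admissible (k₁ k₂ k₃ k₄ f g : ℕ) : Prop :=
  sqCode k₁ k₂ k₃ k₄ f = 3 ∧ sqCode k₁ k₂ k₃ k₄ g = 0 ∧ sqCode k₁ k₂ k₃ k₄ (f ^^^ g) = 0 ∧
    Fits k₁ k₂ k₃ k₄ f g

instance (k₁ k₂ k₃ k₄ f g : ℕ) : Decidable (Admissible k₁ k₂ k₃ k₄ f g) := by
  unfold Admissible; infer_instance

theorem shape_search : (List.range 256).all (fun k =>
    !decide (Faith (k % 4) (k / 4 % 4) (k / 16 % 4) (k / 64)) ||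
      (List.range 16).all fun f => (List.range 16).all fun g =>
        !decide (Admissible (k % 4) (k / 4 % 4) (k / 16 % 4) (k / 64) f g) ||
          decide (k % 4 = 0 ∧ k / 4 % 4 = 3 ∧ k / 16 % 4 = 3 ∧ k / 64 = 0 ∧ f = 5 ∧ g = 10)) = true := by
  decide +kernel

/-- The shape is unique. -/
theorem shape_unique {k₁ k₂ k₃ k₄ f g : ℕ} (h₁ : k₁ < 4) (h₂ : k₂ < 4) (h₃ : k₃ < 4) (h₄ : k₄ < 4)
    (hF : Faith k₁ k₂ k₃ k₄) (hf : f < 16) (hg : g < 16) (hA : Admissible k₁ k₂ k₃ k₄ f g) :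
    k₁ = 0 ∧ k₂ = 3 ∧ k₃ = 3 ∧ k₄ = 0 ∧ f = 5 ∧ g = 10 := by
  have h := List.all_eq_true.1 shape_search (k₁ + 4 * k₂ + 16 * k₃ + 64 * k₄)
    (List.mem_range.2 (by omega))
  rw [show (k₁ + 4 * k₂ + 16 * k₃ + 64 * k₄) % 4 = k₁ by omega,
    show (k₁ + 4 * k₂ + 16 * k₃ + 64 * k₄) / 4 % 4 = k₂ by omega,
    show (k₁ + 4 * k₂ + 16 * k₃ + 64 * k₄) / 16 % 4 = k₃ by omega,
    show (k₁ + 4 * k₂ + 16 * k₃ + 64 * k₄) / 64 = k₄ by omega] at h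
  simp only [Bool.or_eq_true, Bool.not_eq_true', decide_eq_false_iff_not, hF, not_true_eq_false,
    false_or, List.all_eq_true, List.mem_range, decide_eq_true_eq] at h
  exact (h f hf g hg).resolve_left (not_not_intro hA)

theorem xor_lt4 : ∀ i < 4, ∀ j < 4, i ^^^ j < 4 ∧ (i ^^^ j = 0 → i = j) ∧ rotCode i < 4 := by
  decide +kernel

end CfsgLib.Recognition.UFourThree
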