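import Cfsg.Agent.Lib.Recognition.UFourThree.ThreeLocal

/-!
# From a swap of a four group to the `3`-local fact

`T` exchanges `z` and `w` and normalises `⟨y⟩`; `m` fixes `z`, moves `w` and inverts `y`. Then a `3`-element of
`C(y)` cycles the four group and some involution inverts it together with `y`.
-/

set_option autoImplicit false

namespace CfsgLib.Recognition.UFourThree

open Subgroup

variable {G : Type*} [Group G] [Finite G]

/-- The elements of order `3` of `C(y, z)` and `C(y, w)` commute, given a swap `T` and an inverting involution `m`. -/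
theorem commute_of_swap {z w y T m x x2 : G} (hy : orderOf y = 3) (hz : orderOf z = 2) (hw : orderOf w = 2)
    (hzw : z ≠ w) (hzwc : Commute z w) (hzy : Commute z y) (hwy : Commute w y)
    (hTz : T * z * T⁻¹ = w) (hTw : T * w * T⁻¹ = z) (hTy : T * y * T⁻¹ = y ∨ T * y * T⁻¹ = y⁻¹)
    (hm2 : m * m = 1) (hmz : Commute m z) (hmw : m * w * m = z * w) (hmy : m * y * m = y⁻¹)
    (hC : ∀ g : G, Commute g z → Commute g w → Commute g y →
      ∃ a, (a = 1 ∨ a = z ∨ a = w ∨ a = z * w) ∧ ∃ n : ℕ, g = a * y ^ n)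
    (hall : ∀ i : G, orderOf i = 2 → IsConj i z)
    (R : Subgroup G) (hR : Nat.card R = 9) (hRz : R ≤ centralizer ({z} : Set G))
    (h27 : ¬ 27 ∣ Nat.card (centralizer ({z} : Set G))) {Y : G} (hY : Y ∈ R)
    (huniq : ∀ i : G, orderOf i = 2 → Commute i z → Commute i Y → i = z)
    (hninv : ∀ e : G, orderOf e = 2 → Commute e z → e * Y * e⁻¹ ≠ Y⁻¹)
    (hcard : Nat.card (centralizer ({y, z} : Set G)) = 36)
    (hout : ∀ g ∈ centralizer ({y, z} : Set G), g ∉ closure ({y, x, z} : Set G) → g ^ 2 ∈ zpowers y)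
    (hx : orderOf x = 3) (hxn : x ∉ zpowers y) (hxy : Commute x y) (hxz : Commute x z)
    (hx23 : x2 ^ 3 = 1) (hx2y : Commute x2 y) (hx2w : Commute x2 w) (hx2z : z * x2 * z⁻¹ = x2⁻¹) :
    Commute x x2 := by
  have hy3 : y ^ 3 = 1 := hy ▸ pow_orderOf_eq_one y
  have hz2 : z * z = 1 := by rw [← pow_two, ← hz, pow_orderOf_eq_one]
  have hw2 : w * w = 1 := by rw [← pow_two, ← hw, pow_orderOf_eq_one]
  have hz1 : z ≠ 1 := fun e => by rw [e, orderOf_one] at hz; omega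
  have hw1 : w ≠ 1 := fun e => by rw [e, orderOf_one] at hw; omega
  have hmi : m⁻¹ = m := inv_eq_of_mul_eq_one_right hm2
  have hmzw : m * (z * w) * m = w := by
    rw [show m * (z * w) * m = (m * z * m⁻¹) * (m * w * m) by group,
      hmz.eq, mul_inv_cancel_right, hmw, ← mul_assoc, hz2, one_mul]
  -- the cycle
  set s : G := (m * T)⁻¹ with hs
  have hsz : s * z * s⁻¹ = w := by
    have e : m * T * w * (m * T)⁻¹ = z := by
      rw [show m * T * w * (m * T)⁻¹ = m * (T * w * T⁻¹) * m⁻¹ by group, hTw, hmz.eq, mul_inv_cancel_right]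
    rw [hs]; conv_lhs => rw [← e]
    group
  have hsw : s * w * s⁻¹ = z * w := by
    have e : m * T * (z * w) * (m * T)⁻¹ = w := by
      rw [show m * T * (z * w) * (m * T)⁻¹ = m * ((T * z * T⁻¹) * (T * w * T⁻¹)) * m⁻¹ by group, hTz, hTw,
        ← hzwc.eq, hmi, hmzw]
    rw [hs]; conv_lhs => rw [← e]
    group
  have hsy : s * y * s⁻¹ = y ∨ s * y * s⁻¹ = y⁻¹ := by
    have hmy' : m * y * m⁻¹ = y⁻¹ := by rw [hmi, hmy]
    have hmy2 : m * y⁻¹ * m⁻¹ = y := by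
      rw [show m * y⁻¹ * m⁻¹ = (m * y * m⁻¹)⁻¹ by group, hmy', inv_inv]
    rcases hTy with e | e
    · right
      have e' : m * T * y⁻¹ * (m * T)⁻¹ = y := by
        rw [show m * T * y⁻¹ * (m * T)⁻¹ = m * (T * y * T⁻¹)⁻¹ * m⁻¹ by group, e, hmy2]
      rw [hs]; conv_lhs => rw [← e']
      group
    · left
      have e' : m * T * y * (m * T)⁻¹ = y := by
        rw [show m * T * y * (m * T)⁻¹ = m * (T * y * T⁻¹) * m⁻¹ by group, e, hmy2]
      rw [hs]; conv_lhs => rw [← e']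
      group
  have hs2y : Commute (s * s) y := by
    have e : s * s * y * (s * s)⁻¹ = y := by
      rw [show s * s * y * (s * s)⁻¹ = s * (s * y * s⁻¹) * s⁻¹ by group]
      rcases hsy with h | h <;> rw [h]
      · exact h
      · rw [show s * y⁻¹ * s⁻¹ = (s * y * s⁻¹)⁻¹ by group, h, inv_inv]
    exact mul_inv_eq_iff_eq_mul.1 e
  have hszw : s * (z * w) * s⁻¹ = z := by
    rw [show s * (z * w) * s⁻¹ = (s * z * s⁻¹) * (s * w * s⁻¹) by group, hsz, hsw, hzwc.eq, ← mul_assoc, hw2,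
      one_mul]
  have cyc : ∀ a b : G, a * z * a⁻¹ = w → a * w * a⁻¹ = z * w → a * (z * w) * a⁻¹ = z →
      b * z * b⁻¹ = z → b * w * b⁻¹ = w → b * a * z * (b * a)⁻¹ = w ∧ b * a * w * (b * a)⁻¹ = z * w ∧
        b * a * (z * w) * (b * a)⁻¹ = z := by
    intro a b h1 h2 h3 h4 h5
    refine ⟨?_, ?_, ?_⟩ <;>
      rw [show ∀ g : G, b * a * g * (b * a)⁻¹ = b * (a * g * a⁻¹) * b⁻¹ from fun g => by group]
    · rw [h1, h5]
    · rw [h2, show b * (z * w) * b⁻¹ = (b * z * b⁻¹) * (b * w * b⁻¹) by group, h4, h5]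
    · rw [h3, h4]
  have h3fix : s ^ 3 * z * (s ^ 3)⁻¹ = z ∧ s ^ 3 * w * (s ^ 3)⁻¹ = w := by
    constructor
    · rw [show s ^ 3 * z * (s ^ 3)⁻¹ = s * (s * (s * z * s⁻¹) * s⁻¹) * s⁻¹ by simp [pow_succ, mul_assoc],
        hsz, hsw, hszw]
    · rw [show s ^ 3 * w * (s ^ 3)⁻¹ = s * (s * (s * w * s⁻¹) * s⁻¹) * s⁻¹ by simp [pow_succ, mul_assoc],
        hsw, hszw, hsz]
  have hpow3 : ∀ k : ℕ, s ^ (3 * k) * z * (s ^ (3 * k))⁻¹ = z ∧ s ^ (3 * k) * w * (s ^ (3 * k))⁻¹ = w := by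
    intro k
    induction k with
    | zero => simp
    | succ k ih =>
      rw [Nat.mul_succ, add_comm, pow_add]
      constructor <;>
        rw [show ∀ g : G, s ^ 3 * s ^ (3 * k) * g * (s ^ 3 * s ^ (3 * k))⁻¹ =
          s ^ 3 * (s ^ (3 * k) * g * (s ^ (3 * k))⁻¹) * (s ^ 3)⁻¹ from fun g => by group]
      · rw [ih.1, h3fix.1]
      · rw [ih.2, h3fix.2]
  set τ : G := s ^ 40 with hτ
  obtain ⟨hτz, hτw, hτzw⟩ : τ * z * τ⁻¹ = w ∧ τ * w * τ⁻¹ = z * w ∧ τ * (z * w) * τ⁻¹ = z := by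
    rw [hτ, show 40 = 3 * 13 + 1 from rfl, pow_succ]
    exact cyc s _ hsz hsw hszw (hpow3 13).1 (hpow3 13).2
  have h12 : Commute (s ^ 12) z ∧ Commute (s ^ 12) w ∧ Commute (s ^ 12) y := by
    refine ⟨mul_inv_eq_iff_eq_mul.1 ?_, mul_inv_eq_iff_eq_mul.1 ?_, ?_⟩
    · exact (show 12 = 3 * 4 from rfl) ▸ (hpow3 4).1
    · exact (show 12 = 3 * 4 from rfl) ▸ (hpow3 4).2
    · rw [show 12 = 2 * 6 from rfl, pow_mul, pow_two]; exact hs2y.pow_left 6
  have hEy : ∀ {a : G}, (a = 1 ∨ a = z ∨ a = w ∨ a = z * w) → Commute a y := by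
    rintro a (rfl | rfl | rfl | rfl)
    exacts [Commute.one_left y, hzy, hwy, hzy.mul_left hwy]
  have hE2 : ∀ {a : G}, (a = 1 ∨ a = z ∨ a = w ∨ a = z * w) → a * a = 1 := by
    rintro a (rfl | rfl | rfl | rfl)
    exacts [one_mul 1, hz2, hw2, by rw [hzwc.symm.mul_mul_mul_comm, hz2, hw2, one_mul]]
  have hτy : Commute τ y := by
    rw [hτ, show 40 = 2 * 20 from rfl, pow_mul, pow_two]; exact hs2y.pow_left 20
  have hτ3 : τ ^ 3 ∈ zpowers y := by
    obtain ⟨a, ha, n, hn⟩ := hC _ h12.1 h12.2.1 h12.2.2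
    have ha10 : a ^ 10 = 1 := by rw [show 10 = 2 * 5 from rfl, pow_mul, pow_two, hE2 ha, one_pow]
    rw [hτ, ← pow_mul, show 40 * 3 = 12 * 10 from rfl, pow_mul, hn, ((hEy ha).pow_right n).mul_pow, ha10,
      one_mul, ← pow_mul]
    exact pow_mem (mem_zpowers y) _
  have hτn : τ ∉ zpowers y := fun h => by
    obtain ⟨k, hk⟩ := mem_zpowers_iff.1 h
    apply hzw
    have hc : Commute τ z := by rw [← hk]; exact (hzy.zpow_right k).symm
    rw [← hτz, hc.eq, mul_inv_cancel_right]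
  -- the involution inverting `y` and `τ`
  have hmC : ∀ g : G, m * g * m = m * g * m⁻¹ := fun g => by rw [hmi]
  obtain ⟨v, hv, n, hvn⟩ : ∃ v, (v = 1 ∨ v = z ∨ v = w ∨ v = z * w) ∧ ∃ n : ℕ,
      τ * (m * τ * m) = v * y ^ n := by
    refine hC _ (mul_inv_eq_iff_eq_mul.1 ?_) (mul_inv_eq_iff_eq_mul.1 ?_) ?_
    · rw [show τ * (m * τ * m) * z * (τ * (m * τ * m))⁻¹ = τ * (m * (τ * (m * z * m⁻¹) * τ⁻¹) * m⁻¹) * τ⁻¹ by
        group, hmz.eq, mul_inv_cancel_right, hτz, ← hmC, hmw, hτzw]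
    · rw [show τ * (m * τ * m) * w * (τ * (m * τ * m))⁻¹ = τ * (m * (τ * (m * w * m⁻¹) * τ⁻¹) * m⁻¹) * τ⁻¹ by
        group, ← hmC w, hmw, hτzw, hmz.eq, mul_inv_cancel_right, hτz]
    · refine hτy.mul_left (mul_inv_eq_iff_eq_mul.1 ?_)
      rw [show m * τ * m * y * (m * τ * m)⁻¹ = m * (τ * (m * y * m⁻¹) * τ⁻¹) * m⁻¹ by group, ← hmC y, hmy,
        hτy.inv_right.eq, mul_inv_cancel_right, ← hmC, show m * y⁻¹ * m = (m * y * m)⁻¹ by
          rw [_root_.mul_inv_rev, _root_.mul_inv_rev, hmi, mul_assoc], hmy, inv_inv]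
  have hmτ : m * τ * m⁻¹ = τ⁻¹ * (v * y ^ n) := by rw [← hvn, inv_mul_cancel_left, hmi]
  obtain ⟨u, hu, huv, huu⟩ : ∃ u, (u = 1 ∨ u = z ∨ u = w ∨ u = z * w) ∧
      (τ * u * τ⁻¹) * (v * u) = 1 ∧ (u * (m * u * m) = 1 ∨ u * (m * u * m) = z) := by
    have e1 : m * z * m = z := by rw [hmz.eq, mul_assoc, hm2, mul_one]
    rcases hv with hv | hv | hv | hv <;> rw [hv]
    · exact ⟨1, Or.inl rfl, by group, Or.inl (by simp [hm2])⟩
    · refine ⟨w, Or.inr (Or.inr (Or.inl rfl)), ?_, Or.inr ?_⟩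
      · rw [hτw]; exact hE2 (Or.inr (Or.inr (Or.inr rfl)))
      · rw [hmw, ← mul_assoc, ← hzwc.eq, mul_assoc, hw2, mul_one]
    · refine ⟨z * w, Or.inr (Or.inr (Or.inr rfl)), ?_, Or.inr ?_⟩
      · rw [hτzw, ← mul_assoc w, ← hzwc.eq, mul_assoc z w w, hw2, mul_one, hz2]
      · rw [hmzw, mul_assoc, hw2, mul_one]
    · refine ⟨z, Or.inr (Or.inl rfl), ?_, Or.inl ?_⟩
      · rw [hτz, mul_assoc z, ← hzwc.eq, ← mul_assoc z z w, hz2, one_mul, hw2]
      · rw [e1, hz2]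
  have hvE : ∀ {a b : G}, (a = 1 ∨ a = z ∨ a = w ∨ a = z * w) → (b = 1 ∨ b = z ∨ b = w ∨ b = z * w) →
      Commute a b := by
    have hz' : ∀ {b : G}, (b = 1 ∨ b = z ∨ b = w ∨ b = z * w) → Commute z b := by
      intro b hb
      rcases hb with h | h | h | h <;> rw [h]
      exacts [Commute.one_right z, hzwc, (Commute.refl z).mul_right hzwc]
    have hw' : ∀ {b : G}, (b = 1 ∨ b = z ∨ b = w ∨ b = z * w) → Commute w b := by
      intro b hb
      rcases hb with h | h | h | h <;> rw [h]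
      exacts [Commute.one_right w, hzwc.symm, hzwc.symm.mul_right (Commute.refl w)]
    rintro a b (rfl | rfl | rfl | rfl) hb
    exacts [Commute.one_left b, hz' hb, hw' hb, (hz' hb).mul_left (hw' hb)]
  have hui : u⁻¹ = u := inv_eq_of_mul_eq_one_right (hE2 hu)
  set e : G := u * m with he
  have hey : e * y * e⁻¹ = y⁻¹ := by
    rw [show e * y * e⁻¹ = u * (m * y * m⁻¹) * u⁻¹ by rw [he]; group, ← hmC, hmy, (hEy hu).inv_right.eq,
      mul_inv_cancel_right]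
  have heτ : e * τ * e⁻¹ = τ⁻¹ * y ^ n := by
    rw [show e * τ * e⁻¹ = u * (m * τ * m⁻¹) * u⁻¹ by rw [he]; group, hmτ,
      show u * (τ⁻¹ * (v * y ^ n)) * u⁻¹ = τ⁻¹ * ((τ * u * τ⁻¹) * (v * (y ^ n * u⁻¹))) by group, hui,
      ((hEy hu).pow_right n).symm.eq, ← mul_assoc v, ← mul_assoc (τ * u * τ⁻¹), huv, one_mul]
  have he2 : e * e = u * (m * u * m) := by rw [he]; simp [mul_assoc]
  have hee : e * e * τ * (e * e)⁻¹ = τ * (y ^ n)⁻¹ * (y ^ n)⁻¹ := by
    rw [show e * e * τ * (e * e)⁻¹ = e * (e * τ * e⁻¹) * e⁻¹ by group, heτ,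
      show e * (τ⁻¹ * y ^ n) * e⁻¹ = (e * τ * e⁻¹)⁻¹ * (e * y ^ n * e⁻¹) by group, heτ, ← MulAut.conj_apply,
      map_pow, MulAut.conj_apply, hey, inv_pow, _root_.mul_inv_rev, inv_inv,
      ((hτy.pow_right n).inv_right).eq]
  have hy6 : (y ^ n)⁻¹ * (y ^ n)⁻¹ = y ^ n := by
    rw [← _root_.mul_inv_rev, inv_eq_iff_mul_eq_one, ← pow_add, ← pow_add, show n + n + n = 3 * n by ring,
      pow_mul, hy3, one_pow]
  have hee1 : e * e = 1 := by
    rw [he2]
    rcases huu with h | h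
    · exact h
    · exfalso
      rw [he2, h, inv_eq_of_mul_eq_one_right hz2, mul_assoc τ, hy6] at hee
      have hzw' : z * τ * z = τ * w := by
        have e3 : z * τ = τ * (z * w) := by
          have e4 := hτzw
          rw [mul_inv_eq_iff_eq_mul] at e4
          exact e4.symm
        rw [e3, mul_assoc, hzwc.eq, mul_assoc w z z, hz2, mul_one]
      have hwyn : w = y ^ n := mul_left_cancel (a := τ) (hzw'.symm.trans hee)
      have h3 : w ^ 3 = 1 := by
        rw [hwyn, ← pow_mul, mul_comm, pow_mul, hy3, one_pow]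
      rw [pow_succ, pow_two, hw2, one_mul] at h3
      exact hw1 h3
  have hn0 : y ^ n = 1 := by
    rw [hee1, one_mul, inv_one, mul_one, mul_assoc, hy6] at hee
    exact mul_left_cancel (hee.symm.trans (mul_one τ).symm)
  have heo : orderOf e = 2 := by
    refine orderOf_eq_prime (by rw [pow_two, hee1]) fun e1 => ?_
    rw [e1, one_mul, inv_one, mul_one] at hey
    have : y ^ 2 = 1 := by rw [pow_two]; nth_rewrite 1 [hey]; exact inv_mul_cancel y
    have := orderOf_dvd_of_pow_eq_one this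
    rw [hy] at this
    omega
  exact commute_of_fused hy hz hw hzw hzwc hzy hwy hτy hτ3 hτz hτw hcard hout hx hxn hxy hxz hx23 hx2y hx2w
    hx2z (no_involution_centralises hall R hR hRz h27 hY huniq hninv hz
      (card_closure_pair hy hτy.symm hτ3 hτn) hτy.symm heo hey (by rw [heτ, hn0, mul_one]))

end CfsgLib.Recognition.UFourThree
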