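import Cfsg.Agent.Lib.Recognition.UFourThree.HFacts
import Cfsg.Agent.Lib.Recognition.UFourThree.Fusion

/-!
# The commutator relation
-/

set_option autoImplicit false
set_option maxRecDepth 100000
set_option linter.unusedSectionVars false

namespace CfsgLib.Recognition.UFourThree

open CfsgLib.Sporadic.CosetCert (Cert)
open CfsgLib.Sporadic.OutCert (lk allF allF_iff)
open Subgroup Data CertData

/-- The conjugating word of a case. -/
def caseU (i : ℕ) : List ℕ := corr.getD i [] ++ hW

theorem crel_form : ∀ i < 4, crel.getD i [] = xW ++ (caseU i ++ qW ++ winv ivl (caseU i)) ++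
    winv ivl xW ++ (caseU i ++ winv ivl qW ++ winv ivl (caseU i)) := by
  decide +kernel

theorem traj_check : (traj.all fun t => trajOK t.2.2.1 t.2.2.2.1 t.2.1 t.2.2.2.2 &&
    trajWord t.2.2.1 t.2.2.2.1 == t.1) = true := by
  decide +kernel

theorem corr_check : ∀ g ∈ corr, Small g ∧ runH (g ++ [6]) = runH ([6] ++ g) := by decide +kernel

theorem three_check : allF (fun u => let w := wordAt u
    !(runH (w ++ w ++ w) == one0 && keyHn u != one0 && runH (w ++ [6]) == runH ([6] ++ w)) ||
      corr.any fun g => runH (g ++ w ++ winv ivl g) == runH yW ||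
        runH (g ++ w ++ winv ivl g) == runH (winv ivl yW)) 1152 = true := by
  decide +kernel

theorem cent_check : allF (fun u => let w := wordAt u
    !(runH (w ++ [6]) == runH ([6] ++ w) && runH (w ++ yW) == runH (yW ++ w)) ||
      [[], [0, 0], [6], [0, 0, 6]].any fun a => [[], yW, yW ++ yW].any fun b =>
        runH (a ++ b) == keyHn u) 1152 = true := by
  decide +kernel

theorem uniq_check : allF (fun u => let w := wordAt u
    !(runH (w ++ w) == one0 && keyHn u != one0 && runH (w ++ [4]) == runH ([4] ++ w)) ||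
      keyHn u == runH [0, 0]) 1152 = true := by
  decide +kernel

theorem ninv_check : allF (fun u => let w := wordAt u
    !(runH (w ++ w) == one0) || keyHn u == one0 || runH (w ++ [4] ++ w) != runH [5]) 1152 = true := by
  decide +kernel

/-- The nodes commuting with the element fixed by the swap. -/
def centY : List ℕ := (List.range 1152).filter fun u => runH (wordAt u ++ yW) == runH (yW ++ wordAt u)

theorem centY_card : centY.length = 36 := by decide +kernel

theorem out_check : (centY.all fun u => let w := wordAt u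
    (octW.any fun v => runH (flatV octV v) == keyHn u) ||
      [[], yW, yW ++ yW].any fun b => runH (w ++ w) == runH b) = true := by
  decide +kernel

theorem misc_check :
    (runH (yW ++ yW ++ yW) = one0 ∧ runH yW ≠ one0) ∧ runH (yW ++ [6]) = runH ([6] ++ yW) ∧
    (runH (y0W ++ y0W ++ y0W) = one0 ∧ runH y0W ≠ one0) ∧ runH (y0W ++ zpW) = runH (zpW ++ y0W) ∧
    (runH (xW ++ xW ++ xW) = one0 ∧ runH xW ≠ one0 ∧ runH xW ≠ runH yW ∧ runH xW ≠ runH (yW ++ yW)) ∧
    runH (xW ++ yW) = runH (yW ++ xW) ∧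
    runH (qW ++ qW ++ qW) = one0 ∧ runH (qW ++ y0W) = runH (y0W ++ qW) ∧
    runH (zpW ++ qW ++ winv ivl zpW) = runH (winv ivl qW) ∧
    (runH (mW ++ mW) = one0 ∧ runH (mW ++ [6] ++ mW) = runH ([0, 0] ++ [6]) ∧
      runH (mW ++ yW ++ mW) = runH (winv ivl yW)) ∧
    runH (kW ++ [6] ++ winv ivl kW) = runH zpW ∧
    (runH (kW ++ yW ++ winv ivl kW) = runH y0W ∨
      runH (kW ++ yW ++ winv ivl kW) = runH (winv ivl y0W)) ∧
    runH [6] ≠ runH [0, 0] := by
  decide +kernel

theorem small_words : Small yW ∧ Small y0W ∧ Small xW ∧ Small qW ∧ Small mW ∧ Small kW ∧ Small zpW ∧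
    Small [0, 0] ∧ Small [6] ∧ Small [4] ∧ Small [5] := by
  decide

theorem certX1_shape : certX1.nl = 11 ∧ certX1.N = 1 ∧ ∀ x < 11, certX1.inv x = ivl x := by
  decide +kernel

theorem certX1_rels : ∀ i < certX1.nr, certX1.letters i ∈ relH ++ relS ++ [crel.getD 1 []] := by
  decide +kernel

theorem certX1_subs : ∀ i < certX1.words.length, certX1.nr ≤ i →
    certX1.letters i ∈ [[0], [2], [4], [6], [7]] ++ (traj.take 2).map (·.1) := by
  decide +kernel

theorem certX2_shape : certX2.nl = 11 ∧ certX2.N = 1 ∧ ∀ x < 11, certX2.inv x = ivl x := by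
  decide +kernel

theorem certX2_rels : ∀ i < certX2.nr, certX2.letters i ∈ relH ++ relS ++ [crel.getD 2 []] := by
  decide +kernel

theorem certX2_subs : ∀ i < certX2.words.length, certX2.nr ≤ i →
    certX2.letters i ∈ [[0], [2], [4], [6], [7]] ++ (traj.take 2).map (·.1) := by
  decide +kernel

theorem certX3_shape : certX3.nl = 11 ∧ certX3.N = 1 ∧ ∀ x < 11, certX3.inv x = ivl x := by
  decide +kernel

theorem certX3_rels : ∀ i < certX3.nr, certX3.letters i ∈ relH ++ relS ++ [crel.getD 3 []] := by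
  decide +kernel

theorem certX3_subs : ∀ i < certX3.words.length, certX3.nr ≤ i →
    certX3.letters i ∈ [[0], [2], [4], [6], [7]] ++ (traj.take 2).map (·.1) := by
  decide +kernel

theorem loops_check : ∀ t ∈ traj.take 2, t.2.1 = [0, 0] ∧ t.2.2.2.2 = [0, 0] := by decide +kernel

namespace Gens

variable {G : Type*} [Group G] [Finite G] {z a c r x d σ : G} (g : Gens z a c r x d σ)
include g

theorem traj_conj {t : List ℕ × List ℕ × List (List ℕ × ℕ × List ℕ) × List ℕ × List ℕ}
    (ht : t ∈ traj) : ev (lett a c r x d σ) t.1 * ev (lett a c r x d σ) t.2.1 *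
      (ev (lett a c r x d σ) t.1)⁻¹ = ev (lett a c r x d σ) t.2.2.2.2 := by
  have h := List.all_eq_true.1 traj_check t ht
  simp only [Bool.and_eq_true, beq_iff_eq] at h
  have := g.traj_sound _ _ _ _ h.1
  rwa [h.2] at this

theorem relS_one : ∀ L ∈ relS, ev (lett a c r x d σ) L = 1 := by
  have hx := g.x_inv
  have hzi : z⁻¹ = z := inv_eq_of_mul_eq_one_right g.z2
  intro L hL
  simp only [relS, List.mem_cons, List.not_mem_nil, or_false] at hL
  rcases hL with rfl | rfl | rfl | rfl | rfl | rfl <;>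
    simp only [ev, lett, List.map_cons, List.map_nil, List.prod_cons, List.prod_nil, mul_one,
      List.getD_cons_zero, List.getD_cons_succ]
  · rw [← pow_three, g.s3]
  · rw [← mul_assoc, ← mul_assoc, g.sa, mul_inv_cancel]
  · calc σ * (d * (σ⁻¹ * (x * (a⁻¹ * (x * (a⁻¹ * (a⁻¹ * (a⁻¹ * (d⁻¹ * a⁻¹)))))))))
        = (σ * d * σ⁻¹) * (a * d * ((a * a) * (a * (x⁻¹ * a * x⁻¹))))⁻¹ := by group
      _ = 1 := by rw [hx, g.a2, g.sd, mul_inv_cancel]
  · calc σ * (c * (x * (c * (x * (σ⁻¹ * x))))) = (σ * (c * (x * c * x)) * σ⁻¹) * x := by group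
      _ = 1 := by rw [g.se, g.x2]
  · calc σ * (x * (σ⁻¹ * (c⁻¹ * (x * c⁻¹)))) = (σ * x * σ⁻¹) * (c⁻¹ * x * c⁻¹) := by group
      _ = c * (x * c * x) * x * (c⁻¹ * x * c⁻¹) := by rw [g.sx]
      _ = c * x * (c * (x * x) * c⁻¹) * x * c⁻¹ := by group
      _ = 1 := by rw [g.x2, mul_one, mul_inv_cancel, mul_one, mul_assoc c x x, g.x2, mul_one, mul_inv_cancel]
  · simpa only [mul_assoc] using g.inv

local notation "E" => ev (lett a c r x d σ)

theorem small_ev_ne {L M : List ℕ} (hL : Small L) (hM : Small M) (h : runH L ≠ runH M) :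
    ev (lett a c r x d σ) L ≠ ev (lett a c r x d σ) M := fun e => h (g.run_of_eq hL hM e)

theorem six_ev : ev (lett a c r x d σ) [6] = x := by simp [ev, lett]

theorem node_of {u : G} (hu : Commute u z) : ∃ k < 1152, u = ev (lett a c r x d σ) (wordAt k) ∧
    Small (wordAt k) ∧ runH (wordAt k) = keyHn k := by
  obtain ⟨k, hk, e⟩ := g.exists_word (mem_centralizer_singleton_iff.2 hu)
  exact ⟨k, hk, e, (pathW k hk).2, (pathW k hk).1⟩

theorem commute_z {L : List ℕ} (hL : Small L) : Commute (ev (lett a c r x d σ) L) z :=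
  g.z_comm (g.ev_small hL)

/-- One of the four candidates holds. -/
theorem exists_crel : ∃ i < 4, ev (lett a c r x d σ) (crel.getD i []) = 1 := by
  obtain ⟨sy, sy0, sX, sq, sm, sk, szp, s00, s6, s4, s5⟩ := small_words
  obtain ⟨⟨hy3, hy1⟩, hyx, ⟨h03, h01⟩, h0zp, ⟨hX3, hX1, hXy, hXy2⟩, hXyc, hq3, hqy, hqz,
    ⟨hm2, hmx, hmy⟩, hkx, hky, hxz⟩ := misc_check
  have ex := g.six_ev
  have ez := g.z_ev
  have o3 : ∀ {L : List ℕ}, Small L → runH (L ++ L ++ L) = one0 → runH L ≠ one0 → orderOf (E L) = 3 := by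
    intro L hL h3 h1
    refine orderOf_eq_prime ?_ fun e => h1 ((g.eq_one_iff hL).1 e)
    rw [pow_three, ← ev_append, ← ev_append, ← List.append_assoc]
    exact (g.eq_one_iff (small_append (small_append hL hL) hL)).2 h3
  -- the element carrying `z` to `x`
  have hh1 : E hW * z * (E hW)⁻¹ = x := by
    have := g.traj_conj (t := traj.getD 2 default) (by decide)
    simpa [traj, hW, ez, ex] using this
  have hh2 : E hW * E zpW * (E hW)⁻¹ = z := by
    have := g.traj_conj (t := traj.getD 3 default) (by decide)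
    simpa [traj, hW, zpW, ez] using this
  have cy0 : Commute (E y0W) z := g.commute_z sy0
  have cy0p : Commute (E y0W) (E zpW) := (g.commute_iff sy0 szp).2 h0zp
  have conjc : ∀ (h : G) {u v : G}, Commute u v → Commute (h * u * h⁻¹) (h * v * h⁻¹) :=
    fun h u v huv => huv.map (MulAut.conj h).toMonoidHom
  have cw_x := conjc (E hW) cy0
  rw [hh1] at cw_x
  have cw_z := conjc (E hW) cy0p
  rw [hh2] at cw_z
  obtain ⟨k, hk, ek, sk', rk⟩ := g.node_of cw_z
  have o : orderOf (E (wordAt k)) = 3 := by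
    rw [← ek]; exact (MulEquiv.orderOf_eq (MulAut.conj (E hW)) (E y0W)).trans (o3 sy0 h03 h01)
  have t1 : runH (wordAt k ++ wordAt k ++ wordAt k) = one0 := by
    rw [← g.eq_one_iff (small_append (small_append sk' sk') sk'), ev_append, ev_append,
      mul_assoc, ← pow_three, ← o, pow_orderOf_eq_one]
  have t2 : keyHn k ≠ one0 := fun e => by
    rw [(g.eq_one_iff sk').2 (rk.trans e), orderOf_one] at o; omega
  have t3 : runH (wordAt k ++ [6]) = runH ([6] ++ wordAt k) := by
    rw [← g.commute_iff sk' s6, ex, ← ek]; exact cw_x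
  have hk3 := allF_iff.1 three_check k hk
  simp only [t1, t3, beq_self_eq_true, bne_iff_ne.2 t2, Bool.and_true, Bool.not_true, Bool.false_or,
    List.any_eq_true, Bool.or_eq_true, beq_iff_eq] at hk3
  obtain ⟨q, hq, hqk⟩ := hk3
  obtain ⟨i, hi, rfl⟩ := List.getElem_of_mem hq
  obtain ⟨sg, hgx⟩ := corr_check _ hq
  set H := E (caseU i) with hH
  have hgH : H = E corr[i] * E hW := by
    rw [hH, caseU, ← List.getD_eq_getElem corr [] hi, ev_append]
  have hHy : H * E y0W * H⁻¹ = E yW ∨ H * E y0W * H⁻¹ = (E yW)⁻¹ := by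
    have e0 : H * E y0W * H⁻¹ = E corr[i] * E (wordAt k) * (E corr[i])⁻¹ := by
      rw [hgH, ← ek]; group
    rw [e0, ← g.inv_ev sg, ← ev_append, ← ev_append, ← g.inv_ev sy]
    rcases hqk with e | e
    · exact Or.inl (g.eq_of_run (small_append (small_append sg sk') (small_winv sg)) sy e)
    · exact Or.inr (g.eq_of_run (small_append (small_append sg sk') (small_winv sg)) (small_winv sy) e)
  have hHz : H * z * H⁻¹ = x := by
    have c1 : Commute (E corr[i]) x := by
      have h := (g.commute_iff sg s6).2 hgx; rwa [ex] at h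
    calc H * z * H⁻¹ = E corr[i] * (E hW * z * (E hW)⁻¹) * (E corr[i])⁻¹ := by rw [hgH]; group
      _ = x := by rw [hh1, c1.eq, mul_inv_cancel_right]
  have hHp : H * E zpW * H⁻¹ = z := by
    calc H * E zpW * H⁻¹ = E corr[i] * (E hW * E zpW * (E hW)⁻¹) * (E corr[i])⁻¹ := by rw [hgH]; group
      _ = z := by rw [hh2, (g.commute_z sg).eq, mul_inv_cancel_right]
  -- the data of the lemma
  have hTz : H * E kW * z * (H * E kW)⁻¹ = x := by
    rw [show H * E kW * z * (H * E kW)⁻¹ = H * (E kW * z * (E kW)⁻¹) * H⁻¹ by group,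
      (g.commute_z sk).eq, mul_inv_cancel_right, hHz]
  have hTw : H * E kW * x * (H * E kW)⁻¹ = z := by
    have : E kW * x * (E kW)⁻¹ = E zpW := by
      have h := g.eq_of_run (small_append (small_append sk s6) (small_winv sk)) szp hkx
      rwa [ev_append, ev_append, g.inv_ev sk, ex] at h
    rw [show H * E kW * x * (H * E kW)⁻¹ = H * (E kW * x * (E kW)⁻¹) * H⁻¹ by group, this, hHp]
  have hTy : H * E kW * E yW * (H * E kW)⁻¹ = E yW ∨ H * E kW * E yW * (H * E kW)⁻¹ = (E yW)⁻¹ := by
    have e0 : H * E kW * E yW * (H * E kW)⁻¹ = H * (E kW * E yW * (E kW)⁻¹) * H⁻¹ := by group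
    have e1 : E kW * E yW * (E kW)⁻¹ = E y0W ∨ E kW * E yW * (E kW)⁻¹ = (E y0W)⁻¹ := by
      rw [← g.inv_ev sk, ← ev_append, ← ev_append, ← g.inv_ev sy0]
      exact hky.imp (g.eq_of_run (small_append (small_append sk sy) (small_winv sk)) sy0)
        (g.eq_of_run (small_append (small_append sk sy) (small_winv sk)) (small_winv sy0))
    rw [e0]
    rcases e1 with e | e <;> rw [e]
    · exact hHy
    · rw [show H * (E y0W)⁻¹ * H⁻¹ = (H * E y0W * H⁻¹)⁻¹ by group]
      rcases hHy with e' | e' <;> rw [e']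
      · exact Or.inr rfl
      · exact Or.inl (inv_inv _)
  have hw : orderOf x = 2 := orderOf_eq_prime (by rw [pow_two, g.x2]) fun e => by
    rw [e] at hTw
    exact (orderOf_eq_prime_iff.1 g.z_order).2 (by rw [← hTw]; group)
  have hzw : z ≠ x := fun e => hxz (g.run_of_eq s6 s00 (by rw [ex, ez, e]))
  have hcx : Commute x z := by rw [← ex]; exact g.commute_z s6
  have hm2' : E mW * E mW = 1 := by
    rw [← ev_append]; exact (g.eq_one_iff (small_append sm sm)).2 hm2
  have hmw : E mW * x * E mW = z * x := by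
    have := g.eq_of_run (small_append (small_append sm s6) sm) (small_append s00 s6) hmx
    rwa [ev_append, ev_append, ev_append, ex, ez] at this
  have hmy' : E mW * E yW * E mW = (E yW)⁻¹ := by
    rw [← ev_append, ← ev_append, ← g.inv_ev sy]
    exact g.eq_of_run (small_append (small_append sm sy) sm) (small_winv sy) hmy
  have hC : ∀ u : G, Commute u z → Commute u x → Commute u (E yW) →
      ∃ b, (b = 1 ∨ b = z ∨ b = x ∨ b = z * x) ∧ ∃ n : ℕ, u = b * E yW ^ n := by
    intro u hu1 hu2 hu3
    obtain ⟨p, hp, rfl, sp, rp⟩ := g.node_of hu1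
    have f1 : runH (wordAt p ++ [6]) = runH ([6] ++ wordAt p) := by
      rw [← g.commute_iff sp s6, ex]; exact hu2
    have f2 := (g.commute_iff sp sy).1 hu3
    have hp3 := allF_iff.1 cent_check p hp
    simp only [f1, f2, beq_self_eq_true, Bool.and_true, Bool.not_true, Bool.false_or,
      List.any_eq_true, beq_iff_eq] at hp3
    obtain ⟨b, hb, v, hv, e⟩ := hp3
    have sb : Small b ∧ (E b = 1 ∨ E b = z ∨ E b = x ∨ E b = z * x) := by
      simp only [List.mem_cons, List.not_mem_nil, or_false] at hb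
      rcases hb with rfl | rfl | rfl | rfl
      · exact ⟨by decide, Or.inl ev_nil⟩
      · exact ⟨s00, Or.inr (Or.inl ez)⟩
      · exact ⟨s6, Or.inr (Or.inr (Or.inl ex))⟩
      · exact ⟨by decide, Or.inr (Or.inr (Or.inr (by simp [ev, lett, ← g.a2, mul_assoc])))⟩
    have sv : Small v ∧ ∃ n : ℕ, E v = E yW ^ n := by
      simp only [List.mem_cons, List.not_mem_nil, or_false] at hv
      rcases hv with rfl | rfl | rfl
      · exact ⟨by decide, 0, by rw [pow_zero]; exact ev_nil⟩
      · exact ⟨sy, 1, (pow_one _).symm⟩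
      · exact ⟨small_append sy sy, 2, by rw [pow_two]; exact ev_append _ _⟩
    obtain ⟨n, hn⟩ := sv.2
    refine ⟨E b, sb.2, n, ?_⟩
    rw [← hn, ← ev_append]
    exact g.eq_of_run sp (small_append sb.1 sv.1) (rp.trans e.symm)
  obtain ⟨hc9, hlen9⟩ := closed_checks.2.2.1, closed_checks.2.2.2.1
  obtain ⟨hR, hRmem⟩ := g.closed_spec hc9
  have sV9 : ∀ v ∈ nineV, Small v := by decide
  have sV18 : ∀ v ∈ octV, Small v := by decide
  obtain ⟨h18, h18mem⟩ := g.closed_spec closed_checks.2.2.2.2
  have hcent : ∀ u, u ∈ centralizer ({E yW, z} : Set G) ↔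
      ∃ p ∈ centY, u = E (wordAt p) := by
    intro u
    simp only [centY, List.mem_filter, List.mem_range, beq_iff_eq]
    constructor
    · intro hu
      have hu' := mem_centralizer_iff.1 hu
      obtain ⟨p, hp, rfl, sp, -⟩ := g.node_of (hu' z (by simp)).symm
      exact ⟨p, ⟨hp, (g.commute_iff sp sy).1 (hu' (E yW) (by simp)).symm⟩, rfl⟩
    · rintro ⟨p, ⟨hp, e⟩, rfl⟩
      rw [mem_centralizer_iff]
      rintro v (rfl | rfl)
      · exact ((g.commute_iff (pathW p hp).2 sy).2 e).eq.symm
      · exact (g.commute_z (pathW p hp).2).eq.symm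
  have hcard : Nat.card (centralizer ({E yW, z} : Set G)) = 36 := by
    let f : Fin centY.length → centralizer ({E yW, z} : Set G) := fun p =>
      ⟨E (wordAt centY[p]), (hcent _).2 ⟨_, List.getElem_mem p.2, rfl⟩⟩
    have hlt : ∀ p ∈ centY, p < 1152 := fun p hp => List.mem_range.1 (List.mem_filter.1 hp).1
    have hnd : centY.Nodup := List.nodup_range.filter _
    have hf : Function.Bijective f := by
      refine ⟨fun p q e => ?_, fun ⟨u, hu⟩ => ?_⟩
      · have hp := hlt centY[p] (List.getElem_mem _)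
        have hq := hlt centY[q] (List.getElem_mem _)
        have e2 := g.run_of_eq (pathW _ hp).2 (pathW _ hq).2 (congrArg Subtype.val e)
        rw [(pathW _ hp).1, (pathW _ hq).1] at e2
        exact Fin.ext (hnd.getElem_inj_iff.1 (keyedH.inj _ (certH_shape.1.symm ▸ hp) _
          (certH_shape.1.symm ▸ hq) e2))
      · obtain ⟨p, hp, rfl⟩ := (hcent u).1 hu
        obtain ⟨j, hj, rfl⟩ := List.getElem_of_mem hp
        exact ⟨⟨j, hj⟩, rfl⟩
    rw [← Nat.card_eq_of_bijective f hf, Nat.card_fin, centY_card]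
  have hout : ∀ u ∈ centralizer ({E yW, z} : Set G), u ∉ closure ({E yW, E xW, z} : Set G) →
      u ^ 2 ∈ zpowers (E yW) := by
    intro u hu hnot
    obtain ⟨p, hp, rfl⟩ := (hcent u).1 hu
    have hp' : p < 1152 := List.mem_range.1 (List.mem_filter.1 hp).1
    have hset : {w : G | ∃ v ∈ octV, w = E v} = ({E yW, E xW, z} : Set G) := by
      ext w; simp [octV, ← ez]
    have := List.all_eq_true.1 out_check p hp
    simp only [Bool.or_eq_true, List.any_eq_true, beq_iff_eq] at this
    rcases this with ⟨v, hv, e⟩ | ⟨b, hb, e⟩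
    · refine absurd ?_ hnot
      rw [← hset]
      exact (h18mem _).2 ⟨v, hv, g.eq_of_run (pathW p hp').2 (flatV_mem sV18 v)
        ((pathW p hp').1.trans e.symm)⟩
    · simp only [List.mem_cons, List.not_mem_nil, or_false] at hb
      rw [pow_two, ← ev_append]
      have sp := small_append (pathW p hp').2 (pathW p hp').2
      rcases hb with rfl | rfl | rfl
      · rw [g.eq_of_run sp (by decide) e]; exact one_mem _
      · rw [g.eq_of_run sp sy e]; exact mem_zpowers _
      · rw [g.eq_of_run sp (small_append sy sy) e, ev_append]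
        exact mul_mem (mem_zpowers _) (mem_zpowers _)
  have hxn : E xW ∉ zpowers (E yW) := by
    intro hm
    classical
    obtain ⟨n, hn⟩ := (mem_zpowers_iff_mem_range_orderOf).1 hm |> Finset.mem_image.1
    obtain ⟨hn3, e⟩ := hn
    rw [Finset.mem_range, o3 sy hy3 hy1] at hn3
    interval_cases n
    · exact hX1 ((g.eq_one_iff sX).1 (by rw [pow_zero] at e; exact e.symm))
    · exact hXy (g.run_of_eq sX sy (by rw [pow_one] at e; exact e.symm))
    · exact hXy2 (g.run_of_eq sX (small_append sy sy) (by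
        rw [pow_two] at e; rw [ev_append]; exact e.symm))
  have hq : E qW ^ 3 = 1 := by
    rw [pow_three, ← ev_append, ← ev_append, ← List.append_assoc]
    exact (g.eq_one_iff (small_append (small_append sq sq) sq)).2 hq3
  have hX2y : Commute (H * E qW * H⁻¹) (E yW) := by
    have c0 := conjc H ((g.commute_iff sq sy0).2 hqy)
    rcases hHy with e | e <;> rw [e] at c0
    · exact c0
    · exact Commute.inv_right_iff.1 c0
  have hX2x : Commute (H * E qW * H⁻¹) x := by
    have h := conjc H (g.commute_z sq); rwa [hHz] at h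
  have hX2z : z * (H * E qW * H⁻¹) * z⁻¹ = (H * E qW * H⁻¹)⁻¹ := by
    have e1 : E zpW * E qW * (E zpW)⁻¹ = (E qW)⁻¹ := by
      rw [← g.inv_ev szp, ← ev_append, ← ev_append, ← g.inv_ev sq]
      exact g.eq_of_run (small_append (small_append szp sq) (small_winv szp)) (small_winv sq) hqz
    rw [← hHp, show H * E zpW * H⁻¹ * (H * E qW * H⁻¹) * (H * E zpW * H⁻¹)⁻¹ =
      H * (E zpW * E qW * (E zpW)⁻¹) * H⁻¹ by group, e1]
    group
  have hcomm := commute_of_swap (y := E yW) (T := H * E kW) (m := E mW) (x := E xW)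
    (x2 := H * E qW * H⁻¹) (o3 sy hy3 hy1) g.z_order hw hzw hcx.symm (g.commute_z sy).symm
    (by have h := ((g.commute_iff sy s6).2 hyx).symm; rwa [ex] at h) hTz hTw hTy hm2' (g.commute_z sm) hmw hmy'
    hC g.invol_conj_all (closure {w : G | ∃ v ∈ nineV, w = E v}) (hR.trans hlen9)
    ((closure_le _).2 (by rintro _ ⟨v, hv, rfl⟩; exact g.ev_small (sV9 v hv)))
    (by rw [g.card]; decide) (Y := E [4]) (subset_closure ⟨[4], by simp [nineV], rfl⟩)
    (fun u hu2 huz huY => by
      obtain ⟨p, hp, rfl, sp, rp⟩ := g.node_of huz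
      have f1 : runH (wordAt p ++ wordAt p) = one0 := by
        rw [← g.eq_one_iff (small_append sp sp), ev_append, ← pow_two, ← hu2, pow_orderOf_eq_one]
      have f2 : keyHn p ≠ one0 := fun e => by
        rw [(g.eq_one_iff sp).2 (rp.trans e), orderOf_one] at hu2; omega
      have h := allF_iff.1 uniq_check p hp
      simp only [f1, (g.commute_iff sp s4).1 huY, bne_iff_ne.2 f2, beq_self_eq_true, Bool.and_true,
        Bool.not_true, Bool.false_or, beq_iff_eq] at h
      exact (g.eq_of_run sp s00 (rp.trans h)).trans ez)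
    (fun u hu2 huz e => by
      obtain ⟨p, hp, rfl, sp, rp⟩ := g.node_of huz
      have f1 : runH (wordAt p ++ wordAt p) = one0 := by
        rw [← g.eq_one_iff (small_append sp sp), ev_append, ← pow_two, ← hu2, pow_orderOf_eq_one]
      have f2 : keyHn p ≠ one0 := fun e' => by
        rw [(g.eq_one_iff sp).2 (rp.trans e'), orderOf_one] at hu2; omega
      have h := allF_iff.1 ninv_check p hp
      simp only [f1, beq_self_eq_true, Bool.not_true, Bool.false_or, Bool.or_eq_true, beq_iff_eq,
        bne_iff_ne] at h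
      refine h.resolve_left f2 (g.run_of_eq (small_append (small_append sp s4) sp) s5 ?_)
      have hinv : (E (wordAt p))⁻¹ = E (wordAt p) :=
        inv_eq_of_mul_eq_one_right (by rw [← pow_two, ← hu2, pow_orderOf_eq_one])
      rw [ev_append, ev_append]
      calc E (wordAt p) * E [4] * E (wordAt p) = E (wordAt p) * E [4] * (E (wordAt p))⁻¹ := by rw [hinv]
        _ = (E [4])⁻¹ := e
        _ = E [5] := by simp [ev, lett])
    hcard hout (o3 sX hX3 hX1) hxn ((g.commute_iff sX sy).2 hXyc) (g.commute_z sX)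
    (by rw [show (H * E qW * H⁻¹) ^ 3 = H * E qW ^ 3 * H⁻¹ from conj_pow, hq]; group)
    hX2y hX2x hX2z
  refine ⟨i, by simpa [corr] using hi, ?_⟩
  have hU : ∀ v ∈ caseU i, v < 11 := by
    intro v hv
    rcases List.mem_append.1 hv with hv | hv
    · rw [List.getD_eq_getElem _ _ hi] at hv
      exact lt_trans (sg v hv) (by norm_num)
    · exact (show ∀ v ∈ hW, v < 11 by decide) v hv
  rw [crel_form i (by simpa [corr] using hi)]
  simp only [ev_append, g.inv_ev sX, g.inv_ev sq, g.ev_winv' hU]
  calc E xW * (H * E qW * H⁻¹) * (E xW)⁻¹ * (H * (E qW)⁻¹ * H⁻¹)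
      = (E xW * (H * E qW * H⁻¹)) * (E xW)⁻¹ * (H * E qW * H⁻¹)⁻¹ := by group
    _ = 1 := by rw [hcomm.eq]; group

theorem one_node {C : Cert} (hv : C.Valid) (hN : C.N = 1) (hl : C.nl = 11)
    (hinv : ∀ x < 11, C.inv x = ivl x) (i : ℕ) (hi : ev (lett a c r x d σ) (crel.getD i []) = 1)
    (hrel : ∀ j < C.nr, C.letters j ∈ relH ++ relS ++ [crel.getD i []])
    (hsub : ∀ j < C.words.length, C.nr ≤ j →
      C.letters j ∈ [[0], [2], [4], [6], [7]] ++ (traj.take 2).map (·.1)) : False := by
  have R : Reading C (lett a c r x d σ) (centralizer ({z} : Set G)) := by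
    refine ⟨hv, by omega, fun v hv' => ?_, fun j hj _ => ?_, fun j h1 h2 => ?_⟩
    · rw [hl] at hv'
      rw [hinv v hv', g.lett_inv v hv']
    · rcases List.mem_append.1 (hrel j hj) with h | h
      · rcases List.mem_append.1 h with h | h
        exacts [g.relH_one _ h, g.relS_one _ h]
      · rw [List.mem_singleton.1 h]; exact hi
    · rcases List.mem_append.1 (hsub j h2 h1) with h | h
      · refine g.ev_small fun v hv' => ?_
        simp only [List.mem_cons, List.not_mem_nil, or_false] at h
        rcases h with h | h | h | h | h <;> rw [h] at hv' <;>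
          simp only [List.mem_singleton] at hv' <;> omega
      · obtain ⟨t, ht, e⟩ := List.mem_map.1 h
        have := g.traj_conj (List.mem_of_mem_take ht)
        rw [(loops_check t ht).1, (loops_check t ht).2, g.z_ev, e] at this
        exact mem_centralizer_singleton_iff.2 (mul_inv_eq_iff_eq_mul.1 this)
  refine g.moved ?_
  have hm := R.mem_of_one hN (x := 9) (by omega)
  rw [show lett a c r x d σ 9 = σ by simp [lett]] at hm
  rw [mem_centralizer_singleton_iff.1 hm, mul_inv_cancel_right]

/-- The commutator relation. -/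
theorem crel_one : ev (lett a c r x d σ) (crel.getD 0 []) = 1 := by
  obtain ⟨i, hi, e⟩ := g.exists_crel
  obtain ⟨⟨l1, n1, v1⟩, ⟨l2, n2, v2⟩, ⟨l3, n3, v3⟩⟩ := And.intro certX1_shape (And.intro certX2_shape certX3_shape)
  interval_cases i
  · exact e
  · exact (g.one_node certX1_valid n1 l1 v1 1 e certX1_rels certX1_subs).elim
  · exact (g.one_node certX2_valid n2 l2 v2 2 e certX2_rels certX2_subs).elim
  · exact (g.one_node certX3_valid n3 l3 v3 3 e certX3_rels certX3_subs).elim

end Gens

end CfsgLib.Recognition.UFourThree
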