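import Cfsg.Agent.Lib.LocalEven.BenderSplit.Final
import Cfsg.Agent.Lib.LocalEven.BenderSplit.SplitTheorem
import Cfsg.Agent.Lib.Solvable.Cores
import Cfsg.Prelude.Def_Amalgam

/-!
A subgroup containing the centralizer of `z` and fusing all its involutions is the whole group, when the
2-elements of the centralizer generate an element of order 3 and the centralizer has trivial odd core.
-/

set_option autoImplicit false

namespace CfsgLib.Recognition.UFourThree

open Subgroup

universe u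

variable {G : Type u} [Group G] [Finite G]

/-- `G₀ ⊇ C(z)` fusing its involutions is strongly embedded as soon as it is proper. -/
theorem stronglyEmbedded_of_fused {z : G} (hz : orderOf z = 2) (G₀ : Subgroup G) (hne : G₀ ≠ ⊤)
    (hC : Subgroup.centralizer ({z} : Set G) ≤ G₀)
    (hconj : ∀ u ∈ G₀, orderOf u = 2 → ∃ a ∈ G₀, a * z * a⁻¹ = u) : Cfsg.IsStronglyEmbedded G₀ := by
  have hzG : z ∈ G₀ := hC (mem_centralizer_singleton_iff.mpr rfl)
  refine ⟨hne, ?_, fun g hg => ?_⟩
  · rw [even_iff_two_dvd, ← hz]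
    exact Subgroup.orderOf_dvd_natCard G₀ hzG
  rw [← Nat.not_even_iff_odd]
  intro heven
  haveI : Fact (Nat.Prime 2) := ⟨Nat.prime_two⟩
  obtain ⟨⟨u, hu⟩, hou⟩ := exists_prime_orderOf_dvd_card' 2 (even_iff_two_dvd.mp heven)
  have hu2 : orderOf u = 2 := by
    rw [← hou, ← Subgroup.orderOf_coe ⟨u, hu⟩]
  obtain ⟨hu1, v, hv, hvu⟩ := Subgroup.mem_inf.mp hu
  have hvu' : g * v * g⁻¹ = u := hvu
  have hv2 : orderOf v = 2 := by
    rw [← hu2, ← hvu', ← MulAut.conj_apply, MulEquiv.orderOf_eq]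
  obtain ⟨a, ha, hau⟩ := hconj u hu1 hu2
  obtain ⟨b, hb, hbv⟩ := hconj v hv hv2
  apply hg
  have hmem : a⁻¹ * g * b ∈ G₀ := hC (mem_centralizer_singleton_iff.mpr (by
    calc a⁻¹ * g * b * z = a⁻¹ * (g * (b * z * b⁻¹) * g⁻¹) * g * b := by group
      _ = a⁻¹ * (a * z * a⁻¹) * g * b := by rw [hbv, hvu', hau]
      _ = z * (a⁻¹ * g * b) := by group))
  have := mul_mem (mul_mem ha hmem) (inv_mem hb)
  simpa [mul_assoc] using this

/-- A subgroup containing `C(z)` in which all involutions are conjugate to `z` is the whole group. -/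
theorem eq_top {z t : G} (G₀ : Subgroup G) (hz : orderOf z = 2) (ht : orderOf t = 2) (hzt : Commute z t)
    (hne : t ≠ z) (hC : Subgroup.centralizer ({z} : Set G) ≤ G₀)
    (hconj : ∀ u ∈ G₀, orderOf u = 2 → ∃ a ∈ G₀, a * z * a⁻¹ = u)
    {r : G} (hr : orderOf r = 3) (hrC : r ∈ Cfsg.pElementClosure 2 (Subgroup.centralizer ({z} : Set G)))
    (hcore : Cfsg.pPrimeCore 2 ↥(Subgroup.centralizer ({z} : Set G)) = ⊥) : G₀ = ⊤ := by
  by_contra htop
  have hH := stronglyEmbedded_of_fused hz G₀ htop hC hconj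
  obtain ⟨T, hCT, hTH, hT, hN, htr⟩ := LocalEven.BenderSplit.exists_split_mod_core
    (LocalEven.BenderSplit.splitBelow_of_min LocalEven.BenderSplit.splitMin (Nat.card G + 1))
    (Nat.lt_succ_self _) hH ⟨z, t, hz, ht, hne.symm, hzt⟩
  obtain ⟨g, hg⟩ : ∃ g : G, g ∉ G₀ := by
    by_contra hall
    push Not at hall
    exact htop (eq_top_iff.mpr fun g _ => hall g)
  set D : Subgroup G := G₀ ⊓ G₀.map (MulAut.conj g).toMonoidHom
  have hD : Odd (Nat.card D) := hH.2.2 g hg
  have hcoreD : G₀.normalCore ≤ D := fun c hc => Subgroup.mem_inf.mpr ⟨G₀.normalCore_le hc, g⁻¹ * c * g,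
    by simpa using hc g⁻¹, by rw [MulEquiv.coe_toMonoidHom, MulAut.conj_apply]; group⟩
  -- the 2-elements of `G₀` lie in `T`
  set T' := T.subgroupOf G₀ with hT'
  haveI : T'.Normal := normal_subgroupOf_of_le_normalizer hN
  have hsurj : Function.Surjective ((QuotientGroup.mk' T').comp (D.subgroupOf G₀).subtype) := by
    intro q
    obtain ⟨h, rfl⟩ := QuotientGroup.mk_surjective q
    obtain ⟨s, hs, hmem⟩ := htr g ((h : G) * g) hg
      fun hc => hg (by simpa using mul_mem (inv_mem h.2) hc)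
    have hdH : s⁻¹ * (h : G) ∈ G₀ := mul_mem (inv_mem (hTH hs)) h.2
    have hdD : s⁻¹ * (h : G) ∈ D := Subgroup.mem_inf.mpr ⟨hdH, (s * g)⁻¹ * ((h : G) * g), hmem, by
      rw [MulEquiv.coe_toMonoidHom, MulAut.conj_apply]; group⟩
    refine ⟨⟨⟨_, hdH⟩, hdD⟩, QuotientGroup.eq.2 ?_⟩
    change (s⁻¹ * (h : G))⁻¹ * (h : G) ∈ T
    have e : (s⁻¹ * (h : G))⁻¹ * (h : G) = (h : G)⁻¹ * s * (h : G) := by group
    rw [e]
    simpa using LocalEven.BenderSplit.conj_mem_of_le_normalizer hN (inv_mem h.2) hs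
  have hindex : Odd (Nat.card (G₀ ⧸ T')) := by
    refine hD.of_dvd_nat ((Subgroup.card_dvd_of_surjective _ hsurj).trans ?_)
    rw [Nat.card_congr (Subgroup.subgroupOfEquivOfLe (inf_le_left : D ≤ G₀)).toEquiv]
  have h2T : Cfsg.pElementClosure 2 (Subgroup.centralizer ({z} : Set G)) ≤ T := by
    refine (Subgroup.closure_le _).mpr ?_
    rintro x ⟨hxC, k, hk⟩
    have hx : (⟨x, hC hxC⟩ : G₀) ∈ T' := by
      rw [← QuotientGroup.eq_one_iff, ← orderOf_eq_one_iff]
      refine Nat.eq_one_of_dvd_coprimes (a := 2 ^ k) (b := Nat.card (G₀ ⧸ T')) ?_ ?_ (_root_.orderOf_dvd_natCard _)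
      · exact (Nat.coprime_two_left.mpr hindex).pow_left k
      · rw [← hk, ← Subgroup.orderOf_mk x (hC hxC)]
        exact orderOf_map_dvd (QuotientGroup.mk' T') _
    exact hx
  obtain ⟨i, hi⟩ := hT r (h2T hrC)
  -- the element of order three lies in the odd core
  have hr2 : r ∈ G₀.normalCore := by
    obtain ⟨m, hm⟩ := exists_pow_eq_self_of_coprime (n := 2 ^ i) (x := r)
      (by rw [hr]; exact (by norm_num : Nat.Coprime 2 3).pow_left i)
    rw [← hm]; exact pow_mem hi m
  have hrz : r ∈ Subgroup.centralizer ({z} : Set G) := (Subgroup.closure_le _).mpr (fun _ hx => hx.1) hrC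
  set N : Subgroup ↥(Subgroup.centralizer ({z} : Set G)) := G₀.normalCore.subgroupOf _
  haveI : N.Normal := by
    haveI : G₀.normalCore.Normal := Subgroup.normalCore_normal G₀
    infer_instance
  have hNodd : (Nat.card N).Coprime 2 := by
    rw [Nat.coprime_two_right]
    refine hD.of_dvd_nat ?_
    refine (Subgroup.card_subtype _ N).symm.dvd.trans (Subgroup.card_dvd_of_le ?_)
    rintro _ ⟨y, hy, rfl⟩
    exact hcoreD hy
  have hN1 : (⟨r, hrz⟩ : ↥(Subgroup.centralizer ({z} : Set G))) ∈ (⊥ : Subgroup _) := by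
    rw [← hcore]
    exact Solvable.Cores.le_pPrimeCore hNodd hr2
  rw [Subgroup.mem_bot] at hN1
  have h1 : r = 1 := congrArg Subtype.val hN1
  rw [h1, orderOf_one] at hr
  exact absurd hr (by norm_num)

/-- In the same situation all involutions of the group are conjugate. -/
theorem involutions_conj {z t : G} (G₀ : Subgroup G) (hz : orderOf z = 2) (ht : orderOf t = 2) (hzt : Commute z t)
    (hne : t ≠ z) (hC : Subgroup.centralizer ({z} : Set G) ≤ G₀)
    (hconj : ∀ u ∈ G₀, orderOf u = 2 → ∃ a ∈ G₀, a * z * a⁻¹ = u)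
    {r : G} (hr : orderOf r = 3) (hrC : r ∈ Cfsg.pElementClosure 2 (Subgroup.centralizer ({z} : Set G)))
    (hcore : Cfsg.pPrimeCore 2 ↥(Subgroup.centralizer ({z} : Set G)) = ⊥) :
    ∀ x y : G, orderOf x = 2 → orderOf y = 2 → IsConj x y := by
  have htop := eq_top G₀ hz ht hzt hne hC hconj hr hrC hcore
  have key : ∀ x : G, orderOf x = 2 → IsConj z x := fun x hx => by
    obtain ⟨a, -, ha⟩ := hconj x (by rw [htop]; exact Subgroup.mem_top x) hx
    exact isConj_iff.mpr ⟨a, ha⟩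
  exact fun x y hx hy => (key x hx).symm.trans (key y hy)

end CfsgLib.Recognition.UFourThree
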