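import Cfsg.Agent.Lib.Recognition.UFourThree.Choices

/-!
# Generators and relations from the hypotheses
-/

set_option autoImplicit false
set_option linter.unusedSectionVars false

namespace CfsgLib.Recognition.UFourThree

open Subgroup

/-- Five generators of `C(z)` and an element of order three, with their relations. -/
structure Gens {G : Type*} [Group G] (z a c r x d σ : G) : Prop where
  a2 : a * a = z
  z2 : z * z = 1
  c2 : c * c = z
  ca : c * a * c⁻¹ = a⁻¹
  r3 : r ^ 3 = 1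
  ra : r * a * r⁻¹ = c
  rc : r * c * r⁻¹ = a * c
  x2 : x * x = 1
  cross : ∀ u ∈ ({a, c, r} : Set G), ∀ v ∈ ({a, c, r} : Set G), u * (x * v * x) = x * v * x * u
  xz : x * z * x = z
  d2 : d * d = a * (x * a * x)
  da : d * a * d⁻¹ = a
  dc : d * c * d⁻¹ = a⁻¹ * c
  dx : x * d * x = d⁻¹
  dr : d * r * d⁻¹ = a * r⁻¹
  s3 : σ ^ 3 = 1
  sa : σ * a * σ⁻¹ = d
  sd : σ * d * σ⁻¹ = a * d * (z * (a * (x * a * x)))
  se : σ * (c * (x * c * x)) * σ⁻¹ = x
  sx : σ * x * σ⁻¹ = c * (x * c * x) * x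
  inv : c * σ * c⁻¹ * σ * d = 1
  moved : σ * z * σ⁻¹ ≠ z
  mem : ∀ g ∈ ({a, c, r, x, d} : Set G), g ∈ centralizer ({z} : Set G)
  gen : centralizer ({z} : Set G) ≤ closure ({a, c, r, x, d} : Set G)
  card : Nat.card (centralizer ({z} : Set G)) = 1152

variable {G : Type*} [Group G] [Finite G] {z : G} {Q₁ Q₂ K₁ K₂ Q : Subgroup G}

/-- An element of `C(z)` carrying `Q₁` to `Q₂` carries `K₂` into `K₁`, if it squares to one. -/
theorem swap_factor (h : Hyp z Q₁ Q₂ K₁ K₂ Q) {x : G} (hx : x ∈ centralizer ({z} : Set G))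
    (h2 : x * x = 1) (hQ : ∀ q ∈ Q₂, x * q * x ∈ Q₁) {w : G} (hw : w ∈ K₂) : x * w * x ∈ K₁ := by
  have hxi : x⁻¹ = x := inv_eq_of_mul_eq_one_right h2
  obtain ⟨u, hu, v, hv, e⟩ := h.normK x hx w (Or.inr hw)
  rw [hxi] at e
  have hv' : v = 1 ∨ v = z := h.p₂.cent v hv fun q hq => by
    have h1 : (x * q * x) * w = w * (x * q * x) := h.comm _ (h.p₁.le (hQ q hq)) w hw
    have h3 : q * (x * w * x) = (x * w * x) * q := by
      calc q * (x * w * x) = (x * x) * q * (x * w * x) := by rw [h2, one_mul]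
        _ = x * ((x * q * x) * w) * x := by group
        _ = x * (w * (x * q * x)) * x := by rw [h1]
        _ = (x * w * x) * (q * (x * x)) := by group
        _ = (x * w * x) * q := by rw [h2, mul_one]
    rw [e, ← mul_assoc, ← h.comm u hu q (h.p₂.le hq), mul_assoc, mul_assoc] at h3
    exact mul_left_cancel h3
  rw [e]
  refine mul_mem hu ?_
  rcases hv' with rfl | rfl
  exacts [one_mem _, h.p₁.le h.p₁.z_mem]

/-- The same with the factors exchanged. -/
theorem swap_factor' (h : Hyp z Q₁ Q₂ K₁ K₂ Q) {x : G} (hx : x ∈ centralizer ({z} : Set G))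
    (h2 : x * x = 1) (hQ : ∀ q ∈ Q₁, x * q * x ∈ Q₂) {w : G} (hw : w ∈ K₁) : x * w * x ∈ K₂ := by
  have hxi : x⁻¹ = x := inv_eq_of_mul_eq_one_right h2
  obtain ⟨u, hu, v, hv, e⟩ := h.normK x hx w (Or.inl hw)
  rw [hxi] at e
  have hu' : u = 1 ∨ u = z := h.p₁.cent u hu fun q hq => by
    have h1 : w * (x * q * x) = (x * q * x) * w := h.comm w hw _ (h.p₂.le (hQ q hq))
    have h3 : q * (x * w * x) = (x * w * x) * q := by
      calc q * (x * w * x) = (x * x) * q * (x * w * x) := by rw [h2, one_mul]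
        _ = x * ((x * q * x) * w) * x := by group
        _ = x * (w * (x * q * x)) * x := by rw [← h1]
        _ = (x * w * x) * (q * (x * x)) := by group
        _ = (x * w * x) * q := by rw [h2, mul_one]
    rw [e, mul_assoc u v q, ← h.comm q (h.p₁.le hq) v hv, ← mul_assoc, ← mul_assoc] at h3
    exact mul_right_cancel h3
  rw [e]
  refine mul_mem ?_ hv
  rcases hu' with rfl | rfl
  exacts [one_mem _, h.p₂.le h.p₂.z_mem]

theorem exists_gens (h : Hyp z Q₁ Q₂ K₁ K₂ Q) : ∃ a c r x d σ : G, Gens z a c r x d σ := by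
  obtain ⟨a, b, t, σ, c, c', S, hxc, hdc, hinv⟩ := exists_choices h
  have K := Pre.klein h S
  obtain ⟨hda, -, hde, hxe, hf, hsx, hall⟩ := Pre.shape h S (Pre.card_four h S)
  obtain ⟨r, hr, hr3, hra, hrc, hcov⟩ := h.p₁.rot a S.a_mem S.a_sq c S.c_mem S.c_sq S.a_c
  have md := Pre.conj_four h S (Pre.a_four h S)
  have mx := Pre.conj_four h S (Pre.e_four h S)
  have hxi := Pre.x_inv h S
  have hxa := Pre.x_a h S
  have hxb := Pre.x_b h S
  have hd2 : (σ * a * σ⁻¹) * (σ * a * σ⁻¹) = t := by rw [← S.sigma_z, ← S.a_sq]; group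
  have hx2 : (σ * (c * c') * σ⁻¹) * (σ * (c * c') * σ⁻¹) = 1 := by
    nth_rewrite 1 [← hxi]
    exact inv_mul_cancel _
  have hdx : (σ * a * σ⁻¹) * (σ * (c * c') * σ⁻¹) = t * ((σ * (c * c') * σ⁻¹) * (σ * a * σ⁻¹)) := by
    have := (Pre.br_conj h S (Pre.br_ae h S)).2
    simp only [rotCode, List.getD_cons_zero, List.getD_cons_succ, xi_two] at this
    exact this
  generalize hd : σ * a * σ⁻¹ = d at hda hde hf hdc hinv hall md hd2 hdx
  generalize hx : σ * (c * c') * σ⁻¹ = x at hxe hsx hxc hall mx hxi hxa hxb hx2 hdx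
  rw [hxi] at hxc hxa hxb
  have hxC : x ∈ centralizer ({z} : Set G) := mem_centralizer_singleton_iff.2 (mem_four.1 mx).1
  have hdC : d ∈ centralizer ({z} : Set G) := mem_centralizer_singleton_iff.2 (mem_four.1 md).1
  have hxz : x * z * x = z := by rw [(mem_four.1 mx).1, mul_assoc, hx2, mul_one]
  have hback : ∀ u v : G, x * u * x = v → x * v * x = u := fun u v e => by
    calc x * v * x = (x * x) * u * (x * x) := by rw [← e]; group
      _ = u := by rw [hx2, one_mul, mul_one]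
  have hxc' : x * c' * x = c := hback c c' hxc
  have hmulx : ∀ u v : G, x * (u * v) * x = (x * u * x) * (x * v * x) := fun u v => by
    calc x * (u * v) * x = x * u * (x * x) * v * x := by rw [hx2]; group
      _ = (x * u * x) * (x * v * x) := by group
  have hinvx : ∀ u : G, x * u⁻¹ * x = (x * u * x)⁻¹ := fun u => by
    rw [mul_inv_rev, mul_inv_rev, hxi, mul_assoc]
  have hQ12 : ∀ q ∈ Q₁, x * q * x ∈ Q₂ := by
    intro q hq
    rcases h.p₁.gen a S.a_mem S.a_sq c S.c_mem S.c_sq S.a_c q hq with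
      rfl | rfl | rfl | rfl | rfl | rfl | rfl | rfl
    · rw [mul_one, hx2]; exact one_mem _
    · rw [hxz]; exact h.p₂.z_mem
    · rw [hxa]; exact S.b_mem
    · rw [hinvx, hxa]; exact inv_mem S.b_mem
    · rw [hxc]; exact S.c'_mem
    · rw [hinvx, hxc]; exact inv_mem S.c'_mem
    · rw [hmulx, hxa, hxc]; exact mul_mem S.b_mem S.c'_mem
    · rw [hmulx, hxa, hxc]; exact mul_mem S.c'_mem S.b_mem
  have hQ21 : ∀ q ∈ Q₂, x * q * x ∈ Q₁ := by
    intro q hq
    rcases h.p₂.gen b S.b_mem S.b_sq c' S.c'_mem S.c'_sq S.b_c' q hq with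
      rfl | rfl | rfl | rfl | rfl | rfl | rfl | rfl
    · rw [mul_one, hx2]; exact one_mem _
    · rw [hxz]; exact h.p₁.z_mem
    · rw [hxb]; exact S.a_mem
    · rw [hinvx, hxb]; exact inv_mem S.a_mem
    · rw [hxc']; exact S.c_mem
    · rw [hinvx, hxc']; exact inv_mem S.c_mem
    · rw [hmulx, hxb, hxc']; exact mul_mem S.a_mem S.c_mem
    · rw [hmulx, hxb, hxc']; exact mul_mem S.c_mem S.a_mem
  have hK12 : ∀ w ∈ K₁, x * w * x ∈ K₂ := fun w hw => swap_factor' h hxC hx2 hQ12 hw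
  have hK21 : ∀ w ∈ K₂, x * w * x ∈ K₁ := fun w hw => swap_factor h hxC hx2 hQ21 hw
  have hcross : ∀ u ∈ ({a, c, r} : Set G), ∀ v ∈ ({a, c, r} : Set G), u * (x * v * x) = x * v * x * u := by
    intro u hu v hv
    have mem : ∀ w ∈ ({a, c, r} : Set G), w ∈ K₁ := by
      rintro w (rfl | rfl | rfl)
      exacts [h.p₁.le S.a_mem, h.p₁.le S.c_mem, hr]
    exact h.comm u (mem u hu) _ (hK12 v (mem v hv))
  -- the action of `d` on `r`
  have hdz : d * z * d⁻¹ = z := by rw [(mem_four.1 md).1, mul_inv_cancel_right]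
  have hdb : d * b * d⁻¹ = b := by
    have hb : b = a⁻¹ * t := by rw [S.t_eq]; group
    rw [hb]
    calc d * (a⁻¹ * t) * d⁻¹ = (d * a * d⁻¹)⁻¹ * (d * t * d⁻¹) := by group
      _ = _ := by rw [hda, mul_inv_cancel_right, (mem_four.1 md).2, mul_inv_cancel_right]
  have hrc' : r⁻¹ * c * r = a := by rw [← hra]; group
  have hrac : r * (a * c) * r⁻¹ = a := by
    calc r * (a * c) * r⁻¹ = (r * a * r⁻¹) * (r * c * r⁻¹) := by group
      _ = c * a * c⁻¹ * (c * c) := by rw [hra, hrc, ← mul_assoc]; group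
      _ = a := by
        rw [(h.p₁.flip a S.a_mem S.a_sq c S.c_mem S.c_sq S.a_c).1, S.c_sq, ← S.a_sq, inv_mul_cancel_left]
  have hflip := (h.p₁.flip a S.a_mem S.a_sq c S.c_mem S.c_sq S.a_c).1
  have hdr : d * r * d⁻¹ = a * r⁻¹ := by
    obtain ⟨u, hu, w, hw, e⟩ := h.normK d hdC r (Or.inl hr)
    set k := a * r⁻¹ with hk
    have hkK : k ∈ K₁ := mul_mem (h.p₁.le S.a_mem) (inv_mem hr)
    have hda' : d * a * d⁻¹ = a := by rw [hda, mul_inv_cancel_right]
    -- both conjugate `a` and `c` alike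
    have eD : d * (a * c) * d⁻¹ = c := by
      calc d * (a * c) * d⁻¹ = (d * a * d⁻¹) * (d * c * d⁻¹) := by group
        _ = c := by rw [hda', hdc, mul_inv_cancel_left]
    have hac' : r⁻¹ * a * r = a * c := by
      calc r⁻¹ * a * r = r⁻¹ * (r * (a * c) * r⁻¹) * r := by rw [hrac]
        _ = a * c := by group
    have f1 : d * r * d⁻¹ * a * (d * r * d⁻¹)⁻¹ = a⁻¹ * c := by
      calc d * r * d⁻¹ * a * (d * r * d⁻¹)⁻¹ = d * (r * (d⁻¹ * (d * a * d⁻¹) * d) * r⁻¹) * d⁻¹ := by
            rw [hda']; group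
        _ = a⁻¹ * c := by rw [show d⁻¹ * (d * a * d⁻¹) * d = a by group, hra, hdc]
    have f2 : k * a * k⁻¹ = a⁻¹ * c := by
      calc k * a * k⁻¹ = a * (r⁻¹ * a * r) * a⁻¹ := by rw [hk]; group
        _ = a * (a * c) * a⁻¹ := by rw [hac']
        _ = a⁻¹ * c := by
          have e1 : a * c * a⁻¹ = z * c := by
            rw [(h.p₁.flip a S.a_mem S.a_sq c S.c_mem S.c_sq S.a_c).2]
            exact inv_eq_of_mul_eq_one_right (by
              rw [← mul_assoc, h.mem_C₁ S.c_mem, mul_assoc, S.c_sq, h.z_sq])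
          calc a * (a * c) * a⁻¹ = a * (a * c * a⁻¹) := by group
            _ = a * (z * c) := by rw [e1]
            _ = a⁻¹ * c := by rw [← mul_assoc, h.mem_C₁ S.a_mem, Pre.a_inv h S]
    have g1 : d * r * d⁻¹ * c * (d * r * d⁻¹)⁻¹ = a := by
      calc d * r * d⁻¹ * c * (d * r * d⁻¹)⁻¹ = d * (r * (d⁻¹ * (d * (a * c) * d⁻¹) * d) * r⁻¹) * d⁻¹ := by
            rw [eD]; group
        _ = a := by rw [show d⁻¹ * (d * (a * c) * d⁻¹) * d = a * c by group, hrac, hda']
    have g2 : k * c * k⁻¹ = a := by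
      calc k * c * k⁻¹ = a * (r⁻¹ * c * r) * a⁻¹ := by rw [hk]; group
        _ = a := by rw [hrc', mul_inv_cancel_right]
    set m := k⁻¹ * (d * r * d⁻¹) with hm
    have ma : a * m = m * a := by
      calc a * m = k⁻¹ * (k * a * k⁻¹) * (d * r * d⁻¹) := by rw [hm]; group
        _ = m * a := by rw [f2, ← f1, hm]; group
    have mc : c * m = m * c := by
      calc c * m = k⁻¹ * (k * c * k⁻¹) * (d * r * d⁻¹) := by rw [hm]; group
        _ = m * c := by rw [g2, ← g1, hm]; group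
    have mq1 : ∀ q ∈ Q₁, q * m = m * q := by
      intro q hq
      have base : ∀ g ∈ ({a, c} : Set G), g ∈ centralizer ({m} : Set G) := by
        rintro g (rfl | rfl) <;> rw [mem_centralizer_singleton_iff]
        exacts [ma, mc]
      have h1 := base a (by simp)
      have h2 := base c (by simp)
      have hz' : z ∈ centralizer ({m} : Set G) := by
        rw [← S.a_sq]; exact mul_mem h1 h1
      refine mem_centralizer_singleton_iff.1 (?_ : q ∈ centralizer ({m} : Set G))
      rcases h.p₁.gen a S.a_mem S.a_sq c S.c_mem S.c_sq S.a_c q hq with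
        e | e | e | e | e | e | e | e <;> rw [e]
      exacts [one_mem _, hz', h1, inv_mem h1, h2, inv_mem h2, mul_mem h1 h2, mul_mem h2 h1]
    have hdQ2 : ∀ q ∈ Q₂, d⁻¹ * q * d ∈ Q₂ := by
      intro q hq
      have hm' := h.norm d⁻¹ (inv_mem hdC) q (h.right_mem_Q hq)
      rw [inv_inv] at hm'
      rcases h.sq₂_cases hq with ⟨-, e1 | e1⟩ | e1
      · rw [e1]; simp
      · rw [e1, mul_assoc, ← (mem_four.1 md).1, inv_mul_cancel_left]; exact h.p₂.z_mem
      · have hs : (d⁻¹ * q * d) * (d⁻¹ * q * d) = z := by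
          calc (d⁻¹ * q * d) * (d⁻¹ * q * d) = d⁻¹ * ((q * q) * d) := by group
            _ = z := by rw [e1, ← (mem_four.1 md).1, inv_mul_cancel_left]
        refine (h.four_Q hm' hs).resolve_left fun h1 => ?_
        -- otherwise `q` would commute with `b` and with its flip
        have hqb : q * b = b * q := by
          have e3 := h.comm₁₂ h1 S.b_mem
          calc q * b = d * ((d⁻¹ * q * d) * (d⁻¹ * (d * b * d⁻¹) * d)) * d⁻¹ := by rw [hdb]; group
            _ = d * ((d⁻¹ * q * d) * b) * d⁻¹ := by rw [show d⁻¹ * (d * b * d⁻¹) * d = b by group]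
            _ = (d * b * d⁻¹) * q := by rw [e3]; group
            _ = b * q := by rw [hdb]
        have hb2 : d⁻¹ * q * d = b ∨ d⁻¹ * q * d = b⁻¹ := by
          have e : d⁻¹ * b * d = b := by
            calc d⁻¹ * b * d = d⁻¹ * (d * b * d⁻¹) * d := by rw [hdb]
              _ = b := by group
          rcases h.p₂.comm b S.b_mem S.b_sq q hq hqb with rfl | rfl | rfl | rfl
          · rw [one_mul] at e1; exact absurd e1.symm h.z_ne
          · rw [h.z_sq] at e1; exact absurd e1.symm h.z_ne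
          · exact Or.inl e
          · exact Or.inr (by rw [show d⁻¹ * b⁻¹ * d = (d⁻¹ * b * d)⁻¹ by group, e])
        have hb1 : b ∈ Q₁ := by
          rcases hb2 with e | e
          · exact e ▸ h1
          · exact inv_inv b ▸ inv_mem (e ▸ h1)
        rcases h.inter_Q hb1 S.b_mem with e | e
        · exact h.z_ne (by rw [← S.b_sq, e, one_mul])
        · exact h.z_ne (by rw [← S.b_sq, e, h.z_sq])
    have mq2 : ∀ q ∈ Q₂, q * m = m * q := by
      intro q hq
      have h1 := h.comm r hr _ (h.p₂.le (hdQ2 q hq))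
      have h2 : (d * r * d⁻¹) * q = q * (d * r * d⁻¹) := by
        calc (d * r * d⁻¹) * q = d * (r * (d⁻¹ * q * d)) * d⁻¹ := by group
          _ = q * (d * r * d⁻¹) := by rw [h1]; group
      have h3 := h.comm k⁻¹ (inv_mem hkK) q (h.p₂.le hq)
      rw [hm, ← mul_assoc, ← h3, mul_assoc, ← h2, ← mul_assoc]
    have hmC : m ∈ centralizer ({z} : Set G) :=
      mul_mem (inv_mem (h.le₁ hkK)) (mul_mem (mul_mem hdC (h.le₁ hr)) (inv_mem hdC))
    have hmQ : m ∈ Q := h.selfc m hmC fun q hq => by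
      obtain ⟨q₁, hq₁, q₂, hq₂, rfl⟩ := (h.mem_Q q).1 hq
      rw [mul_assoc, mq2 q₂ hq₂, ← mul_assoc, mq1 q₁ hq₁, mul_assoc]
    obtain ⟨m₁, hm₁, m₂, hm₂, em⟩ := (h.mem_Q m).1 hmQ
    have z1 : m₁ = 1 ∨ m₁ = z := h.p₁.cent m₁ (h.p₁.le hm₁) fun q hq => by
      have := mq1 q hq
      rw [em, mul_assoc m₁, ← h.comm₁₂ hq hm₂, ← mul_assoc, ← mul_assoc] at this
      exact mul_right_cancel this
    have z2 : m₂ = 1 ∨ m₂ = z := h.p₂.cent m₂ (h.p₂.le hm₂) fun q hq => by
      have := mq2 q hq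
      rw [em, ← mul_assoc, ← h.comm₁₂ hm₁ hq, mul_assoc, mul_assoc] at this
      exact mul_left_cancel this
    have hm' : m = 1 ∨ m = z := by
      rw [em]
      rcases z1 with e1 | e1 <;> rcases z2 with e2 | e2 <;> rw [e1, e2] <;> simp [h.z_sq]
    have hd3 : (d * r * d⁻¹) ^ 3 = 1 := by
      rw [conj_pow, hr3]; group
    have hk3 : k ^ 3 = 1 := by
      calc k ^ 3 = a * (r⁻¹ * a * r) * (r⁻¹ * (r⁻¹ * a * r) * r) * (r ^ 3)⁻¹ := by
            rw [hk, pow_three, pow_three]; group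
        _ = a * (a * c) * ((a * c) * a) := by
            rw [hr3, hac', show r⁻¹ * (a * c) * r = (r⁻¹ * a * r) * (r⁻¹ * c * r) by group, hac', hrc']
            group
        _ = a * a * (c * a * c⁻¹) * (c * c) * a := by group
        _ = 1 := by
            rw [hflip, S.c_sq, ← S.a_sq]
            calc a * a * a⁻¹ * (a * a) * a = (a * a) * (a * a) := by group
              _ = 1 := by rw [S.a_sq, h.z_sq]
    have e : d * r * d⁻¹ = k * m := by rw [hm]; group
    rcases hm' with e' | e'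
    · rw [e, e', mul_one]
    · exfalso
      rw [e, e'] at hd3
      have hkz : k * z = z * k := mem_centralizer_singleton_iff.1 (h.le₁ hkK)
      rw [Commute.mul_pow hkz, hk3, one_mul, pow_three, ← mul_assoc, h.z_sq, one_mul] at hd3
      exact h.z_ne hd3
  -- generation
  set L := closure ({a, c, r, x, d} : Set G) with hL
  have mL : ∀ g ∈ ({a, c, r, x, d} : Set G), g ∈ L := fun g hg => subset_closure hg
  have la := mL a (by simp)
  have lc := mL c (by simp)
  have lr := mL r (by simp)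
  have lx := mL x (by simp)
  have ld := mL d (by simp)
  have lz : z ∈ L := S.a_sq ▸ mul_mem la la
  have lQ₁ : ∀ q ∈ Q₁, q ∈ L := by
    intro q hq
    rcases h.p₁.gen a S.a_mem S.a_sq c S.c_mem S.c_sq S.a_c q hq with
      e | e | e | e | e | e | e | e <;> rw [e]
    exacts [one_mem _, lz, la, inv_mem la, lc, inv_mem lc, mul_mem la lc, mul_mem lc la]
  have lK₁ : ∀ k ∈ K₁, k ∈ L := by
    intro k hk
    rcases hcov k hk with e | e | e
    · exact lQ₁ k e
    · simpa using mul_mem (lQ₁ _ e) (inv_mem lr)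
    · simpa using mul_mem (lQ₁ _ e) lr
  have lK₂ : ∀ k ∈ K₂, k ∈ L := fun k hk => by
    rw [← hback k _ rfl]
    exact mul_mem (mul_mem lx (lK₁ _ (hK21 k hk))) lx
  have lt : t ∈ L := S.t_eq ▸ mul_mem la (hxa ▸ mul_mem (mul_mem lx la) lx)
  have le' : c * c' ∈ L := mul_mem lc (hxc ▸ mul_mem (mul_mem lx lc) lx)
  have hgen : centralizer ({z} : Set G) ≤ L := by
    intro g hg
    obtain ⟨hm0, hs0, h10, hz0⟩ := h.prod_invol S.a_mem S.a_sq S.b_mem S.b_sq
    rw [← S.t_eq] at hm0 hs0 h10 hz0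
    have hgz : g * z * g⁻¹ = z := by rw [mem_centralizer_singleton_iff.1 hg, mul_inv_cancel_right]
    obtain ⟨q, hq, w, hw, hq2, hw2, e⟩ := h.invol_Q (h.norm g hg t hm0)
      (by rw [conj_mul, hs0]; group) (fun e => h10 (by
        calc t = g⁻¹ * (g * t * g⁻¹) * g := by group
          _ = 1 := by rw [e]; group))
      (fun e => hz0 (by
        calc t = g⁻¹ * (g * t * g⁻¹) * g := by group
          _ = g⁻¹ * (g * z * g⁻¹) * g := by rw [e, hgz]
          _ = z := by group))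
    obtain ⟨k, hk, ek⟩ := h.transitive₁ a S.a_mem S.a_sq q hq hq2
    obtain ⟨l, hl, el⟩ := h.transitive₂ b S.b_mem S.b_sq w hw hw2
    have hkl : k * l * t * (k * l)⁻¹ = g * t * g⁻¹ := by
      have h1 : l * a * l⁻¹ = a := by rw [← h.comm a (h.p₁.le S.a_mem) l hl, mul_inv_cancel_right]
      have h2 : k * w * k⁻¹ = w := by rw [h.comm k hk w (h.p₂.le hw), mul_inv_cancel_right]
      calc k * l * t * (k * l)⁻¹ = k * ((l * a * l⁻¹) * (l * b * l⁻¹)) * k⁻¹ := by rw [S.t_eq]; group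
        _ = (k * a * k⁻¹) * (k * w * k⁻¹) := by rw [h1, el]; group
        _ = _ := by rw [ek, h2, e]
    have hp : (k * l)⁻¹ * g ∈ four z t := by
      refine mem_four.2 ⟨mem_centralizer_singleton_iff.1
        (mul_mem (inv_mem (mul_mem (h.le₁ hk) (h.le₂ hl))) hg), ?_⟩
      calc (k * l)⁻¹ * g * t = (k * l)⁻¹ * (g * t * g⁻¹) * g := by group
        _ = t * ((k * l)⁻¹ * g) := by rw [← hkl]; group
    obtain ⟨p, -, i, hi, ep⟩ := hall _ hp
    have : (k * l)⁻¹ * g ∈ L := by
      rw [ep]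
      refine mul_mem (mul_mem (pow_mem la _) (mul_mem (pow_mem le' _)
        (mul_mem (pow_mem ld _) (pow_mem lx _)))) ?_
      interval_cases i
      exacts [one_mem _, lz, lt, mul_mem lz lt]
    have h' := mul_mem (mul_mem (lK₁ k hk) (lK₂ l hl)) this
    rwa [mul_inv_cancel_left] at h' 
  refine ⟨a, c, r, x, d, σ,
    { a2 := S.a_sq, z2 := h.z_sq, c2 := S.c_sq, ca := hflip, r3 := hr3, ra := hra, rc := hrc, x2 := hx2,
      cross := hcross, xz := hxz, d2 := by rw [hxa, hd2, S.t_eq],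
      da := by rw [hda, mul_inv_cancel_right], dc := hdc, dx := ?_, dr := hdr, s3 := S.sigma3,
      sa := hd, sd := by rw [hxa, hf, S.t_eq], se := by rw [hxc, hx], sx := by rw [hxc, hsx],
      inv := hinv, moved := by rw [S.sigma_z]; exact K.tz, mem := ?_, gen := hgen, card := h.card_C }⟩
  · have hdx' : x * d * x = t⁻¹ * d * (x * x) := by
      calc x * d * x = t⁻¹ * (t * (x * d)) * x := by group
        _ = t⁻¹ * (d * x) * x := by rw [hdx]
        _ = _ := by group
    rw [hdx', hx2, mul_one, ← hd2]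
    group
  · rintro g (rfl | rfl | rfl | rfl | rfl)
    exacts [h.le₁ (h.p₁.le S.a_mem), h.le₁ (h.p₁.le S.c_mem), h.le₁ hr, hxC, hdC]

end CfsgLib.Recognition.UFourThree
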