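import Mathlib

/-!
# A Sylow two-subgroup inside the centraliser of an involution
-/

set_option autoImplicit false

namespace CfsgLib.Recognition.UFourThree

open Subgroup

variable {G : Type*} [Group G] [Finite G] {z : G} (hz : orderOf z = 2) (S : Subgroup G)
  (hS : S ≤ centralizer {z}) (hcard : Nat.card S = 128)
  (h256 : ¬ 256 ∣ Nat.card (centralizer ({z} : Set G)))
  (hcen : ∀ g ∈ S, (∀ s ∈ S, Commute g s) → g = 1 ∨ g = z)

include hz hS hcard h256 hcen

/-- `S` is a Sylow two-subgroup of `G`. -/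
theorem exists_sylow_eq : ∃ P : Sylow 2 G, (P : Subgroup G) = S := by
  haveI : Fact (Nat.Prime 2) := ⟨Nat.prime_two⟩
  have hmax : ∀ T : Subgroup G, S ≤ T → T ≤ centralizer {z} → IsPGroup 2 T → T = S := by
    intro T hST hTC hT
    obtain ⟨k, hk⟩ := IsPGroup.iff_card.1 hT
    refine (Subgroup.eq_of_le_of_card_ge hST ?_).symm
    by_contra hlt
    refine h256 (dvd_trans ?_ (Subgroup.card_dvd_of_le hTC))
    rw [hk]
    have h7 : 2 ^ 7 < 2 ^ k := by rw [← hk]; norm_num; omega
    exact pow_dvd_pow 2 (show 8 ≤ k from (Nat.pow_lt_pow_iff_right (le_refl 2)).1 h7)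
  have hSp : IsPGroup 2 S := IsPGroup.of_card (n := 7) (by rw [hcard]; norm_num)
  have hzC : zpowers z ≤ centralizer ({z} : Set G) :=
    zpowers_le.2 (mem_centralizer_singleton_iff.2 rfl)
  have hzp : IsPGroup 2 (zpowers z) := IsPGroup.of_card (n := 1) (by rw [Nat.card_zpowers, hz, pow_one])
  have hzn : S ≤ normalizer (zpowers z : Set G) := fun s hs => by
    rw [Subgroup.mem_normalizer_iff]
    intro n
    have hc : ∀ m ∈ zpowers z, s * m * s⁻¹ = m := fun m hm => by
      obtain ⟨i, rfl⟩ := mem_zpowers_iff.1 hm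
      rw [((show Commute s z from mem_centralizer_singleton_iff.1 (hS hs)).zpow_right i).eq,
        mul_inv_cancel_right]
    refine ⟨fun hn => by rw [hc n hn]; exact hn, fun hn => ?_⟩
    have h := hc _ hn
    have : n = s * n * s⁻¹ := by
      calc n = s⁻¹ * (s * n * s⁻¹) * s := by group
        _ = s⁻¹ * (s * (s * n * s⁻¹) * s⁻¹) * s := by rw [h]
        _ = s * n * s⁻¹ := by group
    rwa [this]
  have hzS : z ∈ S := by
    have h := hmax (S ⊔ zpowers z) le_sup_left (sup_le hS hzC) (hSp.to_sup_of_normal_right' hzp hzn)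
    exact h ▸ (mem_sup_right (mem_zpowers z) : z ∈ S ⊔ zpowers z)
  obtain ⟨P, hP⟩ := hSp.exists_le_sylow
  refine ⟨P, ?_⟩
  by_contra hne
  have hnorm : NormalizerCondition ↥(P : Subgroup G) := by
    haveI : Group.IsNilpotent ↥(P : Subgroup G) := P.2.isNilpotent
    exact Group.normalizerCondition_of_isNilpotent
  have hlt : S.subgroupOf (P : Subgroup G) < ⊤ := lt_top_iff_ne_top.2 fun h =>
    hne (le_antisymm (subgroupOf_eq_top.1 h) hP)
  obtain ⟨g, hg, hgS⟩ := SetLike.exists_of_lt (hnorm _ hlt)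
  have hgn : ∀ s, s ∈ S ↔ (g : G) * s * (g : G)⁻¹ ∈ S := by
    intro s
    constructor
    · intro hs
      exact ((Subgroup.mem_normalizer_iff.1 hg) ⟨s, hP hs⟩).1 hs
    · intro hs
      have hs' : (g : G)⁻¹ * ((g : G) * s * (g : G)⁻¹) * g ∈ (P : Subgroup G) :=
        mul_mem (mul_mem (inv_mem g.2) (hP hs)) g.2
      rw [show (g : G)⁻¹ * ((g : G) * s * (g : G)⁻¹) * g = s by group] at hs'
      exact ((Subgroup.mem_normalizer_iff.1 hg) ⟨s, hs'⟩).2 hs
  have hgz : (g : G) * z * (g : G)⁻¹ = z := by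
    refine (hcen _ ((hgn z).1 hzS) fun s hs => ?_).resolve_left fun h => ?_
    · have hs' : (g : G)⁻¹ * s * g ∈ S := (hgn _).2 (by
        rwa [show (g : G) * ((g : G)⁻¹ * s * g) * (g : G)⁻¹ = s by group])
      have h := ((show Commute ((g : G)⁻¹ * s * g) z from mem_centralizer_singleton_iff.1 (hS hs')).map
        (MulAut.conj (g : G)).toMonoidHom).symm
      simpa [mul_assoc] using h
    · have : z = 1 := by simpa using h
      rw [this, orderOf_one] at hz
      norm_num at hz
  refine hgS (hmax (S ⊔ zpowers (g : G)) le_sup_left (sup_le hS (zpowers_le.2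
    (mem_centralizer_singleton_iff.2 (mul_inv_eq_iff_eq_mul.1 hgz))))
    (P.2.to_le (sup_le hP (zpowers_le.2 g.2))) ▸
      (mem_sup_right (mem_zpowers (g : G)) : (g : G) ∈ S ⊔ zpowers (g : G)))

theorem not_dvd_card : ¬ 256 ∣ Nat.card G := by
  haveI : Fact (Nat.Prime 2) := ⟨Nat.prime_two⟩
  obtain ⟨P, hP⟩ := exists_sylow_eq hz S hS hcard h256 hcen
  intro h
  have := P.pow_dvd_card_of_pow_dvd_card (n := 8) (by norm_num; exact h)
  rw [hP, hcard] at this
  norm_num at this

theorem involutions_conj_centre (hH : ∀ i : G, Commute i z → orderOf i = 2 → IsConj i z) :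
    ∀ i : G, orderOf i = 2 → IsConj i z := by
  haveI : Fact (Nat.Prime 2) := ⟨Nat.prime_two⟩
  obtain ⟨P, hP⟩ := exists_sylow_eq hz S hS hcard h256 hcen
  intro i hi
  obtain ⟨R, hR⟩ := (IsPGroup.of_card (n := 1)
    (by rw [Nat.card_zpowers, hi, pow_one]) : IsPGroup 2 (zpowers i)).exists_le_sylow
  obtain ⟨g, hg⟩ := MulAction.exists_smul_eq G R P
  have hmem : g * i * g⁻¹ ∈ S := by
    rw [← hP, ← hg, Sylow.coe_subgroup_smul, Subgroup.mem_pointwise_smul_iff_inv_smul_mem]
    simpa [mul_assoc] using hR (mem_zpowers i)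
  refine (isConj_iff.2 ⟨g, rfl⟩).trans (hH _ (mem_centralizer_singleton_iff.1 (hS hmem)) ?_)
  have := MulEquiv.orderOf_eq (MulAut.conj g) i
  simpa [hi] using this

omit hz hS hcard h256 hcen [Finite G] in
/-- One class of involutions is preserved by isomorphisms. -/
theorem isConj_of_iso {A B : Type*} [Group A] [Group B] (e : A ≃* B)
    (h : ∀ a b : A, orderOf a = 2 → orderOf b = 2 → IsConj a b) :
    ∀ a b : B, orderOf a = 2 → orderOf b = 2 → IsConj a b := fun a b ha hb => by
  simpa using e.toMonoidHom.map_isConj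
    (h (e.symm a) (e.symm b) (by simpa using ha) (by simpa using hb))

end CfsgLib.Recognition.UFourThree
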