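import Cfsg.Agent.Lib.Recognition.UFourThree.Transfer
import Cfsg.Agent.Lib.Recognition.UFourThree.SylowTwo

/-!
# Facts about the centraliser read off its keys
-/

set_option autoImplicit false
set_option maxRecDepth 100000
set_option linter.unusedSectionVars false

namespace CfsgLib.Recognition.UFourThree

open CfsgLib.Sporadic.CosetCert (Cert)
open CfsgLib.Sporadic.OutCert (lk allF allF_iff)
open Subgroup Data CertData

/-- The key of the identity. -/
def one0 : ℕ := keyHn 0

/-- The element of order three fixed by the swap. -/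
def yW : List ℕ := [4, 6, 4, 6]

/-- The second involution of the four group before conjugation. -/
def zpW : List ℕ := [0, 2, 6, 0, 2]

/-- The representatives of the involution classes of the centraliser. -/
def repW : List (List ℕ) := [[0, 0], [0, 6, 0, 6], [6], [6, 7]]

/-- Concatenation along a list of indices. -/
def flatV (V : List (List ℕ)) (w : List ℕ) : List ℕ := (w.map fun i => V.getD i []).flatten

/-- The check that a list of index words is a subgroup. -/
def closedOK (V : List (List ℕ)) (LS : List (List ℕ)) : Bool :=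
  let K := LS.map fun w => runH (flatV V w)
  decide (K.Nodup) && decide (one0 ∈ K) && decide (∀ v ∈ V, Small v) &&
    (LS.all fun w => V.all fun v =>
      decide (runH (flatV V w ++ v) ∈ K) && decide (runH (flatV V w ++ winv ivl v) ∈ K))

/-- Words for a Sylow subgroup of the centraliser. -/
def sylowV : List (List ℕ) := [[0], [2], [6], [7]]

/-- The elements of a Sylow subgroup of the centraliser. -/
def sylowW : List (List ℕ) :=
  [[], [0], [1], [2], [3], [0, 0],
  [0, 1], [0, 2], [0, 3], [1, 0], [1, 2], [1, 3],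
  [2, 0], [2, 1], [2, 3], [3, 1], [3, 2], [3, 3],
  [0, 0, 0], [0, 0, 1], [0, 0, 2], [0, 0, 3], [0, 1, 2], [0, 1, 3],
  [0, 2, 0], [0, 2, 1], [0, 2, 3], [0, 3, 2], [0, 3, 3], [1, 0, 2],
  [1, 2, 0], [1, 2, 1], [1, 2, 3], [1, 3, 1], [1, 3, 2], [1, 3, 3],
  [2, 0, 1], [2, 0, 2], [2, 0, 3], [2, 1, 0], [2, 1, 2], [2, 1, 3],
  [2, 3, 1], [2, 3, 2], [3, 1, 0], [3, 1, 2], [3, 1, 3], [3, 2, 0],
  [3, 2, 1], [3, 3, 1], [0, 0, 0, 2], [0, 0, 1, 2], [0, 0, 2, 0], [0, 0, 2, 1],
  [0, 0, 2, 3], [0, 0, 3, 2], [0, 0, 3, 3], [0, 1, 2, 0], [0, 1, 2, 1], [0, 1, 2, 3],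
  [0, 1, 3, 2], [0, 1, 3, 3], [0, 2, 0, 1], [0, 2, 1, 0], [0, 2, 1, 2], [0, 2, 3, 1],
  [0, 2, 3, 2], [0, 3, 2, 1], [1, 0, 2, 0], [1, 0, 2, 1], [1, 0, 2, 3], [1, 2, 0, 1],
  [1, 2, 1, 0], [1, 2, 1, 2], [1, 2, 1, 3], [1, 2, 3, 1], [1, 2, 3, 2], [1, 3, 2, 1],
  [2, 0, 1, 2], [2, 0, 1, 3], [2, 0, 2, 3], [2, 1, 0, 2], [2, 1, 2, 3], [2, 1, 3, 2],
  [2, 3, 1, 2], [2, 3, 1, 3], [2, 3, 2, 1], [3, 1, 0, 2], [3, 1, 2, 1], [3, 1, 3, 2],
  [3, 1, 3, 3], [3, 2, 0, 1], [3, 2, 1, 2], [3, 3, 1, 3], [0, 0, 0, 2, 0], [0, 0, 1, 2, 1],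
  [0, 0, 1, 2, 3], [0, 0, 2, 1, 2], [0, 0, 2, 3, 2], [0, 0, 3, 2, 1], [0, 1, 2, 0, 1], [0, 1, 2, 1, 0],
  [0, 1, 2, 1, 2], [0, 1, 2, 1, 3], [0, 1, 2, 3, 1], [0, 2, 0, 1, 2], [0, 2, 1, 0, 2], [0, 2, 1, 2, 3],
  [0, 3, 2, 1, 2], [1, 0, 2, 1, 2], [1, 0, 2, 3, 1], [1, 2, 0, 1, 2], [1, 2, 0, 1, 3], [1, 2, 1, 0, 2],
  [1, 2, 1, 2, 3], [1, 2, 1, 3, 2], [1, 2, 3, 1, 2], [1, 3, 2, 1, 2], [2, 1, 0, 2, 3], [2, 1, 2, 3, 1],
  [2, 1, 3, 2, 1], [2, 3, 1, 2, 1], [2, 3, 1, 3, 2], [3, 1, 2, 1, 2], [3, 2, 0, 1, 2], [0, 0, 1, 2, 1, 2],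
  [0, 1, 2, 0, 1, 2], [0, 1, 2, 1, 0, 2]]

/-- Generators of a subgroup of order nine. -/
def nineV : List (List ℕ) := [[4], [6, 4, 6]]

/-- The elements of the subgroup of order nine. -/
def nineW : List (List ℕ) :=
  [[], [0], [0, 0], [1], [0, 1], [0, 0, 1], [1, 1], [0, 1, 1], [0, 0, 1, 1]]

/-- Generators of a subgroup of order eighteen. -/
def octV : List (List ℕ) := [yW, xW, [0, 0]]

/-- The elements of the subgroup of order eighteen. -/
def octW : List (List ℕ) :=
  [[], [0], [0, 0], [1], [0, 1], [0, 0, 1], [1, 1], [0, 1, 1], [0, 0, 1, 1],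
   [2], [0, 2], [0, 0, 2], [1, 2], [0, 1, 2], [0, 0, 1, 2], [1, 1, 2], [0, 1, 1, 2], [0, 0, 1, 1, 2]]

theorem flatV_mem {V : List (List ℕ)} (hV : ∀ v ∈ V, Small v) (w : List ℕ) : Small (flatV V w) := by
  intro i hi
  obtain ⟨u, hu, hiu⟩ := List.mem_flatten.1 hi
  obtain ⟨j, -, rfl⟩ := List.mem_map.1 hu
  rcases lt_or_ge j V.length with h | h
  · rw [List.getD_eq_getElem _ _ h] at hiu
    exact hV _ (List.getElem_mem h) i hiu
  · rw [List.getD_eq_default _ _ h] at hiu
    simp at hiu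

theorem pathW (u : ℕ) (hu : u < 1152) : runH (wordAt u) = keyHn u ∧ Small (wordAt u) := pathH hu

theorem closed_checks : closedOK sylowV sylowW = true ∧ sylowW.length = 128 ∧
    closedOK nineV nineW = true ∧ nineW.length = 9 ∧ closedOK octV octW = true := by
  decide +kernel

namespace Gens

variable {G : Type*} [Group G] [Finite G] {z a c r x d σ : G} (g : Gens z a c r x d σ)
include g

/-- Equal elements have equal keys. -/
theorem run_of_eq {L M : List ℕ} (hL : Small L) (hM : Small M)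
    (e : ev (lett a c r x d σ) L = ev (lett a c r x d σ) M) : runH L = runH M := by
  have R := g.readingH
  have h0 : 0 < certH.N := by rw [certH_shape.1]; norm_num
  obtain ⟨s, hs, -, k1⟩ := keyedH.walk R L (g.small_lt hL) 0 h0
  obtain ⟨t, ht, -, k2⟩ := keyedH.walk R M (g.small_lt hM) 0 h0
  rw [certH_shape.1] at hs ht
  let f : Fin 1152 → ↥(centralizer ({z} : Set G)) := fun u =>
    ⟨ev (lett a c r x d σ) (wordAt u), g.ev_small (pathW u u.2).2⟩
  have hf : Function.Surjective f := fun h => by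
    obtain ⟨u, hu, e'⟩ := g.exists_word h.2
    exact ⟨⟨u, hu⟩, Subtype.ext e'.symm⟩
  have hbij : Function.Bijective f := by
    rw [Nat.bijective_iff_surjective_and_card]
    exact ⟨hf, by rw [Nat.card_fin, g.card]⟩
  have es := g.eq_of_run (pathW s hs).2 hL (by rw [(pathW s hs).1]; exact k1)
  have et := g.eq_of_run (pathW t ht).2 hM (by rw [(pathW t ht).1]; exact k2)
  have hst : (⟨s, hs⟩ : Fin 1152) = ⟨t, ht⟩ := hbij.1 (Subtype.ext (es.trans (e.trans et.symm)))
  rw [Fin.mk.injEq] at hst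
  exact (k1.symm.trans (by rw [hst])).trans k2

theorem eq_iff {L M : List ℕ} (hL : Small L) (hM : Small M) :
    ev (lett a c r x d σ) L = ev (lett a c r x d σ) M ↔ runH L = runH M :=
  ⟨g.run_of_eq hL hM, g.eq_of_run hL hM⟩

theorem eq_one_iff {L : List ℕ} (hL : Small L) : ev (lett a c r x d σ) L = 1 ↔ runH L = one0 :=
  g.eq_iff hL (M := []) (fun _ h => absurd h List.not_mem_nil)

theorem commute_iff {L M : List ℕ} (hL : Small L) (hM : Small M) :
    Commute (ev (lett a c r x d σ) L) (ev (lett a c r x d σ) M) ↔ runH (L ++ M) = runH (M ++ L) := by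
  rw [← g.eq_iff (small_append hL hM) (small_append hM hL), ev_append, ev_append]
  exact Iff.rfl

theorem inv_ev {L : List ℕ} (hL : Small L) :
    ev (lett a c r x d σ) (winv ivl L) = (ev (lett a c r x d σ) L)⁻¹ :=
  g.ev_winv' fun i hi => lt_trans (hL i hi) (by norm_num)

/-- A closed list of words is the subgroup of its generators. -/
theorem closed_spec {V LS : List (List ℕ)} (h : closedOK V LS = true) :
    Nat.card (closure {u : G | ∃ v ∈ V, u = ev (lett a c r x d σ) v}) = LS.length ∧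
    ∀ u, u ∈ closure {u : G | ∃ v ∈ V, u = ev (lett a c r x d σ) v} ↔
      ∃ w ∈ LS, u = ev (lett a c r x d σ) (flatV V w) := by
  simp only [closedOK, Bool.and_eq_true, decide_eq_true_eq, List.all_eq_true] at h
  obtain ⟨⟨⟨hnd, h1⟩, hV⟩, hcl⟩ := h
  set T := {u : G | ∃ v ∈ V, u = ev (lett a c r x d σ) v} with hT
  have back : ∀ {M : List ℕ}, Small M → runH M ∈ LS.map (fun w => runH (flatV V w)) →
      ∃ w ∈ LS, ev (lett a c r x d σ) M = ev (lett a c r x d σ) (flatV V w) := by
    intro M hM hm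
    obtain ⟨w, hw, e⟩ := List.mem_map.1 hm
    exact ⟨w, hw, g.eq_of_run hM (flatV_mem hV w) e.symm⟩
  have hmem : ∀ u, u ∈ closure T ↔ ∃ w ∈ LS, u = ev (lett a c r x d σ) (flatV V w) := by
    intro u
    constructor
    · intro hu
      induction hu using closure_induction_right with
      | one => exact back (M := []) (fun _ h => absurd h List.not_mem_nil) h1
      | mul_right p hp q hq ih =>
        obtain ⟨w, hw, rfl⟩ := ih
        obtain ⟨v, hv, rfl⟩ := hq
        rw [← ev_append]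
        exact back (small_append (flatV_mem hV w) (hV v hv)) (hcl w hw v hv).1
      | mul_inv_cancel p hp q hq ih =>
        obtain ⟨w, hw, rfl⟩ := ih
        obtain ⟨v, hv, rfl⟩ := hq
        rw [← g.inv_ev (hV v hv), ← ev_append]
        exact back (small_append (flatV_mem hV w) (small_winv (hV v hv))) (hcl w hw v hv).2
    · rintro ⟨w, -, rfl⟩
      induction w with
      | nil => exact one_mem _
      | cons i w ih =>
        rw [show flatV V (i :: w) = V.getD i [] ++ flatV V w by simp [flatV], ev_append]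
        refine mul_mem ?_ ih
        rcases lt_or_ge i V.length with hi | hi
        · exact subset_closure ⟨_, by rw [List.getD_eq_getElem _ _ hi]; exact List.getElem_mem hi, rfl⟩
        · rw [List.getD_eq_default _ _ hi]; exact one_mem _
  refine ⟨?_, hmem⟩
  let f : Fin LS.length → ↥(closure T) := fun i =>
    ⟨ev (lett a c r x d σ) (flatV V LS[i]), (hmem _).2 ⟨LS[i], List.getElem_mem i.2, rfl⟩⟩
  have hf : Function.Bijective f := by
    refine ⟨fun i j e => ?_, fun ⟨u, hu⟩ => ?_⟩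
    · have e2 := g.run_of_eq (flatV_mem hV _) (flatV_mem hV _) (congrArg Subtype.val e)
      exact Fin.ext ((hnd.getElem_inj_iff (hi := by simp) (hj := by simp)).1
        (by simpa using e2))
    · obtain ⟨w, hw, rfl⟩ := (hmem u).1 hu
      obtain ⟨i, hi, rfl⟩ := List.getElem_of_mem hw
      exact ⟨⟨i, hi⟩, rfl⟩
  rw [← Nat.card_eq_of_bijective f hf, Nat.card_fin]

end Gens

/-- The Sylow check of the centre. -/
theorem centre_check : ∀ w ∈ sylowW,
    (∀ v ∈ sylowV, runH (flatV sylowV w ++ v) = runH (v ++ flatV sylowV w)) →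
      runH (flatV sylowV w) = one0 ∨ runH (flatV sylowV w) = runH [0, 0] := by
  decide +kernel

/-- The class data of an involution node. -/
def invOK (u : ℕ) : Bool :=
  !(runH (wordAt u ++ wordAt u) == one0) || keyHn u == one0 ||
    (let n := lk 16 invH u
     let k := wordAt ((n - 1) / 8)
     (n != 0) && decide ((n - 1) % 8 < 4) && decide ((n - 1) / 8 < 1152) &&
      runH (k ++ repW.getD ((n - 1) % 8) [] ++ winv ivl k) == keyHn u)

theorem inv_check : allF invOK 1152 = true := by decide +kernel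

theorem e_check : runH ([4, 6, 4] ++ [0, 6, 0, 6] ++ winv ivl [4, 6, 4]) = runH [2, 6, 2, 6] ∧
    runH ([0, 5, 6, 4] ++ [0, 6, 0, 6] ++ winv ivl [0, 5, 6, 4]) = runH ([2, 6, 2, 6] ++ [0]) := by
  decide +kernel

namespace Gens

variable {G : Type*} [Group G] [Finite G] {z a c r x d σ : G} (g : Gens z a c r x d σ)
include g

theorem z_ev : ev (lett a c r x d σ) [0, 0] = z := by simp [ev, lett, g.a2]

theorem z_comm {u : G} (hu : u ∈ centralizer ({z} : Set G)) : Commute u z :=
  mem_centralizer_singleton_iff.1 hu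

theorem z_order : orderOf z = 2 :=
  orderOf_eq_prime (by rw [pow_two, g.z2]) fun e => g.moved (by rw [e]; simp)

/-- The Sylow subgroup of the centraliser. -/
theorem exists_sylow_data : ∃ S : Subgroup G, S ≤ centralizer {z} ∧ Nat.card S = 128 ∧
    ∀ u ∈ S, (∀ s ∈ S, Commute u s) → u = 1 ∨ u = z := by
  obtain ⟨hc, hlen, -⟩ := closed_checks
  obtain ⟨hcard, hmem⟩ := g.closed_spec hc
  have hV : ∀ v ∈ sylowV, Small v := by decide
  refine ⟨_, (closure_le _).2 ?_, hcard.trans hlen, fun u hu hall => ?_⟩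
  · rintro _ ⟨v, hv, rfl⟩
    exact g.ev_small (hV v hv)
  · obtain ⟨w, hw, rfl⟩ := (hmem u).1 hu
    have := centre_check w hw fun v hv => (g.commute_iff (flatV_mem hV w) (hV v hv)).1
      (hall _ (subset_closure ⟨v, hv, rfl⟩))
    rcases this with e | e
    · exact Or.inl ((g.eq_one_iff (flatV_mem hV w)).2 e)
    · exact Or.inr ((g.eq_of_run (flatV_mem hV w) (by decide) e).trans g.z_ev)

/-- An involution of the centraliser is conjugate to `z` under the letters. -/
theorem invol_conj {A : Subgroup G} (hA : centralizer ({z} : Set G) ≤ A) (hσ : σ ∈ A) {i : G}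
    (hi : i ∈ centralizer ({z} : Set G)) (h2 : orderOf i = 2) : ∃ b ∈ A, b * z * b⁻¹ = i := by
  obtain ⟨u, hu, rfl⟩ := g.exists_word hi
  obtain ⟨hrun, hsm⟩ := pathW u hu
  have hsq : runH (wordAt u ++ wordAt u) = one0 := by
    rw [← g.eq_one_iff (small_append hsm hsm), ev_append, ← pow_two, ← h2, pow_orderOf_eq_one]
  have hne : keyHn u ≠ one0 := fun e => by
    rw [(g.eq_one_iff hsm).2 (hrun.trans e), orderOf_one] at h2
    omega
  have hc := allF_iff.1 inv_check u hu
  simp only [invOK, hsq, beq_self_eq_true, Bool.not_true, Bool.false_or, Bool.or_eq_true,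
    beq_iff_eq, Bool.and_eq_true, decide_eq_true_eq, bne_iff_ne] at hc
  obtain ⟨⟨⟨-, hcls⟩, hk⟩, e⟩ := hc.resolve_left hne
  set k := wordAt ((lk 16 invH u - 1) / 8)
  set j := (lk 16 invH u - 1) % 8
  have hks : Small k := (pathW _ hk).2
  have hrep : ∀ j < 4, Small (repW.getD j []) := by decide
  have e1 := g.eq_of_run (small_append (small_append hks (hrep j hcls)) (small_winv hks)) hsm
    (e.trans hrun.symm)
  rw [ev_append, ev_append, g.inv_ev hks] at e1
  have key : ∀ j < 4, ∃ b ∈ A, b * z * b⁻¹ = ev (lett a c r x d σ) (repW.getD j []) := by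
    intro j hj
    have ht : σ * z * σ⁻¹ = ev (lett a c r x d σ) [0, 6, 0, 6] := by
      have : ev (lett a c r x d σ) [0, 6, 0, 6] = a * (x * a * x) := by simp [ev, lett, mul_assoc]
      rw [this, ← g.d2, ← g.sa, ← g.a2]; group
    obtain ⟨he1, he2⟩ := e_check
    have hmem : ∀ w : List ℕ, Small w → σ * ev (lett a c r x d σ) w * σ ∈ A := fun w hw =>
      mul_mem (mul_mem hσ (hA (g.ev_small hw))) hσ
    interval_cases j
    · exact ⟨1, one_mem _, by simp [repW, g.z_ev]⟩
    · exact ⟨σ, hσ, by simpa [repW] using ht⟩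
    · have f1 := g.eq_of_run (by decide) (by decide) he1
      rw [ev_append, ev_append, g.inv_ev (by decide), ← ht] at f1
      refine ⟨_, hmem [4, 6, 4] (by decide), ?_⟩
      have f2 : ev (lett a c r x d σ) (repW.getD 2 []) = x := by simp [repW, ev, lett]
      have f3 : ev (lett a c r x d σ) [2, 6, 2, 6] = c * (x * c * x) := by simp [ev, lett, mul_assoc]
      rw [f2]
      calc σ * ev (lett a c r x d σ) [4, 6, 4] * σ * z * (σ * ev (lett a c r x d σ) [4, 6, 4] * σ)⁻¹
          = σ * (ev (lett a c r x d σ) [4, 6, 4] * (σ * z * σ⁻¹) *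
              (ev (lett a c r x d σ) [4, 6, 4])⁻¹) * σ⁻¹ := by group
        _ = x := by rw [f1, f3, g.se]
    · have f1 := g.eq_of_run (by decide) (by decide) he2
      rw [ev_append, ev_append, g.inv_ev (by decide), ← ht] at f1
      refine ⟨_, hmem [0, 5, 6, 4] (by decide), ?_⟩
      have f2 : ev (lett a c r x d σ) (repW.getD 3 []) = x * d := by simp [repW, ev, lett]
      have f3 : ev (lett a c r x d σ) ([2, 6, 2, 6] ++ [0]) = c * (x * c * x) * a := by
        simp [ev, lett, mul_assoc]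
      have f4 : σ * (c * (x * c * x) * a) * σ⁻¹ = x * d := by
        calc σ * (c * (x * c * x) * a) * σ⁻¹ = (σ * (c * (x * c * x)) * σ⁻¹) * (σ * a * σ⁻¹) := by group
          _ = x * d := by rw [g.se, g.sa]
      rw [f2]
      calc σ * ev (lett a c r x d σ) [0, 5, 6, 4] * σ * z * (σ * ev (lett a c r x d σ) [0, 5, 6, 4] * σ)⁻¹
          = σ * (ev (lett a c r x d σ) [0, 5, 6, 4] * (σ * z * σ⁻¹) *
              (ev (lett a c r x d σ) [0, 5, 6, 4])⁻¹) * σ⁻¹ := by group
        _ = x * d := by rw [f1, f3, f4]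
  obtain ⟨b, hb, hbz⟩ := key j hcls
  refine ⟨ev (lett a c r x d σ) k * b, mul_mem (hA (g.ev_small hks)) hb, ?_⟩
  rw [← e1, ← hbz]; group

/-- All involutions of a subgroup over the centraliser and the letters are conjugate. -/
theorem invol_conj_in (A : Subgroup G) (hA : centralizer ({z} : Set G) ≤ A) (hσ : σ ∈ A) :
    ∀ i ∈ A, orderOf i = 2 → ∃ b ∈ A, b * z * b⁻¹ = i := by
  intro i hiA hi
  have hzA : z ∈ A := hA (mem_centralizer_singleton_iff.2 rfl)
  obtain ⟨S, hS, hScard, hcen⟩ := g.exists_sylow_data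
  set z' : A := ⟨z, hzA⟩
  have hz' : orderOf z' = 2 := by rw [← orderOf_coe]; exact g.z_order
  have hS' : S.subgroupOf A ≤ centralizer ({z'} : Set A) := fun u hu =>
    mem_centralizer_singleton_iff.2 (Subtype.ext (mem_centralizer_singleton_iff.1 (hS hu)))
  have hcard' : Nat.card (S.subgroupOf A) = 128 := by
    rw [Nat.card_congr (Subgroup.subgroupOfEquivOfLe (hS.trans hA)).toEquiv, hScard]
  have h256 : ¬ 256 ∣ Nat.card (centralizer ({z'} : Set A)) := by
    have e : centralizer ({z'} : Set A) = (centralizer ({z} : Set G)).subgroupOf A := by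
      ext u
      simp only [mem_subgroupOf, mem_centralizer_singleton_iff]
      exact Subtype.ext_iff
    rw [e, Nat.card_congr (Subgroup.subgroupOfEquivOfLe hA).toEquiv, g.card]
    decide
  have hcen' : ∀ u ∈ S.subgroupOf A, (∀ s ∈ S.subgroupOf A, Commute u s) → u = 1 ∨ u = z' := by
    intro u hu hall
    rcases hcen u hu fun s hs =>
      congrArg Subtype.val (hall ⟨s, hA (hS hs)⟩ hs).eq with e | e
    · exact Or.inl (Subtype.ext e)
    · exact Or.inr (Subtype.ext e)
  have := involutions_conj_centre hz' _ hS' hcard' h256 hcen' (fun j hj hj2 => by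
    obtain ⟨b, hb, e⟩ := g.invol_conj hA hσ
      (mem_centralizer_singleton_iff.2 (congrArg Subtype.val hj.eq)) (by rwa [orderOf_coe])
    exact (isConj_iff.2 ⟨⟨b, hb⟩, Subtype.ext e⟩).symm) ⟨i, hiA⟩ (by rwa [← orderOf_coe])
  obtain ⟨b, hb⟩ := isConj_iff.1 this.symm
  exact ⟨b, b.2, congrArg Subtype.val hb⟩

/-- Every involution is conjugate to `z`. -/
theorem invol_conj_all (i : G) (hi : orderOf i = 2) : IsConj i z := by
  obtain ⟨b, -, e⟩ := g.invol_conj_in ⊤ le_top (mem_top σ) i (mem_top i) hi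
  exact (isConj_iff.2 ⟨b, e⟩).symm

end Gens

end CfsgLib.Recognition.UFourThree
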