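import Cfsg.Prelude.Def_Solvable
import Cfsg.Prelude.Def_Local
import Cfsg.Agent.Lib.Components.GenFitting
import Cfsg.Agent.Lib.Solvable.Cores

/-!
# Groups with the centraliser of an involution of `U₄(3)` type

We restate the hypotheses inside the group: two commuting copies of `SL₂(3)` in `C(z)` with their
quaternion subgroups, and the finite facts about `SL₂(3)` that are used later.
-/

set_option autoImplicit false
set_option linter.style.haveILetI false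

namespace CfsgLib.Recognition.UFourThree

open Subgroup

/-- `SL₂(3)`. -/
abbrev S23 : Type := Matrix.SpecialLinearGroup (Fin 2) (ZMod 3)

/-- Membership in the quaternion subgroup of `SL₂(3)`. -/
def InQ8 (g : S23) : Prop := g ^ 4 = 1

instance (g : S23) : Decidable (InQ8 g) := inferInstanceAs (Decidable (g ^ 4 = 1))

/-- The central involution of `SL₂(3)`. -/
def negOne : S23 := ⟨!![2, 0; 0, 2], by decide⟩

theorem negOne_facts : (∀ g : S23, g * g = 1 → g = 1 ∨ g = negOne) ∧ negOne ≠ 1 ∧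
    negOne * negOne = 1 ∧ InQ8 negOne ∧
    (∀ g : S23, ∃ u v : S23, g = u * u * (v * v)) := by decide +kernel

theorem q8_mul : ∀ g h : S23, InQ8 g → InQ8 h → InQ8 (g * h) ∧ InQ8 g⁻¹ := by decide +kernel

/-- The quaternion subgroup. -/
def q8 : Subgroup S23 where
  carrier := {g | InQ8 g}
  one_mem' := one_pow 4
  mul_mem' := fun hg hh => (q8_mul _ _ hg hh).1
  inv_mem' := fun hg => (q8_mul _ _ hg hg).2

theorem q8_normal : ∀ g h : S23, InQ8 h → InQ8 (g * h * g⁻¹) := by decide +kernel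

theorem q8_twoPart : ∀ g : S23, (g ^ 8 = 1 → InQ8 g) ∧ g ^ 24 = 1 := by decide +kernel

theorem q8_sq : ∀ q : S23, InQ8 q → q ≠ 1 → q ≠ negOne → q * q = negOne := by decide +kernel

theorem q8_comm_iff : ∀ a q : S23, InQ8 a → a * a = negOne → InQ8 q → q * a = a * q →
    q = 1 ∨ q = negOne ∨ q = a ∨ q = a⁻¹ := by decide +kernel

theorem q8_other : ∀ a : S23, InQ8 a → a * a = negOne →
    ∃ c : S23, InQ8 c ∧ c * c = negOne ∧ a * c ≠ c * a := by decide +kernel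

theorem q8_flip : ∀ a c : S23, InQ8 a → a * a = negOne → InQ8 c → c * c = negOne →
    a * c ≠ c * a → c * a * c⁻¹ = a⁻¹ ∧ a * c * a⁻¹ = c⁻¹ := by decide +kernel

theorem q8_gen : ∀ a c q : S23, InQ8 a → a * a = negOne → InQ8 c → c * c = negOne →
    a * c ≠ c * a → InQ8 q →
    q = 1 ∨ q = negOne ∨ q = a ∨ q = a⁻¹ ∨ q = c ∨ q = c⁻¹ ∨ q = a * c ∨ q = c * a := by
  decide +kernel

theorem q8_rot : ∀ a c : S23, InQ8 a → a * a = negOne → InQ8 c → c * c = negOne →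
    a * c ≠ c * a → ∃ r : S23, r ^ 3 = 1 ∧ r * a * r⁻¹ = c ∧ r * c * r⁻¹ = a * c ∧ ¬ InQ8 r := by
  decide +kernel

theorem q8_coset : ∀ r g : S23, r ^ 3 = 1 → ¬ InQ8 r →
    InQ8 g ∨ InQ8 (g * r) ∨ InQ8 (g * r⁻¹) := by decide +kernel

theorem cent_q8 : ∀ g : S23, (∀ q : S23, InQ8 q → q * g = g * q) → g = 1 ∨ g = negOne := by
  decide +kernel

/-- A power of two and twenty-four leave eight. -/
theorem pow_eight {G : Type*} [Group G] {g : G} (h : g ^ 24 = 1) {n : ℕ} (h' : g ^ 2 ^ n = 1) :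
    g ^ 8 = 1 := by
  have h1 : orderOf g ∣ Nat.gcd (2 ^ n) 24 :=
    Nat.dvd_gcd (orderOf_dvd_of_pow_eq_one h') (orderOf_dvd_of_pow_eq_one h)
  refine orderOf_dvd_iff_pow_eq_one.1 (h1.trans ?_)
  have h2 : Nat.gcd (2 ^ n) 24 ∣ 2 ^ n := Nat.gcd_dvd_left _ _
  obtain ⟨j, -, hj⟩ := (Nat.dvd_prime_pow Nat.prime_two).1 h2
  have h3 : 2 ^ j ∣ 24 := hj ▸ Nat.gcd_dvd_right (2 ^ n) 24
  rw [hj]
  refine pow_dvd_pow 2 (?_ : j ≤ 3)
  by_contra hc
  exact absurd ((pow_dvd_pow 2 (show 4 ≤ j by omega)).trans h3) (by norm_num)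

/-- The finite facts about one factor `K ≅ SL₂(3)` with quaternion subgroup `Q`. -/
structure Piece {G : Type*} [Group G] (z : G) (Q K : Subgroup G) : Prop where
  le : Q ≤ K
  z_mem : z ∈ Q
  pow : ∀ k ∈ K, k ^ 24 = 1
  two : ∀ k ∈ K, k ^ 8 = 1 → k ∈ Q
  conj_mem : ∀ k ∈ K, ∀ q ∈ Q, k * q * k⁻¹ ∈ Q
  sq : ∀ q ∈ Q, q ≠ 1 → q ≠ z → q * q = z
  comm : ∀ a ∈ Q, a * a = z → ∀ q ∈ Q, q * a = a * q → q = 1 ∨ q = z ∨ q = a ∨ q = a⁻¹
  other : ∀ a ∈ Q, a * a = z → ∃ c ∈ Q, c * c = z ∧ a * c ≠ c * a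
  flip : ∀ a ∈ Q, a * a = z → ∀ c ∈ Q, c * c = z → a * c ≠ c * a →
    c * a * c⁻¹ = a⁻¹ ∧ a * c * a⁻¹ = c⁻¹
  gen : ∀ a ∈ Q, a * a = z → ∀ c ∈ Q, c * c = z → a * c ≠ c * a → ∀ q ∈ Q,
    q = 1 ∨ q = z ∨ q = a ∨ q = a⁻¹ ∨ q = c ∨ q = c⁻¹ ∨ q = a * c ∨ q = c * a
  rot : ∀ a ∈ Q, a * a = z → ∀ c ∈ Q, c * c = z → a * c ≠ c * a →
    ∃ r ∈ K, r ^ 3 = 1 ∧ r * a * r⁻¹ = c ∧ r * c * r⁻¹ = a * c ∧
      ∀ k ∈ K, k ∈ Q ∨ k * r ∈ Q ∨ k * r⁻¹ ∈ Q
  cent : ∀ k ∈ K, (∀ q ∈ Q, q * k = k * q) → k = 1 ∨ k = z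

/-- An embedding of `SL₂(3)` sending `-1` to `z` gives the facts. -/
theorem piece_of_hom {G : Type*} [Group G] {φ : S23 →* G} (hφ : Function.Injective φ) {z : G}
    (hz : φ negOne = z) : Piece z (q8.map φ) φ.range := by
  subst hz
  refine ⟨map_le_range φ q8, ⟨negOne, negOne_facts.2.2.2.1, rfl⟩, ?_, ?_, ?_, ?_, ?_, ?_, ?_, ?_,
    ?_, ?_⟩
  · rintro _ ⟨g, rfl⟩
    rw [← map_pow, (q8_twoPart g).2, map_one]
  · rintro _ ⟨g, rfl⟩ h
    rw [← map_pow, ← map_one φ] at h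
    exact ⟨g, (q8_twoPart g).1 (hφ h), rfl⟩
  · rintro _ ⟨g, rfl⟩ _ ⟨q, hq, rfl⟩
    exact ⟨g * q * g⁻¹, q8_normal g q hq, by simp⟩
  · rintro _ ⟨q, hq, rfl⟩ h1 h2
    rw [← map_mul, q8_sq q hq (fun e => h1 (e ▸ map_one φ)) (fun e => h2 (e ▸ rfl))]
  · rintro _ ⟨a, ha, rfl⟩ h _ ⟨q, hq, rfl⟩ hc
    rw [← map_mul] at h; simp only [← map_mul] at hc
    rcases q8_comm_iff a q ha (hφ h) hq (hφ hc) with rfl | rfl | rfl | rfl <;> simp
  · rintro _ ⟨a, ha, rfl⟩ h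
    rw [← map_mul] at h
    obtain ⟨c, hc, h1, h2⟩ := q8_other a ha (hφ h)
    exact ⟨φ c, ⟨c, hc, rfl⟩, by rw [← map_mul, h1], fun e => h2 (hφ (by simpa using e))⟩
  · rintro _ ⟨a, ha, rfl⟩ h _ ⟨c, hc, rfl⟩ h' hn
    rw [← map_mul] at h h'
    have := q8_flip a c ha (hφ h) hc (hφ h') fun e => hn (by rw [← map_mul, e, map_mul])
    exact ⟨by simpa using congrArg φ this.1, by simpa using congrArg φ this.2⟩
  · rintro _ ⟨a, ha, rfl⟩ h _ ⟨c, hc, rfl⟩ h' hn _ ⟨q, hq, rfl⟩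
    rw [← map_mul] at h h'
    rcases q8_gen a c q ha (hφ h) hc (hφ h') (fun e => hn (by rw [← map_mul, e, map_mul])) hq with
      rfl | rfl | rfl | rfl | rfl | rfl | rfl | rfl <;> simp
  · rintro _ ⟨a, ha, rfl⟩ h _ ⟨c, hc, rfl⟩ h' hn
    rw [← map_mul] at h h'
    obtain ⟨r, hr, h1, h2, h3⟩ :=
      q8_rot a c ha (hφ h) hc (hφ h') fun e => hn (by rw [← map_mul, e, map_mul])
    refine ⟨φ r, ⟨r, rfl⟩, by rw [← map_pow, hr, map_one], by simpa using congrArg φ h1,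
      by simpa using congrArg φ h2, ?_⟩
    rintro _ ⟨g, rfl⟩
    rcases q8_coset r g hr h3 with e | e | e
    · exact Or.inl ⟨g, e, rfl⟩
    · exact Or.inr (Or.inl ⟨_, e, by simp⟩)
    · exact Or.inr (Or.inr ⟨_, e, by simp⟩)
  · rintro _ ⟨g, rfl⟩ h
    rcases cent_q8 g fun q hq => hφ (by simpa using h (φ q) ⟨q, hq, rfl⟩) with rfl | rfl <;> simp

/-- The hypotheses, read inside the group. -/
structure Hyp {G : Type*} [Group G] (z : G) (Q₁ Q₂ K₁ K₂ Q : Subgroup G) : Prop where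
  z_inv : orderOf z = 2
  le₁ : K₁ ≤ centralizer {z}
  le₂ : K₂ ≤ centralizer {z}
  comm : ∀ x ∈ K₁, ∀ y ∈ K₂, x * y = y * x
  inter : ∀ x ∈ K₁, x ∈ K₂ → x = 1 ∨ x = z
  p₁ : Piece z Q₁ K₁
  p₂ : Piece z Q₂ K₂
  mem_Q : ∀ g, g ∈ Q ↔ ∃ u ∈ Q₁, ∃ w ∈ Q₂, g = u * w
  norm : ∀ h ∈ centralizer ({z} : Set G), ∀ q ∈ Q, h * q * h⁻¹ ∈ Q
  normK : ∀ h ∈ centralizer ({z} : Set G), ∀ k, k ∈ K₁ ∨ k ∈ K₂ →
    ∃ u ∈ K₁, ∃ w ∈ K₂, h * k * h⁻¹ = u * w
  selfc : ∀ h ∈ centralizer ({z} : Set G), (∀ q ∈ Q, q * h = h * q) → h ∈ Q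
  card_C : Nat.card (centralizer ({z} : Set G)) = 1152
  inter_conj : ∀ g : G, g * z * g⁻¹ ∈ Q → g * z * g⁻¹ ≠ z →
    Nat.card ↥(Q ⊓ Q.map (MulAut.conj g).toMonoidHom) = 4
  not_weakly_closed : ∃ g : G, g * z * g⁻¹ ∈ Q ∧ g * z * g⁻¹ ≠ z
  oddCore : Cfsg.pPrimeCore 2 ↥(centralizer ({z} : Set G)) = ⊥

theorem exists_hyp {G : Type*} [Group G] [Finite G] (z : G) (hz : orderOf z = 2)
    (H₁ H₂ : Subgroup (centralizer ({z} : Set G)))
    (hK : H₁ ⊔ H₂ = closure {x : centralizer ({z} : Set G) | Odd (orderOf x)})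
    (hn₁ : (H₁.subgroupOf (H₁ ⊔ H₂)).Normal) (hn₂ : (H₂.subgroupOf (H₁ ⊔ H₂)).Normal)
    (e₁ : H₁ ≃* S23) (e₂ : H₂ ≃* S23)
    (hmeet : (H₁ ⊓ H₂).map (centralizer ({z} : Set G)).subtype = zpowers z)
    (Q : Subgroup (centralizer ({z} : Set G))) [Q.Normal]
    (hQ : Q = (Cfsg.pCore 2 ↥(H₁ ⊔ H₂)).map (H₁ ⊔ H₂).subtype)
    (hF : Cfsg.generalizedFittingSubgroup (centralizer ({z} : Set G)) = Q)
    (hnwc : ∃ g : G, (∃ hq : g * z * g⁻¹ ∈ centralizer ({z} : Set G),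
      (⟨g * z * g⁻¹, hq⟩ : centralizer ({z} : Set G)) ∈ Q) ∧ g * z * g⁻¹ ≠ z)
    (hH : Nat.card ↥(centralizer ({z} : Set G)) = 2 ^ 7 * 3 ^ 2)
    (hQQg : ∀ g : G, g * z * g⁻¹ ∈ Q.map (centralizer ({z} : Set G)).subtype → g * z * g⁻¹ ≠ z →
      Nat.card ↥((Q.map (centralizer ({z} : Set G)).subtype) ⊓
        (Q.map (centralizer ({z} : Set G)).subtype).map (MulAut.conj g).toMonoidHom) = 4) :
    ∃ Q₁ Q₂ K₁ K₂ : Subgroup G,
      Hyp z Q₁ Q₂ K₁ K₂ (Q.map (centralizer ({z} : Set G)).subtype) := by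
  classical
  have hzC : z ∈ (centralizer ({z} : Set G)) := mem_centralizer_singleton_iff.2 rfl
  have hcz : ∀ x : (centralizer ({z} : Set G)), (x : G) * z = z * x := fun x => mem_centralizer_singleton_iff.1 x.2
  set zc : (centralizer ({z} : Set G)) := ⟨z, hzC⟩ with hzc
  have hz2 : z * z = 1 := by
    have := pow_orderOf_eq_one z
    rwa [hz, pow_two] at this
  have hz1 : z ≠ 1 := fun e => by rw [e, orderOf_one] at hz; norm_num at hz
  have hzm : zc ∈ H₁ ⊓ H₂ := by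
    obtain ⟨x, hx, e⟩ : z ∈ (H₁ ⊓ H₂).map (centralizer ({z} : Set G)).subtype := hmeet ▸ mem_zpowers z
    have : x = zc := Subtype.ext e
    exact this ▸ hx
  have hint : ∀ x : (centralizer ({z} : Set G)), x ∈ H₁ → x ∈ H₂ → x = 1 ∨ x = zc := by
    intro x h1 h2
    have hm : (x : G) ∈ zpowers z := hmeet ▸ ⟨x, ⟨h1, h2⟩, rfl⟩
    obtain ⟨n, hn⟩ := mem_zpowers_iff.1 hm
    have hzz : z ^ (2 : ℤ) = 1 := by rw [zpow_ofNat, pow_two, hz2]
    rcases Int.even_or_odd n with ⟨m, rfl⟩ | ⟨m, rfl⟩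
    · exact Or.inl (Subtype.ext (by rw [← hn, ← two_mul, zpow_mul, hzz, one_zpow]; rfl))
    · exact Or.inr (Subtype.ext (by rw [← hn, zpow_add, zpow_mul, hzz, one_zpow, one_mul, zpow_one]))
  -- the two factors commute
  have hnor₁ : ∀ h ∈ H₂, ∀ x ∈ H₁, h * x * h⁻¹ ∈ H₁ := fun h hh x hx =>
    hn₁.conj_mem ⟨x, mem_sup_left hx⟩ hx ⟨h, mem_sup_right hh⟩
  have hnor₂ : ∀ h ∈ H₁, ∀ x ∈ H₂, h * x * h⁻¹ ∈ H₂ := fun h hh x hx =>
    hn₂.conj_mem ⟨x, mem_sup_right hx⟩ hx ⟨h, mem_sup_left hh⟩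
  have hcz' : ∀ x : (centralizer ({z} : Set G)), x * zc = zc * x := fun x => Subtype.ext (hcz x)
  have hzc2 : zc * zc = 1 := Subtype.ext hz2
  have hcomm : ∀ x ∈ H₁, ∀ y ∈ H₂, x * y = y * x := by
    intro x hx y hy
    -- the commutator with `y` is a homomorphism to a group of exponent two
    have hval : ∀ u ∈ H₁, u * y * u⁻¹ * y⁻¹ = 1 ∨ u * y * u⁻¹ * y⁻¹ = zc := fun u hu => by
      refine hint _ ?_ (mul_mem (hnor₂ u hu y hy) (inv_mem hy))
      simpa [mul_assoc] using mul_mem hu (hnor₁ y hy u⁻¹ (inv_mem hu))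
    have hsq : ∀ u ∈ H₁, (u * u) * y = y * (u * u) := fun u hu => by
      have e : ∀ v, v * y * v⁻¹ * y⁻¹ = 1 ∨ v * y * v⁻¹ * y⁻¹ = zc →
          ∃ ε : (centralizer ({z} : Set G)), (ε = 1 ∨ ε = zc) ∧ v * y = ε * y * v := by
        intro v hv
        refine ⟨_, hv, by group⟩
      obtain ⟨ε, hε, h1⟩ := e u (hval u hu)
      have hεc : ∀ v : (centralizer ({z} : Set G)), v * ε = ε * v := by
        rcases hε with rfl | rfl
        · simp
        · exact hcz'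
      have hε2 : ε * ε = 1 := by rcases hε with rfl | rfl <;> simp [hzc2]
      calc u * u * y = u * (ε * y * u) := by rw [mul_assoc, h1]
        _ = ε * (u * y) * u := by rw [← mul_assoc, ← mul_assoc, hεc u]; group
        _ = (ε * ε) * y * (u * u) := by rw [h1]; group
        _ = y * (u * u) := by rw [hε2, one_mul]
    obtain ⟨u, v, huv⟩ := negOne_facts.2.2.2.2 (e₁ ⟨x, hx⟩)
    have hx' : x = (e₁.symm u : (centralizer ({z} : Set G))) * (e₁.symm u : (centralizer ({z} : Set G))) * ((e₁.symm v : (centralizer ({z} : Set G))) * (e₁.symm v : (centralizer ({z} : Set G)))) := by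
      have := congrArg (fun s => ((e₁.symm s : H₁) : (centralizer ({z} : Set G)))) huv
      simpa using this
    rw [hx', mul_assoc, hsq _ (e₁.symm v).2, ← mul_assoc, hsq _ (e₁.symm u).2, mul_assoc]
  -- the embeddings of `SL₂(3)`
  let φ₁ : S23 →* G := (centralizer ({z} : Set G)).subtype.comp (H₁.subtype.comp e₁.symm.toMonoidHom)
  let φ₂ : S23 →* G := (centralizer ({z} : Set G)).subtype.comp (H₂.subtype.comp e₂.symm.toMonoidHom)
  have hφ₁ : Function.Injective φ₁ :=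
    (centralizer ({z} : Set G)).subtype_injective.comp (H₁.subtype_injective.comp e₁.symm.injective)
  have hφ₂ : Function.Injective φ₂ :=
    (centralizer ({z} : Set G)).subtype_injective.comp (H₂.subtype_injective.comp e₂.symm.injective)
  have hneg : ∀ (H : Subgroup (centralizer ({z} : Set G))) (e : H ≃* S23) (hm : zc ∈ H),
      ((e.symm negOne : H) : (centralizer ({z} : Set G))) = zc := by
    intro H e hm
    rcases negOne_facts.1 (e ⟨zc, hm⟩) (by rw [← map_mul]; exact (congrArg e (Subtype.ext hzc2)).trans (map_one e))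
      with h | h
    · exact absurd (congrArg (fun v : H => ((v : (centralizer ({z} : Set G))) : G)) ((map_eq_one_iff e e.injective).1 h)) hz1
    · rw [← h, e.symm_apply_apply]
  have hr₁ : φ₁.range = H₁.map (centralizer ({z} : Set G)).subtype := by
    rw [MonoidHom.range_comp, MonoidHom.range_comp, MonoidHom.range_eq_top.2 e₁.symm.surjective,
      ← MonoidHom.range_eq_map, H₁.range_subtype]
  have hr₂ : φ₂.range = H₂.map (centralizer ({z} : Set G)).subtype := by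
    rw [MonoidHom.range_comp, MonoidHom.range_comp, MonoidHom.range_eq_top.2 e₂.symm.surjective,
      ← MonoidHom.range_eq_map, H₂.range_subtype]
  have P₁ := piece_of_hom hφ₁ (z := z) (congrArg Subtype.val (hneg H₁ e₁ hzm.1))
  have P₂ := piece_of_hom hφ₂ (z := z) (congrArg Subtype.val (hneg H₂ e₂ hzm.2))
  -- elements of `K` as products
  have hprod : ∀ k ∈ H₁ ⊔ H₂, ∃ u ∈ H₁, ∃ w ∈ H₂, k = u * w := by
    intro k hk
    rw [sup_eq_closure] at hk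
    induction hk using closure_induction with
    | mem k hk =>
      rcases hk with hk | hk
      · exact ⟨k, hk, 1, one_mem _, (mul_one k).symm⟩
      · exact ⟨1, one_mem _, k, hk, (one_mul k).symm⟩
    | one => exact ⟨1, one_mem _, 1, one_mem _, (mul_one 1).symm⟩
    | mul k l _ _ hk hl =>
      obtain ⟨u, hu, w, hw, rfl⟩ := hk
      obtain ⟨u', hu', w', hw', rfl⟩ := hl
      refine ⟨u * u', mul_mem hu hu', w * w', mul_mem hw hw', ?_⟩
      rw [mul_assoc, ← mul_assoc w, ← hcomm u' hu' w hw]; group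
    | inv k _ hk =>
      obtain ⟨u, hu, w, hw, rfl⟩ := hk
      exact ⟨u⁻¹, inv_mem hu, w⁻¹, inv_mem hw, by
        rw [mul_inv_rev, hcomm _ (inv_mem hu) _ (inv_mem hw)]⟩
  haveI hKn : (H₁ ⊔ H₂).Normal := by
    refine ⟨fun k hk h => ?_⟩
    have : (H₁ ⊔ H₂).map (MulAut.conj h).toMonoidHom ≤ H₁ ⊔ H₂ := by
      rw [hK, MonoidHom.map_closure]
      refine closure_mono ?_
      rintro _ ⟨x, hx, rfl⟩
      show Odd (orderOf _)
      rw [MulEquiv.coe_toMonoidHom, MulEquiv.orderOf_eq]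
      exact hx
    exact this ⟨k, hk, rfl⟩
  haveI : Fact (Nat.Prime 2) := ⟨Nat.prime_two⟩
  -- the quaternion subgroups in `K`
  have hQmem : ∀ g : (centralizer ({z} : Set G)), g ∈ Q ↔ ∃ u ∈ H₁, ∃ w ∈ H₂, u ^ 8 = 1 ∧ w ^ 8 = 1 ∧ g = u * w := by
    intro g
    constructor
    · intro hg
      rw [hQ] at hg
      obtain ⟨k, hk, rfl⟩ := hg
      obtain ⟨n, hn⟩ := Solvable.Cores.isPGroup_pCore (G := ↥(H₁ ⊔ H₂)) 2 ⟨k, hk⟩
      have hn' : (k : (centralizer ({z} : Set G))) ^ 2 ^ n = 1 := congrArg (fun v : Cfsg.pCore 2 ↥(H₁ ⊔ H₂) => ((v : ↥(H₁ ⊔ H₂)) : (centralizer ({z} : Set G)))) hn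
      obtain ⟨u, hu, w, hw, e⟩ := hprod k k.2
      refine ⟨u, hu, w, hw, ?_, ?_, e⟩
      all_goals
        have hp : u ^ 2 ^ n * w ^ 2 ^ n = 1 := by
          rw [← (show Commute u w from hcomm u hu w hw).mul_pow, ← e, hn']
        have h2u : (u ^ 2 ^ n) ^ 2 = 1 ∧ (w ^ 2 ^ n) ^ 2 = 1 := by
          have e1 : u ^ 2 ^ n = (w ^ 2 ^ n)⁻¹ := eq_inv_of_mul_eq_one_left hp
          rcases hint (u ^ 2 ^ n) (pow_mem hu _) (e1 ▸ inv_mem (pow_mem hw _)) with h | h <;>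
            rw [h] at e1 <;> rw [h, inv_eq_iff_eq_inv.1 e1.symm] <;>
            simp [pow_two, hzc2, inv_eq_of_mul_eq_one_right hzc2]
      · refine Subtype.ext ?_
        have h24 : ((u : (centralizer ({z} : Set G))) : G) ^ 24 = 1 := P₁.pow _ (hr₁ ▸ ⟨u, hu, rfl⟩)
        exact pow_eight h24 (n := n + 1) (by rw [pow_succ, pow_mul]; exact congrArg Subtype.val h2u.1)
      · refine Subtype.ext ?_
        have h24 : ((w : (centralizer ({z} : Set G))) : G) ^ 24 = 1 := P₂.pow _ (hr₂ ▸ ⟨w, hw, rfl⟩)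
        exact pow_eight h24 (n := n + 1) (by rw [pow_succ, pow_mul]; exact congrArg Subtype.val h2u.2)
    · rintro ⟨u, hu, w, hw, hu8, hw8, rfl⟩
      have hN : ∀ (H : Subgroup (centralizer ({z} : Set G))) (φ : S23 →* G) (_ : φ.range = H.map (centralizer ({z} : Set G)).subtype)
          (_ : Piece z (q8.map φ) φ.range) (hle : H ≤ H₁ ⊔ H₂)
          (_ : (H.subgroupOf (H₁ ⊔ H₂)).Normal), ∀ v ∈ H, v ^ 8 = 1 → v ∈ Q := by
        intro H φ hr hP hle hn v hv h8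
        let N : Subgroup ↥(H₁ ⊔ H₂) := (q8.map φ).comap ((centralizer ({z} : Set G)).subtype.comp (H₁ ⊔ H₂).subtype)
        have hNH : ∀ m ∈ N, (m : (centralizer ({z} : Set G))) ∈ H := fun m hm => by
          obtain ⟨x, hx, e⟩ := hr ▸ hP.le hm
          exact (Subtype.ext e : x = (m : (centralizer ({z} : Set G)))) ▸ hx
        have hNn : N.Normal := by
          refine ⟨fun m hm k => ?_⟩
          have hmem : (((k * m * k⁻¹ : ↥(H₁ ⊔ H₂)) : (centralizer ({z} : Set G)))) ∈ H :=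
            hn.conj_mem m (hNH m hm) k
          refine hP.two _ (hr ▸ ⟨_, hmem, rfl⟩) ?_
          have : m ^ 8 = 1 := Subtype.ext (Subtype.ext (by
            obtain ⟨q, hq, e⟩ := hm
            have hq4 : q ^ 4 = 1 := hq
            simp only [SubgroupClass.coe_pow, OneMemClass.coe_one]
            have e' : φ q = ((m : (centralizer ({z} : Set G))) : G) := e
            rw [← e', ← map_pow, show (8 : ℕ) = 4 * 2 from rfl, pow_mul, hq4, one_pow, map_one]))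
          show ((((k * m * k⁻¹ : ↥(H₁ ⊔ H₂)) : (centralizer ({z} : Set G)))) : G) ^ 8 = 1
          rw [← SubgroupClass.coe_pow, ← SubgroupClass.coe_pow, conj_pow, this]
          simp
        have hN2 : IsPGroup 2 N := fun m => ⟨2, Subtype.ext (Subtype.ext (Subtype.ext (by
            obtain ⟨q, hq, e⟩ := m.2
            have hq4 : q ^ 4 = 1 := hq
            simp only [SubgroupClass.coe_pow, OneMemClass.coe_one]
            have e' : φ q = (((m : ↥(H₁ ⊔ H₂)) : (centralizer ({z} : Set G))) : G) := e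
            rw [← e', ← map_pow, show 2 ^ 2 = 4 from rfl, hq4, map_one])))⟩
        rw [hQ]
        exact ⟨⟨v, hle hv⟩, (le_sSup (show N ∈ {N : Subgroup ↥(H₁ ⊔ H₂) | N.Normal ∧ IsPGroup 2 N} from
          ⟨hNn, hN2⟩)) (hP.two _ (hr ▸ ⟨v, hv, rfl⟩) (congrArg Subtype.val h8)), rfl⟩
      exact mul_mem (hN H₁ φ₁ hr₁ P₁ le_sup_left hn₁ u hu hu8) (hN H₂ φ₂ hr₂ P₂ le_sup_right hn₂ w hw hw8)
  have hOdd : Cfsg.pPrimeCore 2 (centralizer ({z} : Set G)) = ⊥ := by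
    haveI := Solvable.Cores.pPrimeCore_normal (G := (centralizer ({z} : Set G))) 2
    have hco : (Nat.card (Cfsg.pPrimeCore 2 (centralizer ({z} : Set G)))).Coprime 2 := Solvable.Cores.coprime_card_pPrimeCore 2
    have h2Q : ∀ q : (centralizer ({z} : Set G)), q ∈ Q → ∃ n : ℕ, q ^ 2 ^ n = 1 := fun q hq => by
      obtain ⟨u, hu, w, hw, h1, h2, rfl⟩ := (hQmem q).1 hq
      exact ⟨3, by rw [(show Commute u w from hcomm u hu w hw).mul_pow, show 2 ^ 3 = 8 from rfl, h1, h2, one_mul]⟩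
    have hbot : ∀ n ∈ Cfsg.pPrimeCore 2 (centralizer ({z} : Set G)), n ∈ Q → n = 1 := fun n hn hnQ => by
      obtain ⟨k, hk⟩ := h2Q n hnQ
      have h1 : orderOf n ∣ 2 ^ k := orderOf_dvd_of_pow_eq_one hk
      have h2 : orderOf n ∣ Nat.card (Cfsg.pPrimeCore 2 (centralizer ({z} : Set G))) :=
        Subgroup.orderOf_dvd_natCard _ hn
      exact orderOf_eq_one_iff.1 (Nat.eq_one_of_dvd_coprimes (hco.pow_right k) h2 h1)
    refine (eq_bot_iff_forall _).2 fun n hn => hbot n hn ?_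
    have : n ∈ centralizer (Cfsg.generalizedFittingSubgroup (centralizer ({z} : Set G)) : Set (centralizer ({z} : Set G))) := by
      rw [hF, mem_centralizer_iff]
      intro q hq
      have hm : n * q * n⁻¹ * q⁻¹ = 1 := hbot _
        (by simpa [mul_assoc] using mul_mem hn (Normal.conj_mem ‹_› n⁻¹ (inv_mem hn) q))
        (mul_mem (Normal.conj_mem ‹Q.Normal› q hq n) (inv_mem hq))
      rw [mul_inv_eq_one, mul_inv_eq_iff_eq_mul] at hm
      exact hm.symm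
    exact hF ▸ Components.centralizer_generalizedFitting_le this
  have hT : ∀ (H : Subgroup (centralizer ({z} : Set G))) (φ : S23 →* G),
      φ.range = H.map (centralizer ({z} : Set G)).subtype → Piece z (q8.map φ) φ.range →
      ∀ g : G, g ∈ q8.map φ ↔ ∃ u ∈ H, u ^ 8 = 1 ∧ (u : G) = g := by
    intro H φ hr hP g
    constructor
    · rintro ⟨q, hq, rfl⟩
      obtain ⟨u, hu, e⟩ : φ q ∈ H.map (centralizer ({z} : Set G)).subtype := hr ▸ ⟨q, rfl⟩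
      refine ⟨u, hu, Subtype.ext ?_, e⟩
      have hq4 : q ^ 4 = 1 := hq
      rw [SubgroupClass.coe_pow, show (u : G) = φ q from e, ← map_pow,
        show (8 : ℕ) = 4 * 2 from rfl, pow_mul, hq4, one_pow, map_one]
      rfl
    · rintro ⟨u, hu, h8, rfl⟩
      exact hP.two _ (hr ▸ ⟨u, hu, rfl⟩) (congrArg Subtype.val h8)
  have hle : ∀ (H : Subgroup (centralizer ({z} : Set G))) (g : G),
      g ∈ H.map (centralizer ({z} : Set G)).subtype → g ∈ centralizer ({z} : Set G) := by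
    rintro H _ ⟨u, -, rfl⟩; exact u.2
  refine ⟨q8.map φ₁, q8.map φ₂, φ₁.range, φ₂.range,
    { z_inv := hz, le₁ := fun g hg => hle H₁ g (hr₁ ▸ hg), le₂ := fun g hg => hle H₂ g (hr₂ ▸ hg),
      comm := ?_, inter := ?_, p₁ := P₁, p₂ := P₂, mem_Q := ?_, norm := ?_, normK := ?_, selfc := ?_,
      card_C := hH.trans (by norm_num), inter_conj := hQQg, not_weakly_closed := ?_, oddCore := hOdd }⟩
  · rw [hr₁, hr₂]
    rintro _ ⟨u, hu, rfl⟩ _ ⟨w, hw, rfl⟩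
    exact congrArg Subtype.val (hcomm u hu w hw)
  · rw [hr₁, hr₂]
    rintro _ ⟨u, hu, rfl⟩ ⟨w, hw, e⟩
    have : w = u := Subtype.ext e
    rcases hint u hu (this ▸ hw) with rfl | rfl
    exacts [Or.inl rfl, Or.inr rfl]
  · intro g
    constructor
    · rintro ⟨q, hq, rfl⟩
      obtain ⟨u, hu, w, hw, h1, h2, rfl⟩ := (hQmem q).1 hq
      exact ⟨u, (hT H₁ φ₁ hr₁ P₁ u).2 ⟨u, hu, h1, rfl⟩, w, (hT H₂ φ₂ hr₂ P₂ w).2 ⟨w, hw, h2, rfl⟩, rfl⟩
    · rintro ⟨u, hu, w, hw, rfl⟩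
      obtain ⟨u', hu', h1, rfl⟩ := (hT H₁ φ₁ hr₁ P₁ u).1 hu
      obtain ⟨w', hw', h2, rfl⟩ := (hT H₂ φ₂ hr₂ P₂ w).1 hw
      exact ⟨u' * w', (hQmem _).2 ⟨u', hu', w', hw', h1, h2, rfl⟩, rfl⟩
  · rintro h hh _ ⟨q, hq, rfl⟩
    exact ⟨⟨h, hh⟩ * q * ⟨h, hh⟩⁻¹, Normal.conj_mem ‹Q.Normal› q hq _, rfl⟩
  · intro h hh k hk
    obtain ⟨k', hk', rfl⟩ : k ∈ (H₁ ⊔ H₂).map (centralizer ({z} : Set G)).subtype := by
      rcases hk with hk | hk
      · exact Subgroup.map_mono le_sup_left (hr₁ ▸ hk)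
      · exact Subgroup.map_mono le_sup_right (hr₂ ▸ hk)
    obtain ⟨u, hu, w, hw, e⟩ := hprod _ (hKn.conj_mem k' hk' ⟨h, hh⟩)
    exact ⟨u, hr₁ ▸ ⟨u, hu, rfl⟩, w, hr₂ ▸ ⟨w, hw, rfl⟩, congrArg Subtype.val e⟩
  · intro h hh hcen
    refine ⟨⟨h, hh⟩, ?_, rfl⟩
    have : (⟨h, hh⟩ : centralizer ({z} : Set G)) ∈
        centralizer (Cfsg.generalizedFittingSubgroup (centralizer ({z} : Set G)) :
          Set (centralizer ({z} : Set G))) := by
      rw [hF, mem_centralizer_iff]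
      exact fun q hq => Subtype.ext (hcen q ⟨q, hq, rfl⟩)
    exact hF ▸ Components.centralizer_generalizedFitting_le this
  · obtain ⟨g, ⟨hq, hm⟩, hne⟩ := hnwc
    exact ⟨g, ⟨_, hm, rfl⟩, hne⟩

end CfsgLib.Recognition.UFourThree
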