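import Cfsg.Agent.Lib.Recognition.UFourThree.Tables
import Cfsg.Agent.Lib.Schur.PSUFourThree.Model

/-!
# The model of the letters in the unitary group
-/

set_option autoImplicit false
set_option maxRecDepth 100000

namespace CfsgLib.Recognition.UFourThree

open CfsgLib.Sporadic.CosetCert (Cert)
open CfsgLib.Sporadic.OutCert (lk allF allF_iff)
open CfsgLib.Schur (PSUFourThree.G)
open CfsgLib.Schur.PSUFourThree (psi phi gen pointK baseK point_rep gen_rep phi_injective card_G)
open Data CertData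

attribute [local irreducible] lk pointK baseK p280 p112 g280 g112

/-- The model group. -/
abbrev Mod : Type := CfsgLib.Schur.PSUFourThree.G

/-- The generators of the model and their inverses. -/
noncomputable def genL (i : ℕ) : Mod := [gen 0, gen 1, (gen 0)⁻¹, (gen 1)⁻¹].getD i 1

/-- The letters in the model. -/
noncomputable def elP (x : ℕ) : Mod := ev genL (letterW.getD x [])

/-- Reading a word on the points of a table. -/
def img (w : ℕ) (tab : List ℕ) (L : List ℕ) (i : ℕ) : ℕ :=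
  L.foldr (fun l v => lk w (tab.getD l 0) v) i

theorem tab_check :
    (g280.take 2 = pointK.take 2 ∧ g112.take 2 = baseK.take 2) ∧
    (allF (fun i => lk 9 (g280.getD 2 0) i < 280 && Nat.beq (lk 9 (g280.getD 0 0) (lk 9 (g280.getD 2 0) i)) i &&
      (lk 9 (g280.getD 3 0) i < 280 && Nat.beq (lk 9 (g280.getD 1 0) (lk 9 (g280.getD 3 0) i)) i)) 280 = true ∧
    allF (fun i => lk 7 (g112.getD 2 0) i < 112 && Nat.beq (lk 7 (g112.getD 0 0) (lk 7 (g112.getD 2 0) i)) i &&
      (lk 7 (g112.getD 3 0) i < 112 && Nat.beq (lk 7 (g112.getD 1 0) (lk 7 (g112.getD 3 0) i)) i)) 112 = true) := by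
  decide +kernel

theorem word_check :
    allF (fun x => allF (fun i => Nat.beq (img 9 g280 (letterW.getD x []) i) (lk 9 (p280.getD x 0) i)) 280) 11 = true ∧
    allF (fun x => allF (fun i => Nat.beq (img 7 g112 (letterW.getD x []) i) (lk 7 (p112.getD x 0) i)) 112) 11 = true ∧
    allF (fun m => allF (fun i => Nat.beq (img 7 p112 (genW.getD m []) i) (lk 7 (g112.getD m 0) i)) 112) 2 = true ∧
    allF (fun x => allF (fun i =>
      lk 9 (p280.getD x 0) i < 280 && Nat.beq (lk 9 (p280.getD (ivl x) 0) (lk 9 (p280.getD x 0) i)) i) 280) 11 = true ∧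
    (∀ x < 11, (letterW.getD x []).all (fun l => Nat.blt l 4) = true) ∧
    ∀ m < 2, (genW.getD m []).all (fun l => Nat.blt l 11) = true := by
  decide +kernel

theorem img_eq {N w : ℕ} {tab : List ℕ} {el : ℕ → Mod} (f : Mod →* Equiv.Perm (Fin N))
    {n : ℕ} (h : ∀ l < n, ∀ i : Fin N, lk w (tab.getD l 0) i = (f (el l) i : ℕ)) :
    ∀ {L : List ℕ}, (∀ l ∈ L, l < n) → ∀ i : Fin N, img w tab L i = (f (ev el L) i : ℕ)
  | [], _, i => by simp [img, ev]
  | l :: L, hL, i => by
    show lk w (tab.getD l 0) (img w tab L i) = _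
    rw [img_eq f h (fun q hq => hL q (List.mem_cons_of_mem _ hq)) i, h l (hL l List.mem_cons_self),
      ev_cons, map_mul, Equiv.Perm.mul_apply]

theorem genL_rep : ∀ l < 4, ∀ i : Fin 280, lk 9 (g280.getD l 0) i = (psi (genL l) i : ℕ) := by
  obtain ⟨⟨h1, -⟩, h2, -⟩ := tab_check
  have hg : ∀ m : Fin 2, ∀ i : Fin 280, lk 9 (g280.getD m 0) i = (psi (gen m) i : ℕ) := fun m i => by
    rw [← point_rep m i]
    have : g280.getD m 0 = pointK.getD m 0 := by
      have e := congrArg (fun L : List ℕ => L.getD m 0) h1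
      simpa [List.getD_eq_getElem?_getD, m.2] using e
    rw [this]
  have hinv : ∀ m : Fin 2, ∀ i : Fin 280, ∀ v : ℕ, v < 280 → lk 9 (g280.getD m 0) v = i →
      v = (psi (gen m)⁻¹ i : ℕ) := fun m i v hv e => by
    have e' : psi (gen m) ⟨v, hv⟩ = i := Fin.ext ((hg m ⟨v, hv⟩).symm.trans e)
    rw [map_inv, ← e', Equiv.Perm.inv_def, Equiv.symm_apply_apply]
  intro l hl i
  have := allF_iff.1 h2 i i.2
  simp only [Bool.and_eq_true, decide_eq_true_eq, Nat.beq_eq] at this
  interval_cases l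
  · exact hg 0 i
  · exact hg 1 i
  · exact hinv 0 i _ this.1.1 this.1.2
  · exact hinv 1 i _ this.2.1 this.2.2

theorem genL_rep_lines : ∀ l < 4, ∀ i : Fin 112, lk 7 (g112.getD l 0) i = (phi (genL l) i : ℕ) := by
  obtain ⟨⟨-, h1⟩, -, h2⟩ := tab_check
  have hg : ∀ m : Fin 2, ∀ i : Fin 112, lk 7 (g112.getD m 0) i = (phi (gen m) i : ℕ) := fun m i => by
    rw [← gen_rep m i]
    have : g112.getD m 0 = baseK.getD m 0 := by
      have e := congrArg (fun L : List ℕ => L.getD m 0) h1
      simpa [List.getD_eq_getElem?_getD, m.2] using e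
    rw [this]
  have hinv : ∀ m : Fin 2, ∀ i : Fin 112, ∀ v : ℕ, v < 112 → lk 7 (g112.getD m 0) v = i →
      v = (phi (gen m)⁻¹ i : ℕ) := fun m i v hv e => by
    have e' : phi (gen m) ⟨v, hv⟩ = i := Fin.ext ((hg m ⟨v, hv⟩).symm.trans e)
    rw [map_inv, ← e', Equiv.Perm.inv_def, Equiv.symm_apply_apply]
  intro l hl i
  have := allF_iff.1 h2 i i.2
  simp only [Bool.and_eq_true, decide_eq_true_eq, Nat.beq_eq] at this
  interval_cases l
  · exact hg 0 i
  · exact hg 1 i
  · exact hinv 0 i _ this.1.1 this.1.2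
  · exact hinv 1 i _ this.2.1 this.2.2

theorem lettW_lt {x : ℕ} (hx : x < 11) : ∀ l ∈ letterW.getD x [], l < 4 := fun l hl => by
  have := word_check.2.2.2.2.1 x hx
  simp only [List.all_eq_true, Nat.blt_eq] at this
  exact this l hl

theorem letter_rep {x : ℕ} (hx : x < 11) (i : Fin 280) :
    lk 9 (p280.getD x 0) i = (psi (elP x) i : ℕ) := by
  rw [← Nat.eq_of_beq_eq_true (allF_iff.1 (allF_iff.1 word_check.1 x hx) i i.2)]
  exact img_eq psi genL_rep (lettW_lt hx) i

theorem letter_rep_lines {x : ℕ} (hx : x < 11) (i : Fin 112) :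
    lk 7 (p112.getD x 0) i = (phi (elP x) i : ℕ) := by
  rw [← Nat.eq_of_beq_eq_true (allF_iff.1 (allF_iff.1 word_check.2.1 x hx) i i.2)]
  exact img_eq phi genL_rep_lines (lettW_lt hx) i

/-- The generators of the model are words in the letters. -/
theorem gen_word (m : Fin 2) : ∃ L : List ℕ, (∀ l ∈ L, l < 11) ∧ ev elP L = gen m := by
  have hw : ∀ l ∈ genW.getD m [], l < 11 := fun l hl => by
    have := word_check.2.2.2.2.2 m m.2
    simp only [List.all_eq_true, Nat.blt_eq] at this
    exact this l hl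
  refine ⟨_, hw, phi_injective (Equiv.ext fun i => Fin.ext ?_)⟩
  rw [← img_eq phi (fun l hl => letter_rep_lines hl) hw i,
    Nat.eq_of_beq_eq_true (allF_iff.1 (allF_iff.1 word_check.2.2.1 m m.2) i i.2),
    genL_rep_lines m (by have := m.2; omega) i]
  fin_cases m <;> rfl

theorem elP_inv_rep {x : ℕ} (hx : x < 11) (i : Fin 280) :
    pinv280 x i = ((psi (elP x))⁻¹ i : ℕ) := by
  obtain ⟨j, rfl⟩ := (psi (elP x)).surjective i
  rw [Equiv.Perm.inv_def, Equiv.symm_apply_apply]
  have h := allF_iff.1 (allF_iff.1 word_check.2.2.2.1 x hx) j j.2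
  simp only [Bool.and_eq_true, decide_eq_true_eq, Nat.beq_eq] at h
  rw [← letter_rep hx j]
  exact h.2

end CfsgLib.Recognition.UFourThree
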