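import Cfsg.Agent.Lib.Recognition.UFourThree.Crel
import Cfsg.Agent.Lib.Recognition.UFourThree.Model
import Cfsg.Agent.Lib.Recognition.UFourThree.Embedded
import Cfsg.Agent.Lib.Chevalley.G2Two.Transfer
import Cfsg.Agent.S0283

/-!
# Groups of unitary type `U₄(3)`
-/

set_option autoImplicit false
set_option maxRecDepth 100000
set_option linter.unusedSectionVars false

namespace CfsgLib.Recognition.UFourThree

open CfsgLib.Sporadic.CosetCert (Cert)
open CfsgLib.Sporadic.OutCert (lk allF allF_iff)
open Subgroup Data CertData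

theorem ordl_check : (∀ x < 11, ordl x < 11) ∧ ∀ x < 11, ∃ y < 11, ordl y = x := by decide +kernel

theorem extra_check : ∀ t ∈ extra, Small t.1 ∧ Small t.2.2 ∧ (∀ i ∈ t.2.1, i < 6) ∧
    runH t.1 = runH (expand t.2.1) ∧ runH t.2.2 = runH (expand (substW 9 t.2.1)) := by
  decide +kernel

theorem certG_inv : ∀ x < 11, ordl (certG.inv x) = ivl (ordl x) := by decide +kernel

theorem certG_rels : ∀ i < certG.nr, (certG.letters i).map ordl ∈
    relH ++ relS ++ [crel.getD 0 []] ++ extra.map (fun t => 9 :: t.1 ++ 10 :: winv ivl t.2.2) := by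
  decide +kernel

theorem certG_subs : ∀ i < certG.words.length, certG.nr ≤ i →
    (certG.letters i).map ordl ∈ [[0], [2], [4], [6], [7]] ++ (traj.take 2).map (·.1) := by
  decide +kernel

theorem ptsG_lt : allF (fun u => (ptsG u).all fun p => Nat.blt p 280) 2835 = true := by decide +kernel

theorem core_check : allF (fun u => let w := wordAt u
    !([[6], [6, 7], [2, 7, 7]].all fun v => runH (w ++ v) == runH (v ++ w)) ||
      keyHn u == one0 || keyHn u == runH [0, 0]) 1152 = true := by
  decide +kernel

theorem core_words : ∀ v ∈ [[6], [6, 7], [2, 7, 7]],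
    Small v ∧ runH (v ++ v) = one0 ∧ runH v ≠ one0 := by
  decide +kernel

theorem r_check : runH ([7, 7, 7, 7, 7, 7, 7, 7] : List ℕ) = one0 ∧
    runH [8, 4, 8, 4, 8, 4, 8, 4, 8, 4, 8, 4, 8, 4, 8, 4] = one0 := by
  decide +kernel

/-- A word of the large certificate on a point. -/
def runP (L : List ℕ) (i : ℕ) : ℕ := L.foldl (fun i x => pinv280 (ordl x) i) i

theorem run_image : ∀ (L : List ℕ) (s : Finset ℕ), Keyed.run actG L s = s.image (runP L)
  | [], s => by
    show s = s.image fun i => i
    exact Finset.image_id.symm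
  | x :: L, s => by
    show Keyed.run actG L (actG x s) = _
    rw [run_image L, actG, Finset.image_image]
    rfl

theorem runP_perm : ∀ (L : List ℕ), (∀ x ∈ L, x < 11) → ∀ i : Fin 280,
    runP L i = ((CfsgLib.Schur.PSUFourThree.psi (ev elP (L.map ordl)))⁻¹ i : ℕ)
  | [], _, i => by simp [runP, ev]
  | x :: L, hL, i => by
    show runP L (pinv280 (ordl x) i) = _
    rw [elP_inv_rep (ordl_check.1 x (hL x List.mem_cons_self)) i,
      runP_perm L (fun y hy => hL y (List.mem_cons_of_mem _ hy)), List.map_cons, ev_cons, map_mul,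
      mul_inv_rev, Equiv.Perm.mul_apply]

/-- A word trivial in the model fixes every key. -/
theorem fix_key {L : List ℕ} (hL : ∀ x ∈ L, x < 11) (h1 : ev elP (L.map ordl) = 1) :
    ∀ u < certG.N, Keyed.run actG L (keyGn u) = keyGn u := by
  intro u hu
  rw [certG_shape.1] at hu
  have hp : ∀ p ∈ keyGn u, runP L p = p := fun p hp => by
    have := List.all_eq_true.1 (allF_iff.1 ptsG_lt u hu) p (List.mem_toFinset.1 hp)
    rw [Nat.blt_eq] at this
    rw [runP_perm L hL ⟨p, this⟩, h1, map_one, inv_one, Equiv.Perm.one_apply]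
  rw [run_image]
  conv_rhs => rw [← Finset.image_id (s := keyGn u)]
  exact Finset.image_congr fun p hp' => hp p hp'

namespace Gens

variable {G : Type*} [Group G] [Finite G] {z a c r x d σ : G} (g : Gens z a c r x d σ)
include g

local notation "E" => ev (lett a c r x d σ)

theorem readingG : Reading certG (fun i => lett a c r x d σ (ordl i)) (centralizer ({z} : Set G)) := by
  have hc := g.crel_one
  refine ⟨certG_valid, by rw [certG_shape.1]; norm_num, fun v hv => ?_, fun j hj _ => ?_, fun j h1 h2 => ?_⟩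
  · rw [certG_shape.2] at hv
    show lett a c r x d σ (ordl (certG.inv v)) = _
    rw [certG_inv v hv, g.lett_inv _ (ordl_check.1 v hv)]
  · rw [← ev_map]
    rcases List.mem_append.1 (certG_rels j hj) with h | h
    · rcases List.mem_append.1 h with h | h
      · rcases List.mem_append.1 h with h | h
        exacts [g.relH_one _ h, g.relS_one _ h]
      · rw [List.mem_singleton.1 h]; exact hc
    · obtain ⟨t, ht, e⟩ := List.mem_map.1 h
      obtain ⟨s1, s2, hpw, e1, e2⟩ := extra_check t ht
      rw [← e, List.cons_append, ev_cons, ev_append, ev_cons, g.inv_ev s2,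
        g.eq_of_run s1 (small_expand hpw) e1, g.eq_of_run s2 (small_expand fun i hi => ?_) e2,
        ← g.step_word (Or.inl rfl) hpw]
      · simp only [lett, List.getD_cons_succ, List.getD_cons_zero]
        group
      · simp only [substW, if_pos] at hi
        obtain ⟨w, hw, hiw⟩ := List.mem_flatten.1 hi
        obtain ⟨k, hk, rfl⟩ := List.mem_map.1 hw
        exact sym_small.2 k (hpw k hk) i hiw
  · rw [← ev_map]
    rcases List.mem_append.1 (certG_subs j h2 h1) with h | h
    · refine g.ev_small fun v hv' => ?_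
      simp only [List.mem_cons, List.not_mem_nil, or_false] at h
      rcases h with h | h | h | h | h <;> rw [h] at hv' <;>
        simp only [List.mem_singleton] at hv' <;> omega
    · obtain ⟨t, ht, e⟩ := List.mem_map.1 h
      have := g.traj_conj (List.mem_of_mem_take ht)
      rw [(loops_check t ht).1, (loops_check t ht).2, g.z_ev, e] at this
      exact mem_centralizer_singleton_iff.2 (mul_inv_eq_iff_eq_mul.1 this)

omit g in
/-- The subgroup of the letters. -/
def span (a c r x d σ : G) : Subgroup G := closure (lett a c r x d σ '' Set.Iio 11)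

theorem centralizer_le : centralizer ({z} : Set G) ≤ span a c r x d σ := by
  refine g.gen.trans ((closure_le _).2 ?_)
  rintro v (rfl | rfl | rfl | rfl | rfl)
  exacts [subset_closure ⟨0, by simp, rfl⟩, subset_closure ⟨2, by simp, rfl⟩,
    subset_closure ⟨4, by simp, rfl⟩, subset_closure ⟨6, by simp, rfl⟩, subset_closure ⟨7, by simp, rfl⟩]

omit g in
theorem sigma_mem : σ ∈ span a c r x d σ := subset_closure ⟨9, by simp, rfl⟩

/-- Only the identity has all its conjugates in the centraliser. -/
theorem core_trivial {u : G}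
    (hu : ∀ b ∈ span a c r x d σ, b⁻¹ * u * b ∈ centralizer ({z} : Set G)) : u = 1 := by
  have key : ∀ v : G, (∀ b ∈ span a c r x d σ, b⁻¹ * v * b ∈ centralizer ({z} : Set G)) → v = 1 ∨ v = z := by
    intro v hv
    have h1 : v ∈ centralizer ({z} : Set G) := by simpa using hv 1 (one_mem _)
    obtain ⟨p, hp, rfl, sp, rp⟩ := g.node_of (mem_centralizer_singleton_iff.1 h1)
    have hall : ∀ q ∈ [[6], [6, 7], [2, 7, 7]], runH (wordAt p ++ q) = runH (q ++ wordAt p) := by
      intro q hq
      obtain ⟨sq, q2, q1⟩ := core_words q hq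
      have ho : orderOf (E q) = 2 := orderOf_eq_prime
        (by rw [pow_two, ← ev_append]; exact (g.eq_one_iff (small_append sq sq)).2 q2)
        fun e => q1 ((g.eq_one_iff sq).1 e)
      obtain ⟨b, hb, e⟩ := g.invol_conj_in _ g.centralizer_le sigma_mem (E q)
        (g.centralizer_le (g.ev_small sq)) ho
      rw [← g.commute_iff sp sq, ← e]
      have h2 := (g.z_comm (hv b hb)).map (MulAut.conj b).toMonoidHom
      simp only [MulEquiv.coe_toMonoidHom, MulAut.conj_apply] at h2
      rwa [show b * (b⁻¹ * E (wordAt p) * b) * b⁻¹ = E (wordAt p) by group] at h2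
    have h := allF_iff.1 core_check p hp
    simp only [Bool.or_eq_true, Bool.not_eq_true', beq_iff_eq] at h
    rcases h with (h | h) | h
    · exact absurd h (by simpa using hall)
    · exact Or.inl ((g.eq_one_iff sp).2 (rp.trans h))
    · exact Or.inr ((g.eq_of_run sp (show Small [0, 0] by decide) (rp.trans h)).trans g.z_ev)
  refine (key u hu).resolve_right fun hz => ?_
  subst hz
  rcases key (σ⁻¹ * u * σ) fun b hb => by
    have := hu (σ * b) (mul_mem sigma_mem hb)
    rwa [show (σ * b)⁻¹ * u * (σ * b) = b⁻¹ * (σ⁻¹ * u * σ) * b by group] at this with e | e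
  · have : u = 1 := by
      calc u = σ * (σ⁻¹ * u * σ) * σ⁻¹ := by group
        _ = 1 := by rw [e]; group
    exact g.moved (by rw [this]; group)
  · refine g.moved ?_
    calc σ * u * σ⁻¹ = σ * (σ⁻¹ * u * σ) * σ⁻¹ := by rw [e]
      _ = u := by group

/-- A word trivial in the model is trivial. -/
theorem ev_eq_one {L : List ℕ} (hL : ∀ v ∈ L, v < 11) (h1 : ev elP L = 1) : E L = 1 := by
  choose φ hφ1 hφ2 using ordl_check.2
  let M : List ℕ := L.attach.map fun v => φ v.1 (hL v.1 v.2)
  have hM : M.map ordl = L := by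
    simp only [M, List.map_map, Function.comp_def, hφ2]
    exact List.attach_map_subtype_val L
  have hM11 : ∀ v ∈ M, v < 11 := fun v hv => by
    obtain ⟨w, -, rfl⟩ := List.mem_map.1 hv
    exact hφ1 _ _
  refine g.core_trivial fun b hb => ?_
  have hb' : b ∈ closure ((fun i => lett a c r x d σ (ordl i)) '' Set.Iio certG.nl) := by
    refine closure_mono ?_ hb
    rintro _ ⟨v, hv, rfl⟩
    obtain ⟨w, hw, rfl⟩ := ordl_check.2 v hv
    exact ⟨w, certG_shape.2.symm ▸ hw, rfl⟩
  have h := keyedG.conj_mem g.readingG (L := M) (fun v hv => certG_shape.2.symm ▸ hM11 v hv)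
    (fix_key hM11 (hM.symm ▸ h1)) hb'
  rwa [← ev_map, hM] at h

/-- The subgroup of the letters is the model. -/
theorem exists_hom : ∃ f : Mod →* G, Function.Injective f ∧ f.range = span a c r x d σ := by
  have : Finite Mod := CfsgLib.Schur.PSUFourThree.finite_G
  let S : Set (G × Mod) := Set.range fun i : Fin 11 => (lett a c r x d σ i, elP i)
  let Γ : Subgroup (G × Mod) := closure S
  have hword : ∀ q ∈ Γ, ∃ L : List ℕ, (∀ v ∈ L, v < 11) ∧ q = (E L, ev elP L) := by
    intro q hq
    change q ∈ (closure S).toSubmonoid at hq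
    rw [closure_toSubmonoid_of_finite] at hq
    induction hq using Submonoid.closure_induction with
    | mem q hq =>
      obtain ⟨i, rfl⟩ := hq
      exact ⟨[i], by simp [i.2], by simp [ev]⟩
    | one => exact ⟨[], by simp, rfl⟩
    | mul q q' _ _ h h' =>
      obtain ⟨L, hL, rfl⟩ := h
      obtain ⟨L', hL', rfl⟩ := h'
      exact ⟨L ++ L', fun v hv => (List.mem_append.1 hv).elim (hL v) (hL' v),
        by simp [ev_append]⟩
  have hpair : ∀ L : List ℕ, (∀ v ∈ L, v < 11) → (E L, ev elP L) ∈ Γ := by
    intro L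
    induction L with
    | nil => intro _; exact one_mem _
    | cons v L ih =>
      intro hL
      rw [ev_cons, ev_cons]
      exact mul_mem (subset_closure ⟨⟨v, hL v List.mem_cons_self⟩, rfl⟩ : (lett a c r x d σ v, elP v) ∈ Γ)
        (ih fun w hw => hL w (List.mem_cons_of_mem _ hw))
  let π : Γ →* Mod := (MonoidHom.snd G Mod).comp Γ.subtype
  have hinj : Function.Injective π := (injective_iff_map_eq_one π).2 fun q hq => by
    obtain ⟨L, hL, e⟩ := hword q q.2
    have h2 : ev elP L = 1 := by simpa [π, e] using hq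
    exact Subtype.ext (e.trans (Prod.ext (g.ev_eq_one hL h2) h2))
  have hsurj : Function.Surjective π := by
    rw [← MonoidHom.range_eq_top, ← top_le_iff, ← CfsgLib.Schur.PSUFourThree.gen_closure, closure_le]
    rintro _ ⟨m, rfl⟩
    obtain ⟨L, hL, e⟩ := gen_word m
    exact ⟨⟨_, hpair L hL⟩, e⟩
  let e := MulEquiv.ofBijective π ⟨hinj, hsurj⟩
  let f : Mod →* G := (MonoidHom.fst G Mod).comp (Γ.subtype.comp e.symm.toMonoidHom)
  have hf : ∀ v, v < 11 → f (elP v) = lett a c r x d σ v := fun v hv => by
    have hmem : (lett a c r x d σ v, elP v) ∈ Γ := subset_closure ⟨⟨v, hv⟩, rfl⟩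
    have : e.symm (elP v) = ⟨_, hmem⟩ := e.symm_apply_eq.2 rfl
    show ((e.symm (elP v) : Γ) : G × Mod).1 = _
    rw [this]
  have hrange : f.range = span a c r x d σ := by
    refine le_antisymm ?_ ((closure_le _).2 ?_)
    · rintro _ ⟨v, rfl⟩
      obtain ⟨L, hL, e'⟩ := hword _ (e.symm v).2
      show ((e.symm v : Γ) : G × Mod).1 ∈ _
      rw [e']
      exact ev_mem fun w hw => subset_closure ⟨w, hL w hw, rfl⟩
    · rintro _ ⟨v, hv, rfl⟩
      exact ⟨elP v, hf v hv⟩
  refine ⟨f, ?_, hrange⟩
  have : IsSimpleGroup Mod := Cfsg.Agent.S0283.result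
    CfsgLib.Schur.PSUFourThree.card_field 4 (by norm_num) (by norm_num)
  rcases IsSimpleGroup.eq_bot_or_eq_top_of_normal f.ker inferInstance with h | h
  · exact (MonoidHom.ker_eq_bot_iff f).1 h
  · exfalso
    have : a = 1 := by
      have h0 := MonoidHom.mem_ker.1 (h ▸ mem_top (elP 0) : elP 0 ∈ f.ker)
      rwa [hf 0 (by norm_num)] at h0
    exact g.moved (by rw [← g.a2, this]; group)

theorem span_eq_top (hcore : Cfsg.pPrimeCore 2 ↥(centralizer ({z} : Set G)) = ⊥) :
    span a c r x d σ = ⊤ ∧ ∀ i j : G, orderOf i = 2 → orderOf j = 2 → IsConj i j := by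
  have hA := g.centralizer_le
  have hconj : ∀ u ∈ span a c r x d σ, orderOf u = 2 → ∃ b ∈ span a c r x d σ, b * z * b⁻¹ = u :=
    fun u hu hu2 => g.invol_conj_in _ hA sigma_mem u hu hu2
  have ht : orderOf (σ * z * σ⁻¹) = 2 := (MulEquiv.orderOf_eq (MulAut.conj σ) z).trans g.z_order
  have hzt : Commute z (σ * z * σ⁻¹) := by
    have e : σ * z * σ⁻¹ = E [7, 7] := by
      calc σ * z * σ⁻¹ = (σ * a * σ⁻¹) * (σ * a * σ⁻¹) := by rw [← g.a2]; group
        _ = E [7, 7] := by rw [g.sa]; simp [ev, lett]
    rw [e]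
    exact (g.commute_z (show Small [7, 7] by decide)).symm
  have hr : orderOf r = 3 := orderOf_eq_prime g.r3 fun e => by
    refine g.small_ev_ne (L := [4]) (M := []) (by decide) (by decide) (by decide +kernel) ?_
    simp [ev, lett, e]
  have hrC : r ∈ Cfsg.pElementClosure 2 (centralizer ({z} : Set G)) := by
    have two : ∀ L : List ℕ, Small L → runH (List.replicate 8 L).flatten = one0 →
        E L ∈ Cfsg.pElementClosure 2 (centralizer ({z} : Set G)) := by
      intro L hL h
      refine subset_closure ⟨g.ev_small hL, ?_⟩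
      have hsm : Small (List.replicate 8 L).flatten := fun i hi => by
        obtain ⟨w, hw, hiw⟩ := List.mem_flatten.1 hi
        exact hL i (List.eq_of_mem_replicate hw ▸ hiw)
      have e := (g.eq_one_iff hsm).2 h
      have h8 : E L ^ 8 = 1 := by
        rw [← e]
        simp only [List.replicate, List.flatten_cons, List.flatten_nil, List.append_nil, ev_append]
        simp only [pow_succ, pow_zero, one_mul, mul_assoc]
      obtain ⟨k, -, hk⟩ := (Nat.dvd_prime_pow Nat.prime_two).1
        (show orderOf (E L) ∣ 2 ^ 3 from orderOf_dvd_of_pow_eq_one h8)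
      exact ⟨k, hk⟩
    have e : r = E [7] * E [8, 4] := by simp [ev, lett]
    rw [e]
    exact mul_mem (two [7] (by decide) r_check.1) (two [8, 4] (by decide) r_check.2)
  exact ⟨eq_top _ g.z_order ht hzt g.moved hA hconj hr hrC hcore,
    involutions_conj _ g.z_order ht hzt g.moved hA hconj hr hrC hcore⟩

end Gens

/-- Projective unitary groups over fields with nine elements. -/
noncomputable def modEquiv {K : Type} [Field K] [Fintype K] (hK : Fintype.card K = 9) :
    Mod ≃* Cfsg.PSU 4 K 3 :=
  let f := CfsgLib.Chevalley.G2Two.suCongr (FiniteField.ringEquivOfCardEq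
    (CfsgLib.Chevalley.G2Two.F9.card_F9.trans hK.symm)) 4 3
  QuotientGroup.congr (Subgroup.center _) (Subgroup.center _) f
    (Subgroup.ext fun x => by
      simp only [Subgroup.mem_map, Subgroup.mem_center_iff]
      refine ⟨?_, fun h => ⟨f.symm x, fun g => f.injective ?_, f.apply_symm_apply x⟩⟩
      · rintro ⟨y, hy, rfl⟩ g
        obtain ⟨g, rfl⟩ := f.surjective g
        exact (map_mul f g y).symm.trans ((congrArg f (hy g)).trans (map_mul f y g))
      · rw [map_mul, map_mul, f.apply_symm_apply]; exact h (f g))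

/-- A group of `U₄(3)` type is the model and has one class of involutions. -/
theorem recognition {G : Type*} [Group G] [Finite G] {z : G} {Q₁ Q₂ K₁ K₂ Q : Subgroup G}
    (h : Hyp z Q₁ Q₂ K₁ K₂ Q) :
    Nonempty (Mod ≃* G) ∧ ∀ i j : G, orderOf i = 2 → orderOf j = 2 → IsConj i j := by
  obtain ⟨a, c, r, x, d, σ, g⟩ := exists_gens h
  obtain ⟨f, hf, hrange⟩ := g.exists_hom
  obtain ⟨htop, hall⟩ := g.span_eq_top h.oddCore
  exact ⟨⟨MulEquiv.ofBijective f ⟨hf, MonoidHom.range_eq_top.1 (hrange.trans htop)⟩⟩, hall⟩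

end CfsgLib.Recognition.UFourThree
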