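import Mathlib

/-!
# Elements of order `3` in `PGL(2, F)`

All of them are conjugate, so any of them commutes with an involution if one of them does.
-/

set_option autoImplicit false

namespace CfsgLib.Recognition.UFourThree

open Matrix
open scoped MatrixGroups

variable {F : Type*} [Field F]

local notation "Mat" => Matrix (Fin 2) (Fin 2) F

/-- An element of order `3` of `PGL₂` lifts to an element of determinant `1` and cube `1`. -/
theorem exists_lift_three (a : PGL(2, F)) (ha : a ^ 3 = 1) :
    ∃ h : GL (Fin 2) F, ProjGenLinGroup.mk h = a ∧ (h : Mat).det = 1 ∧ (h : Mat) ^ 3 = 1 := by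
  induction a using ProjGenLinGroup.induction_on with
  | mk g =>
    rw [← map_pow, ProjGenLinGroup.mk_eq_one, GeneralLinearGroup.center_eq_range_scalar] at ha
    obtain ⟨l, hl⟩ := ha
    have hl' : (g : Mat) ^ 3 = (l : F) • (1 : Mat) := by
      have := congrArg (fun u : GL (Fin 2) F => (u : Mat)) hl
      simp only [Units.val_pow_eq_pow_val] at this
      rw [← this, smul_one_eq_diagonal]
      rfl
    set d : F := (g : Mat).det with hd
    have hd0 : d ≠ 0 := by
      rw [hd]; exact (Matrix.isUnit_iff_isUnit_det _).mp g.isUnit |>.ne_zero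
    have hdl : d ^ 3 = (l : F) ^ 2 := by
      rw [hd, ← det_pow, hl', det_smul, det_one, mul_one, Fintype.card_fin]
    let m : Fˣ := Units.mk0 (d / (l : F)) (div_ne_zero hd0 l.ne_zero)
    refine ⟨g * GeneralLinearGroup.scalar (Fin 2) m, ?_, ?_, ?_⟩
    · rw [map_mul, ProjGenLinGroup.mk_scalar, mul_one]
    · have he : ((g * GeneralLinearGroup.scalar (Fin 2) m : GL (Fin 2) F) : Mat)
          = (d / (l : F)) • (g : Mat) := by
        rw [Units.val_mul]
        change (g : Mat) * Matrix.scalar (Fin 2) (d / (l : F)) = _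
        rw [Matrix.scalar_apply, ← smul_one_eq_diagonal, mul_smul_comm, mul_one]
      rw [he, det_smul, Fintype.card_fin, ← hd]
      field_simp
      linear_combination hdl
    · have he : ((g * GeneralLinearGroup.scalar (Fin 2) m : GL (Fin 2) F) : Mat)
          = (d / (l : F)) • (g : Mat) := by
        rw [Units.val_mul]
        change (g : Mat) * Matrix.scalar (Fin 2) (d / (l : F)) = _
        rw [Matrix.scalar_apply, ← smul_one_eq_diagonal, mul_smul_comm, mul_one]
      rw [he, smul_pow, hl', smul_smul]
      convert one_smul F (1 : Mat) using 2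
      field_simp
      linear_combination hdl

/-- A non-scalar matrix of determinant `1` and cube `1` has trace `-1`. -/
theorem trace_eq_neg_one {M : Mat} (hd : M.det = 1) (h3 : M ^ 3 = 1)
    (hns : ¬ (M 1 0 = 0 ∧ M 0 1 = 0 ∧ M 0 0 = M 1 1)) : M.trace = -1 := by
  have h3' : M * M * M = 1 := by rw [← h3, pow_three, mul_assoc]
  have e : ∀ i j, (M * M * M) i j = (1 : Mat) i j := fun i j => by rw [h3']
  have e00 := e 0 0
  have e01 := e 0 1
  have e10 := e 1 0
  have e11 := e 1 1
  simp only [Matrix.mul_apply, Fin.sum_univ_two, Matrix.one_apply_eq,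
    Matrix.one_apply_ne (show (0 : Fin 2) ≠ 1 by decide),
    Matrix.one_apply_ne (show (1 : Fin 2) ≠ 0 by decide)] at e00 e01 e10 e11
  rw [det_fin_two] at hd
  rw [trace_fin_two]
  set a := M 0 0
  set b := M 0 1
  set c := M 1 0
  set d := M 1 1
  have t2 : (a + d) ^ 2 - 1 = 0 := by
    by_contra hne
    apply hns
    refine ⟨?_, ?_, ?_⟩
    · apply (mul_right_inj' hne).1
      linear_combination e10 + c * hd
    · apply (mul_right_inj' hne).1
      linear_combination e01 + b * hd
    · apply (mul_right_inj' hne).1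
      linear_combination e00 - e11 + (a - d) * hd
  linear_combination (-1 : F) * e00 + a * t2 - (2 * a + d) * hd

/-- A non-scalar matrix of determinant `1` is conjugate to a companion matrix. -/
theorem exists_companion {M : Mat} (hd : M.det = 1)
    (hns : ¬ (M 1 0 = 0 ∧ M 0 1 = 0 ∧ M 0 0 = M 1 1)) :
    ∃ P : GL (Fin 2) F, M * (P : Mat) = (P : Mat) * !![0, -1; 1, M.trace] := by
  have mk : ∀ P : Mat, P.det ≠ 0 → M * P = P * !![0, -1; 1, M.trace] →
      ∃ Q : GL (Fin 2) F, M * (Q : Mat) = (Q : Mat) * !![0, -1; 1, M.trace] := fun P h e =>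
    ⟨GeneralLinearGroup.mkOfDetNeZero P h, e⟩
  rw [det_fin_two] at hd
  by_cases hc : M 1 0 = 0
  · by_cases hb : M 0 1 = 0
    · refine mk !![1, M 0 0; 1, M 1 1] ?_ ?_
      · rw [det_fin_two_of]
        intro h
        exact hns ⟨hc, hb, by linear_combination -h⟩
      · rw [eta_fin_two M, trace_fin_two]
        ext i j
        fin_cases i <;> fin_cases j <;> simp [Matrix.mul_apply, Fin.sum_univ_two, hc, hb] <;>
          (rw [hc, hb] at hd; first | linear_combination (-1 : F) * hd | linear_combination hd)
    · refine mk !![0, M 0 1; 1, M 1 1] ?_ ?_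
      · rw [det_fin_two_of]
        intro h
        exact hb (by linear_combination -h)
      · rw [eta_fin_two M, trace_fin_two]
        ext i j
        fin_cases i <;> fin_cases j <;> simp [Matrix.mul_apply, Fin.sum_univ_two, hc] <;>
          first | (rw [hc] at hd; linear_combination hd) | (rw [hc] at hd; linear_combination (-1 : F) * hd) | ring
  · refine mk !![1, M 0 0; 0, M 1 0] ?_ ?_
    · rw [det_fin_two_of]
      intro h
      exact hc (by linear_combination h)
    · rw [eta_fin_two M, trace_fin_two]
      ext i j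
      fin_cases i <;> fin_cases j <;> simp [Matrix.mul_apply, Fin.sum_univ_two] <;>
        first | linear_combination (-1 : F) * hd | ring

/-- All elements of order `3` of `PGL₂` are conjugate. -/
theorem pgl_isConj_of_three {a b : PGL(2, F)} (ha : orderOf a = 3) (hb : orderOf b = 3) :
    IsConj a b := by
  have key : ∀ a : PGL(2, F), orderOf a = 3 → ∃ (h P : GL (Fin 2) F),
      ProjGenLinGroup.mk h = a ∧ (h : Mat) * (P : Mat) = (P : Mat) * !![0, -1; 1, -1] := by
    intro a ha
    obtain ⟨h, hm, hd, h3⟩ := exists_lift_three a (ha ▸ pow_orderOf_eq_one a)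
    have hns : ¬ ((h : Mat) 1 0 = 0 ∧ (h : Mat) 0 1 = 0 ∧ (h : Mat) 0 0 = (h : Mat) 1 1) := by
      rintro ⟨h10, h01, h00⟩
      have hu : (h : Mat) 0 0 ≠ 0 := fun e => by
        rw [det_fin_two, h01, e] at hd
        simp at hd
      have : h = GeneralLinearGroup.scalar (Fin 2) (Units.mk0 _ hu) := by
        apply Units.ext
        change (h : Mat) = Matrix.scalar (Fin 2) ((h : Mat) 0 0)
        ext i j
        fin_cases i <;> fin_cases j <;> simp [Matrix.scalar_apply, h10, h01, h00]
      rw [← hm, this, ProjGenLinGroup.mk_scalar, orderOf_one] at ha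
      omega
    obtain ⟨P, hP⟩ := exists_companion hd hns
    rw [trace_eq_neg_one hd h3 hns] at hP
    exact ⟨h, P, hm, hP⟩
  obtain ⟨h, P, rfl, hP⟩ := key a ha
  obtain ⟨k, R, rfl, hR⟩ := key b hb
  have e : (R * P⁻¹) * h = k * (R * P⁻¹) := by
    apply Units.ext
    simp only [Units.val_mul]
    have h1 : ((P⁻¹ : GL (Fin 2) F) : Mat) * (h : Mat)
        = !![0, -1; 1, -1] * ((P⁻¹ : GL (Fin 2) F) : Mat) := by
      calc ((P⁻¹ : GL (Fin 2) F) : Mat) * (h : Mat)
          = ((P⁻¹ : GL (Fin 2) F) : Mat) * ((h : Mat) * (P : Mat)) * ((P⁻¹ : GL (Fin 2) F) : Mat) := by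
            rw [mul_assoc, mul_assoc, Units.mul_inv, mul_one]
        _ = !![0, -1; 1, -1] * ((P⁻¹ : GL (Fin 2) F) : Mat) := by
            rw [hP, ← mul_assoc ((P⁻¹ : GL (Fin 2) F) : Mat), Units.inv_mul, one_mul]
    rw [mul_assoc, h1, ← mul_assoc, ← hR, mul_assoc]
  refine isConj_iff.2 ⟨ProjGenLinGroup.mk (R * P⁻¹), ?_⟩
  rw [← map_inv, ← map_mul, ← map_mul, e, mul_inv_cancel_right]

/-- Conjugation in `GL₂` preserves the image of `PSL₂` in `PGL₂`. -/
theorem toPGL_range_normal :
    (ProjectiveSpecialLinearGroup.toPGL (n := Fin 2) (R := F)).range.Normal := by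
  refine ⟨fun x hx g => ?_⟩
  obtain ⟨s, rfl⟩ := hx
  induction s using QuotientGroup.induction_on with
  | H s =>
    induction g using ProjGenLinGroup.induction_on with
    | mk g =>
      have hdet : ((g * SpecialLinearGroup.toGL s * g⁻¹ : GL (Fin 2) F) : Mat).det = 1 := by
        rw [Units.val_mul, Units.val_mul, det_mul_right_comm, Units.mul_inv, one_mul]
        exact s.2
      let u : SpecialLinearGroup (Fin 2) F := ⟨_, hdet⟩
      refine ⟨QuotientGroup.mk u, ?_⟩
      rw [ProjectiveSpecialLinearGroup.toPGL_mk, ProjectiveSpecialLinearGroup.toPGL_mk,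
        ← map_inv, ← map_mul, ← map_mul]
      congr 1
      exact Units.ext rfl

/-- In a group embedded in `PGL₂` as a normal subgroup, whether an element of order `3` commutes
with an involution does not depend on the element. -/
theorem exists_involution_commute {K : Type*} [Group K] (f : K →* PGL(2, F))
    (hf : Function.Injective f) (hn : f.range.Normal) {a b j : K} (ha : orderOf a = 3)
    (hb : orderOf b = 3) (hj : orderOf j = 2) (hja : Commute j a) :
    ∃ i : K, orderOf i = 2 ∧ Commute i b := by
  obtain ⟨g, hg⟩ := isConj_iff.1 (pgl_isConj_of_three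
    (a := f a) (b := f b) (by rw [orderOf_injective f hf, ha]) (by rw [orderOf_injective f hf, hb]))
  obtain ⟨i, hi⟩ := hn.conj_mem (f j) ⟨j, rfl⟩ g
  refine ⟨i, ?_, hf ?_⟩
  · rw [← orderOf_injective f hf, hi]
    exact (orderOf_injective (MulAut.conj g).toMonoidHom (MulAut.conj g).injective (f j)).trans
      ((orderOf_injective f hf j).trans hj)
  · rw [map_mul, map_mul, hi, ← hg]
    exact ((hja.map f).map (MulAut.conj g).toMonoidHom).eq

end CfsgLib.Recognition.UFourThree
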