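import Cfsg.Agent.S3322
import Cfsg.Agent.Lib.Coprime.Generation
import Cfsg.Agent.Lib.Solvable.Cores
import Cfsg.Agent.Lib.Coprime.OneClassInvolutions
import Cfsg.Agent.Lib.Recognition.UFourThree.PGLThree

/-!
# A group with a four group fused by an element of order `3`

The situation met in `C(y)/⟨y⟩` for an element `y` of order `3` of a group of type `U₄(3)`:
involution centralisers are D-groups of order `12`.
-/

set_option autoImplicit false

namespace CfsgLib.Recognition.UFourThree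

open Subgroup

variable {Q : Type*} [Group Q]

private theorem not_two_dvd {n : ℕ} (hn : Odd n) (hd : 2 ∣ n) : False := by
  rcases hn with ⟨k, rfl⟩; omega

/-- Two commuting involutions `z`, `w` permuted by `t`, with `C(z)` of order `12` having the
cyclic subgroup `⟨x * z⟩` of order `6` outside which all elements square to `1`. -/
structure FourCfg (z w t x x2 : Q) : Prop where
  hz2 : z * z = 1
  hz1 : z ≠ 1
  hw2 : w * w = 1
  hw1 : w ≠ 1
  hzw : z ≠ w
  hcomm : z * w = w * z
  ht3 : t ^ 3 = 1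
  htz : t * z * t⁻¹ = w
  htw : t * w * t⁻¹ = z * w
  hx : orderOf x = 3
  hxz : Commute x z
  hx2 : x2 ^ 3 = 1
  hx2w : Commute x2 w
  hcard : Nat.card (centralizer ({z} : Set Q)) = 12
  hout : ∀ g : Q, Commute g z → g ∉ zpowers (x * z) → g ^ 2 = 1
  hno : ∀ i : Q, orderOf i = 2 → ¬ Commute i t

namespace FourCfg

variable {z w t x x2 : Q} (h : FourCfg z w t x x2)

include h

/-- The four group. -/
def V : Subgroup Q where
  carrier := {a | a = 1 ∨ a = z ∨ a = w ∨ a = z * w}
  one_mem' := Or.inl rfl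
  mul_mem' := by
    have hz := h.hz2
    have hw := h.hw2
    have hc := h.hcomm
    have e1 : z * (z * w) = w := by rw [← mul_assoc, hz, one_mul]
    have e2 : w * (z * w) = z := by rw [hc, ← mul_assoc, hw, one_mul]
    have e3 : z * w * z = w := by rw [mul_assoc, ← hc, e1]
    have e4 : z * w * w = z := by rw [mul_assoc, hw, mul_one]
    have e5 : z * w * (z * w) = 1 := by rw [mul_assoc, e2, hz]
    rintro a b (rfl | rfl | rfl | rfl) (rfl | rfl | rfl | rfl) <;>
      simp only [Set.mem_setOf_eq, one_mul, mul_one, hz, hw, e1, e2, e3, e4, e5, ← hc] <;>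
      tauto
  inv_mem' := by
    rintro a (rfl | rfl | rfl | rfl)
    · exact Or.inl inv_one
    · exact Or.inr (Or.inl (inv_eq_of_mul_eq_one_right h.hz2))
    · exact Or.inr (Or.inr (Or.inl (inv_eq_of_mul_eq_one_right h.hw2)))
    · refine Or.inr (Or.inr (Or.inr ?_))
      rw [_root_.mul_inv_rev, inv_eq_of_mul_eq_one_right h.hz2, inv_eq_of_mul_eq_one_right h.hw2,
        h.hcomm]

theorem mem_V {a : Q} : a ∈ h.V ↔ a = 1 ∨ a = z ∨ a = w ∨ a = z * w := Iff.rfl

theorem z_mem : z ∈ h.V := Or.inr (Or.inl rfl)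

theorem w_mem : w ∈ h.V := Or.inr (Or.inr (Or.inl rfl))

theorem sq_eq_one {a : Q} (ha : a ∈ h.V) : a * a = 1 := by
  rcases h.mem_V.1 ha with rfl | rfl | rfl | rfl
  · exact one_mul 1
  · exact h.hz2
  · exact h.hw2
  · have e : w * (z * w) = z := by rw [h.hcomm, ← mul_assoc, h.hw2, one_mul]
    rw [mul_assoc, e, h.hz2]

theorem V_comm {a b : Q} (ha : a ∈ h.V) (hb : b ∈ h.V) : a * b = b * a := by
  have hab := h.sq_eq_one (mul_mem ha hb)
  have := inv_eq_of_mul_eq_one_right hab
  rw [_root_.mul_inv_rev, inv_eq_of_mul_eq_one_right (h.sq_eq_one ha),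
    inv_eq_of_mul_eq_one_right (h.sq_eq_one hb)] at this
  exact this.symm

theorem card_V : Nat.card h.V = 4 := by
  change Nat.card ({a | a = 1 ∨ a = z ∨ a = w ∨ a = z * w} : Set Q) = 4
  have e : ({a | a = 1 ∨ a = z ∨ a = w ∨ a = z * w} : Set Q) = {1, z, w, z * w} := by
    ext a; simp
  rw [Nat.card_congr (Equiv.setCongr e), Nat.card_coe_set_eq]
  have h1 : z * w ≠ 1 := fun e => h.hzw
    ((inv_eq_of_mul_eq_one_right h.hz2).symm.trans (inv_eq_of_mul_eq_one_right e))
  have h2 : z * w ≠ z := fun e => h.hw1 (mul_eq_left.1 e)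
  have h3 : z * w ≠ w := fun e => h.hz1 (mul_eq_right.1 e)
  rw [Set.ncard_insert_of_notMem (by simp [h.hz1.symm, h.hw1.symm, h1.symm]),
    Set.ncard_insert_of_notMem (by simp [h.hzw, h2.symm]),
    Set.ncard_insert_of_notMem (by simp [h3.symm]), Set.ncard_singleton]

theorem isMulCommutative_V : IsMulCommutative h.V :=
  ⟨⟨fun a b => Subtype.ext (h.V_comm a.2 b.2)⟩⟩

theorem not_isCyclic_V : ¬ IsCyclic h.V := by
  intro hc
  have h1 : Monoid.exponent h.V ∣ 2 := by
    refine Monoid.exponent_dvd_of_forall_pow_eq_one fun a => Subtype.ext ?_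
    rw [Subgroup.coe_pow, pow_two, Subgroup.coe_one]
    exact h.sq_eq_one a.2
  rw [IsCyclic.exponent_eq_card, h.card_V] at h1
  omega

theorem t_conj_V {a : Q} (ha : a ∈ h.V) : t * a * t⁻¹ ∈ h.V := by
  rcases h.mem_V.1 ha with rfl | rfl | rfl | rfl
  · rw [mul_one, mul_inv_cancel]; exact one_mem _
  · rw [h.htz]; exact h.w_mem
  · rw [h.htw]; exact mul_mem h.z_mem h.w_mem
  · rw [show t * (z * w) * t⁻¹ = (t * z * t⁻¹) * (t * w * t⁻¹) by group, h.htz, h.htw]
    exact mul_mem h.w_mem (mul_mem h.z_mem h.w_mem)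

/-- Every non-trivial element of the four group is a conjugate of `z`. -/
theorem exists_conj_eq {a : Q} (ha : a ∈ h.V) (ha1 : a ≠ 1) : ∃ s : Q, a = s * z * s⁻¹ := by
  rcases h.mem_V.1 ha with e | e | e | e
  · exact absurd e ha1
  · exact ⟨1, by rw [e]; group⟩
  · exact ⟨t, by rw [e, h.htz]⟩
  · refine ⟨t * t, ?_⟩
    rw [e, show t * t * z * (t * t)⁻¹ = t * (t * z * t⁻¹) * t⁻¹ by group, h.htz, h.htw]

/-- A subgroup of the four group invariant under `t` is trivial or everything. -/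
theorem V_le_of_conj {S : Subgroup Q} (hS : ∀ a ∈ S, t * a * t⁻¹ ∈ S) {a : Q} (ha : a ∈ h.V)
    (ha1 : a ≠ 1) (haS : a ∈ S) : h.V ≤ S := by
  have hzw : z ∈ S ∧ w ∈ S := by
    rcases h.mem_V.1 ha with e | e | e | e
    · exact absurd e ha1
    · exact ⟨e ▸ haS, h.htz ▸ hS _ (e ▸ haS)⟩
    · have hw : w ∈ S := e ▸ haS
      have := mul_mem (h.htw ▸ hS _ hw : z * w ∈ S) hw
      rw [mul_assoc, h.hw2, mul_one] at this
      exact ⟨this, hw⟩
    · have hzw : z * w ∈ S := e ▸ haS
      have hz : z ∈ S := by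
        have := hS _ hzw
        rw [show t * (z * w) * t⁻¹ = (t * z * t⁻¹) * (t * w * t⁻¹) by group, h.htz, h.htw,
          h.hcomm, ← mul_assoc, h.hw2, one_mul] at this
        exact this
      exact ⟨hz, h.htz ▸ hS _ hz⟩
  intro b hb
  rcases h.mem_V.1 hb with rfl | rfl | rfl | rfl
  exacts [one_mem _, hzw.1, hzw.2, mul_mem hzw.1 hzw.2]

theorem orderOf_z : orderOf z = 2 :=
  orderOf_eq_prime (by rw [pow_two, h.hz2]) h.hz1

theorem orderOf_xz : orderOf (x * z) = 6 := by
  rw [h.hxz.orderOf_mul_eq_mul_orderOf_of_coprime (by rw [h.hx, h.orderOf_z]; norm_num),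
    h.hx, h.orderOf_z]

/-- An element of `C(z)` with trivial cube is a power of `x`. -/
theorem mem_zpowers_x {g : Q} (hg : Commute g z) (h3 : g ^ 3 = 1) : g ∈ zpowers x := by
  by_cases hgA : g ∈ zpowers (x * z)
  · obtain ⟨k, rfl⟩ := mem_zpowers_iff.1 hgA
    rw [← zpow_natCast, ← zpow_mul, ← orderOf_dvd_iff_zpow_eq_one, h.orderOf_xz] at h3
    obtain ⟨m, rfl⟩ : (2 : ℤ) ∣ k := by omega
    refine mem_zpowers_iff.2 ⟨2 * m, ?_⟩
    rw [h.hxz.mul_zpow, zpow_mul z 2 m]
    rw [show z ^ (2 : ℤ) = 1 by rw [zpow_two]; exact h.hz2, one_zpow, mul_one]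
  · have h2 := h.hout g hg hgA
    have : g = 1 := by
      rw [pow_succ, h2, one_mul] at h3
      exact h3
    rw [this]; exact one_mem _

theorem card_centralizer_conj (s : Q) :
    Nat.card (centralizer ({s * z * s⁻¹} : Set Q)) = 12 := by
  rw [← h.hcard]
  refine (Nat.card_congr ((MulAut.conj s).toEquiv.subtypeEquiv fun a => ?_)).symm
  rw [mem_centralizer_singleton_iff, mem_centralizer_singleton_iff]
  change _ ↔ s * a * s⁻¹ * (s * z * s⁻¹) = s * z * s⁻¹ * (s * a * s⁻¹)
  simp only [mul_assoc, inv_mul_cancel_left, mul_right_inj]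
  simp only [← mul_assoc, mul_left_inj]

variable [Finite Q]

/-- The four group is a Sylow `2`-subgroup. -/
theorem eq_V_of_le {P : Subgroup Q} (hP : IsPGroup 2 P) (hle : h.V ≤ P) : P = h.V := by
  haveI : Fact (Nat.Prime 2) := ⟨Nat.prime_two⟩
  have h4 : ∀ (S : Subgroup Q) (s : Q), IsPGroup 2 S →
      S ≤ centralizer ({s * z * s⁻¹} : Set Q) → Nat.card S ≤ 4 := by
    intro S s hS hle
    obtain ⟨n, hn⟩ := hS.exists_card_eq
    have hd := card_dvd_of_le hle
    rw [h.card_centralizer_conj s, hn] at hd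
    rw [hn]
    rcases n with _ | _ | _ | n
    · norm_num
    · norm_num
    · norm_num
    · exfalso
      have : (8 : ℕ) ∣ 12 := (Dvd.intro_left (2 ^ n) (by ring)).trans hd
      omega
  haveI : Nontrivial P := nontrivial_iff_ne_bot P |>.2 fun e =>
    h.hz1 (mem_bot.1 (e ▸ hle h.z_mem))
  haveI := hP.center_nontrivial
  obtain ⟨n, hn, hcn⟩ := (hP.to_subgroup (center P)).nontrivial_iff_card.1 inferInstance
  obtain ⟨c, hc2⟩ := exists_prime_orderOf_dvd_card' (G := center P) 2
    (hcn ▸ dvd_pow_self 2 (Nat.pos_iff_ne_zero.1 hn))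
  set c' : Q := ((c : P) : Q) with hc'
  have hc'2 : orderOf c' = 2 := by rw [hc', Subgroup.orderOf_coe, Subgroup.orderOf_coe, hc2]
  have hcc : ∀ p ∈ P, p * c' = c' * p := fun p hp =>
    congrArg Subtype.val (Subgroup.mem_center_iff.1 c.2 ⟨p, hp⟩)
  set S := P ⊓ centralizer ({z} : Set Q) with hS
  have hVS : h.V ≤ S := le_inf hle fun a ha => mem_centralizer_singleton_iff.2 (h.V_comm ha h.z_mem)
  have hSV : S = h.V := by
    refine (eq_of_le_of_card_ge hVS ?_).symm
    rw [h.card_V]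
    refine h4 S 1 (hP.to_le inf_le_left) ?_
    rw [one_mul, inv_one, mul_one]
    exact inf_le_right
  have hcV : c' ∈ h.V := hSV ▸
    mem_inf.2 ⟨(c : P).2, mem_centralizer_singleton_iff.2 (hcc z (hle h.z_mem)).symm⟩
  obtain ⟨s, hs⟩ := h.exists_conj_eq hcV fun e => by rw [e, orderOf_one] at hc'2; omega
  refine (eq_of_le_of_card_ge hle ?_).symm
  rw [h.card_V]
  exact h4 P s hP fun p hp => mem_centralizer_singleton_iff.2 (hs ▸ hcc p hp)

/-- The four group as a Sylow `2`-subgroup. -/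
theorem exists_sylow : ∃ S : Sylow 2 Q, (S : Subgroup Q) = h.V := by
  haveI : Fact (Nat.Prime 2) := ⟨Nat.prime_two⟩
  obtain ⟨S, hS⟩ := (IsPGroup.of_card (p := 2) (G := h.V) (n := 2) (h.card_V.trans (by norm_num))).exists_le_sylow
  exact ⟨S, h.eq_V_of_le S.isPGroup' hS⟩

variable {N : Subgroup Q}

theorem pow_three_of_mem (hN : N.Normal) (hodd : Odd (Nat.card N)) {g : Q} (hg : g ∈ N) {s : Q}
    (hgs : Commute g (s * z * s⁻¹)) :
    s⁻¹ * g * s ∈ zpowers x ∧ g ^ 3 = 1 := by
  set g' := s⁻¹ * g * s with hg'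
  have hg'N : g' ∈ N := by simpa [hg'] using hN.conj_mem g hg s⁻¹
  have hg'z : Commute g' z := by
    show g' * z = z * g'
    calc g' * z = s⁻¹ * (g * (s * z * s⁻¹)) * s := by rw [hg']; group
      _ = s⁻¹ * ((s * z * s⁻¹) * g) * s := by rw [hgs.eq]
      _ = z * g' := by rw [hg']; group
  have h1 : orderOf g' ∣ Nat.card N := Subgroup.orderOf_dvd_natCard N hg'N
  have h12 : orderOf g' ∣ 12 :=
    h.hcard ▸ Subgroup.orderOf_dvd_natCard _ (mem_centralizer_singleton_iff.2 hg'z.eq)
  have hoddg : Odd (orderOf g') := hodd.of_dvd_nat h1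
  have h3 : orderOf g' ∣ 3 := by
    have hco : (orderOf g').Coprime 4 := by
      rw [show (4 : ℕ) = 2 ^ 2 by norm_num]
      exact (Nat.coprime_two_right.2 hoddg).pow_right 2
    exact hco.dvd_of_dvd_mul_left (show orderOf g' ∣ 4 * 3 from h12)
  have hg'3 : g' ^ 3 = 1 := orderOf_dvd_iff_pow_eq_one.1 h3
  refine ⟨h.mem_zpowers_x hg'z hg'3, ?_⟩
  have e : g = s * g' * s⁻¹ := by rw [hg']; group
  rw [e, ← MulAut.conj_apply, ← map_pow, hg'3, map_one]

/-- The coprime generation of a subgroup invariant under the four group. -/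
theorem exists_centralized {K : Subgroup Q} (hK : h.V ≤ normalizer (K : Set Q))
    (hodd : Odd (Nat.card K)) (hK1 : K ≠ ⊥) :
    ∃ (s g : Q), g ≠ 1 ∧ g ∈ K ∧ Commute g (s * z * s⁻¹) := by
  haveI := h.isMulCommutative_V
  have hcop : (Nat.card h.V).Coprime (Nat.card K) := by
    rw [h.card_V, show (4 : ℕ) = 2 ^ 2 by norm_num]
    exact (Nat.coprime_two_left.2 hodd).pow_left 2
  have hgen := CfsgLib.Coprime.iSup_centralizer_singleton h.not_isCyclic_V hK hcop
  by_contra hcon
  push Not at hcon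
  apply hK1
  rw [← hgen, eq_bot_iff]
  refine iSup₂_le fun a ha g hg => ?_
  obtain ⟨s, rfl⟩ := h.exists_conj_eq ha.1 ha.2
  by_contra hg1
  exact hcon s g (fun e => hg1 (mem_bot.2 e)) hg.1 (mem_centralizer_singleton_iff.1 hg.2)

/-- A normal subgroup of odd order containing `x` forces `x` and `x2` to commute. -/
theorem commute_of_mem (hN : N.Normal) (hodd : Odd (Nat.card N)) (hxN : x ∈ N) :
    Commute x x2 := by
  have hx2N : x2 ∈ N := by
    have hcz : Commute (t⁻¹ * x2 * t) z := by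
      have e : z = t⁻¹ * w * t := by rw [← h.htz]; group
      show (t⁻¹ * x2 * t) * z = z * (t⁻¹ * x2 * t)
      rw [e]
      calc (t⁻¹ * x2 * t) * (t⁻¹ * w * t) = t⁻¹ * (x2 * w) * t := by group
        _ = t⁻¹ * (w * x2) * t := by rw [h.hx2w.eq]
        _ = _ := by group
    have h3 : (t⁻¹ * x2 * t) ^ 3 = 1 := by
      have := conj_pow (i := 3) (a := t⁻¹) (b := x2)
      rw [inv_inv] at this
      rw [this, h.hx2, mul_one, inv_mul_cancel]
    have hm := zpowers_le.2 hxN (h.mem_zpowers_x hcz h3)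
    have := hN.conj_mem _ hm t
    rwa [show t * (t⁻¹ * x2 * t) * t⁻¹ = x2 by group] at this
  have hVnorm : ∀ K : Subgroup Q, K.Normal → h.V ≤ normalizer (K : Set Q) := fun K hK => by
    rw [Subgroup.normalizer_eq_top_iff.mpr hK]; exact le_top
  have hN1 : Nat.card N ≠ 1 := fun e => by
    have : x = 1 := by
      rw [Subgroup.card_eq_one] at e
      exact mem_bot.1 (e ▸ hxN)
    have := h.hx
    rw [‹x = 1›, orderOf_one] at this
    omega
  have hN3 : IsPGroup 3 N := by
    refine IsPGroup.iff_card.2 ⟨_, Nat.eq_prime_pow_of_unique_prime_dvd Nat.card_pos.ne'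
      fun {p} hp hpd => ?_⟩
    haveI := Fact.mk hp
    haveI := h.isMulCommutative_V
    have hcop : (Nat.card h.V).Coprime (Nat.card N) := by
      rw [h.card_V, show (4 : ℕ) = 2 ^ 2 by norm_num]
      exact (Nat.coprime_two_left.2 hodd).pow_left 2
    obtain ⟨P, hP⟩ := CfsgLib.Coprime.exists_invariant_sylow (hVnorm N hN) hcop
      (.inl (Group.isSolvable_of_comm fun a b => mul_comm' a b)) p
    set PX := (P : Subgroup N).map N.subtype with hPX
    have hPN : PX ≤ N := map_subtype_le _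
    have hPodd : Odd (Nat.card PX) := hodd.of_dvd_nat (card_dvd_of_le hPN)
    have hP1 : PX ≠ ⊥ := fun e => by
      rw [hPX, map_eq_bot_iff_of_injective _ N.subtype_injective] at e
      exact P.ne_bot_of_dvd_card hpd e
    obtain ⟨s, g, hg1, hgP, hgs⟩ := h.exists_centralized hP hPodd hP1
    have hg3 : orderOf g = 3 :=
      orderOf_eq_prime (h.pow_three_of_mem hN hodd (hPN hgP) hgs).2 hg1
    obtain ⟨k, hk⟩ := IsPGroup.iff_orderOf.1 (P.isPGroup'.map N.subtype) ⟨g, hgP⟩
    rw [Subgroup.orderOf_mk, hg3] at hk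
    exact ((Nat.prime_dvd_prime_iff_eq Nat.prime_three hp).1
      (Nat.Prime.dvd_of_dvd_pow Nat.prime_three (dvd_of_eq hk))).symm
  haveI : Fact (Nat.Prime 3) := ⟨Nat.prime_three⟩
  haveI : Nontrivial N := Finite.one_lt_card_iff_nontrivial.1 (by
    have := Nat.card_pos (α := N); omega)
  haveI := hN3.center_nontrivial
  set Z := (center N).map N.subtype with hZ
  have hZN : Z ≤ N := map_subtype_le _
  have hZn : Z.Normal := inferInstance
  have hZ1 : Z ≠ ⊥ := by
    rw [hZ, Ne, map_eq_bot_iff_of_injective _ N.subtype_injective]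
    exact nontrivial_iff_ne_bot _ |>.1 inferInstance
  obtain ⟨s, g, hg1, hgZ, hgs⟩ := h.exists_centralized (hVnorm Z hZn)
    (hodd.of_dvd_nat (card_dvd_of_le hZN)) hZ1
  obtain ⟨hgx, hg3⟩ := h.pow_three_of_mem hN hodd (hZN hgZ) hgs
  obtain ⟨k, hk⟩ := mem_zpowers_iff.1 hgx
  have hgZ' : x ^ k ∈ Z := by
    rw [hk]; simpa using hZn.conj_mem g hgZ s⁻¹
  have hk3 : ¬ (3 : ℤ) ∣ k := fun hd => by
    apply hg1
    have h1 : x ^ k = 1 := orderOf_dvd_iff_zpow_eq_one.1 (by rw [h.hx]; exact_mod_cast hd)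
    rw [h1] at hk
    have : g = s * (s⁻¹ * g * s) * s⁻¹ := by group
    rw [this, ← hk]; group
  have hxZ : x ∈ Z := by
    have hx3 : x ^ (3 : ℤ) = 1 := by
      rw [show (3 : ℤ) = ((3 : ℕ) : ℤ) from rfl, zpow_natCast, ← h.hx, pow_orderOf_eq_one]
    rcases (show k % 3 = 1 ∨ k % 3 = 2 by omega) with e | e
    · have e2 : x ^ k = x := by
        conv_lhs => rw [← Int.emod_add_mul_ediv k 3, e]
        rw [zpow_add, zpow_mul, hx3, one_zpow, mul_one, zpow_one]
      exact e2 ▸ hgZ'
    · have e2 : x ^ k * x ^ k = x := by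
        rw [← zpow_add, show k + k = 1 + 3 * (2 * (k / 3) + 1) by omega, zpow_add, zpow_mul, hx3,
          one_zpow, mul_one, zpow_one]
      exact e2 ▸ mul_mem hgZ' hgZ'
  obtain ⟨c, hc, hcx⟩ := hxZ
  have hcc := congrArg Subtype.val (Subgroup.mem_center_iff.1 hc ⟨x2, hx2N⟩)
  rw [Subgroup.coe_mul, Subgroup.coe_mul] at hcc
  rw [← hcx]
  exact hcc.symm

/-- In the solvable case `x` lies in the odd core. -/
theorem mem_oddCore [Group.IsSolvable Q] : x ∈ Cfsg.pPrimeCore 2 Q := by
  haveI : Fact (Nat.Prime 2) := ⟨Nat.prime_two⟩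
  set O := Cfsg.pPrimeCore 2 Q with hO
  set π := QuotientGroup.mk' O with hπ
  have hOodd : Odd (Nat.card O) :=
    Nat.coprime_two_right.1 (CfsgLib.Solvable.Cores.coprime_card_pPrimeCore 2)
  have hX : Cfsg.pPrimeCore 2 (Q ⧸ O) = ⊥ :=
    CfsgLib.Coprime.OneClassInvolutions.pPrimeCore_quotient_self
  have hC := CfsgLib.Solvable.Cores.centralizer_fittingSubgroup_le (G := Q ⧸ O)
  rw [CfsgLib.Solvable.Cores.fittingSubgroup_eq_pCore 2 hX] at hC
  set P := Cfsg.pCore 2 (Q ⧸ O) with hP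
  have hVinj : ∀ a ∈ h.V, π a = 1 → a = 1 := by
    intro a ha e
    rw [hπ, QuotientGroup.mk'_apply, QuotientGroup.eq_one_iff] at e
    by_contra ha1
    have h2 : orderOf a = 2 := orderOf_eq_prime (by rw [pow_two]; exact h.sq_eq_one ha) ha1
    exact not_two_dvd hOodd (h2 ▸ Subgroup.orderOf_dvd_natCard O e)
  obtain ⟨S, hS⟩ := h.exists_sylow
  let S' : Sylow 2 (Q ⧸ O) := S.mapSurjective (QuotientGroup.mk'_surjective O)
  have hPV : P ≤ h.V.map π := by
    have := CfsgLib.Solvable.Cores.pCore_le_sylow S'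
    rwa [show (S' : Subgroup (Q ⧸ O)) = h.V.map π by rw [← hS]; rfl] at this
  have hP1 : P ≠ ⊥ := fun e => by
    rw [e] at hC
    refine h.hz1 (hVinj z h.z_mem (mem_bot.1 (hC ?_)))
    exact mem_centralizer_iff.2 fun y hy => by rw [mem_bot.1 hy, one_mul, mul_one]
  haveI : P.Normal := inferInstance
  have hVP : ∀ a ∈ h.V, π a ∈ P := by
    obtain ⟨b, hb, hb1⟩ := P.bot_or_exists_ne_one.resolve_left hP1
    obtain ⟨a, ha, rfl⟩ := hPV hb
    have : h.V ≤ P.comap π := h.V_le_of_conj (fun c hc => by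
      rw [mem_comap, map_mul, map_mul, map_inv]
      exact (inferInstance : P.Normal).conj_mem _ hc _) ha
      (fun e => hb1 (by rw [e, map_one])) hb
    exact this
  set X := π x with hXdef
  set Z := π z with hZdef
  set W := π w with hWdef
  have hXZ : X * Z = Z * X := by rw [hXdef, hZdef, ← map_mul, ← map_mul, h.hxz.eq]
  have hWX : X * W = W * X := by
    have hmem : X * W * X⁻¹ ∈ P := (inferInstance : P.Normal).conj_mem _ (hVP w h.w_mem) _
    obtain ⟨a, ha, hea⟩ := hPV hmem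
    have hXZ' : X * Z * X⁻¹ = Z := by rw [hXZ, mul_inv_cancel_right]
    rcases h.mem_V.1 ha with ea | ea | ea | ea <;> rw [ea] at hea
    · rw [map_one] at hea
      exact absurd (hVinj w h.w_mem (conj_eq_one_iff.1 hea.symm)) h.hw1
    · exfalso
      rw [← hZdef, ← hXZ'] at hea
      have e := mul_left_cancel (mul_right_cancel hea)
      have : π (z * w) = 1 := by
        rw [map_mul, ← hWdef, ← e, hZdef, ← map_mul, h.hz2, map_one]
      exact h.hzw ((inv_eq_of_mul_eq_one_right h.hz2).symm.trans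
        (inv_eq_of_mul_eq_one_right (hVinj _ (mul_mem h.z_mem h.w_mem) this)))
    · rw [eq_mul_inv_iff_mul_eq] at hea
      exact hea.symm
    · rw [map_mul, ← hZdef, ← hWdef] at hea
      have hX3 : X * X * X = 1 := by
        rw [hXdef, ← map_mul, ← map_mul, ← pow_three', ← h.hx, pow_orderOf_eq_one, map_one]
      have e2 : X * X * W * (X * X)⁻¹ = W := by
        rw [show X * X * W * (X * X)⁻¹ = X * (X * W * X⁻¹) * X⁻¹ by group, ← hea,
          show X * (Z * W) * X⁻¹ = (X * Z * X⁻¹) * (X * W * X⁻¹) by group, hXZ', ← hea,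
          ← mul_assoc, hZdef, ← map_mul, h.hz2, map_one, one_mul]
      have c2 : Commute (X * X) W := mul_inv_eq_iff_eq_mul.1 e2
      have e4 : X * X * (X * X) = X := by rw [← mul_assoc, hX3, one_mul]
      exact (e4 ▸ c2.mul_left c2).eq
  have hXP : X ∈ P := by
    refine hC (mem_centralizer_iff.2 fun b hb => ?_)
    obtain ⟨a, ha, rfl⟩ := hPV hb
    rcases h.mem_V.1 ha with ea | ea | ea | ea <;> rw [ea]
    · rw [map_one, one_mul, mul_one]
    · exact hXZ.symm
    · exact hWX.symm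
    · rw [map_mul, ← hZdef, ← hWdef, mul_assoc, ← hWX, ← mul_assoc, ← hXZ, mul_assoc]
  obtain ⟨a, ha, hea⟩ := hPV hXP
  have hX2 : X * X = 1 := by
    rw [← hea, ← map_mul, h.sq_eq_one ha, map_one]
  have hX1 : X = 1 := by
    have hX3 : X * X * X = 1 := by
      rw [hXdef, ← map_mul, ← map_mul, ← pow_three', ← h.hx, pow_orderOf_eq_one, map_one]
    rwa [hX2, one_mul] at hX3
  rwa [hXdef, hπ, QuotientGroup.mk'_apply, QuotientGroup.eq_one_iff] at hX1

/-- The non-solvable case. -/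
theorem commute_of_not_solvable (hns : ¬ Group.IsSolvable Q) : Commute x x2 := by
  haveI : Fact (Nat.Prime 2) := ⟨Nat.prime_two⟩
  set H := centralizer ({z} : Set Q) with hH
  set A := zpowers (x * z) with hA
  have hAle : A ≤ H := zpowers_le.2 (mem_centralizer_singleton_iff.2
    (h.hxz.mul_left (Commute.refl z)).eq)
  have hAH : A < H := lt_of_le_of_ne hAle fun e => by
    have := Nat.card_zpowers (x * z)
    rw [← hA, e, hH, h.hcard, h.orderOf_xz] at this
    omega
  have hD : ∀ g ∈ H, g ∉ A → g ^ 2 = 1 := fun g hg =>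
    h.hout g (mem_centralizer_singleton_iff.1 hg)
  have hx1 : x ^ 2 ≠ 1 := fun e => by
    have := orderOf_dvd_of_pow_eq_one e
    rw [h.hx] at this
    omega
  have hC : ∀ j ∈ H, orderOf j = 2 → (∀ g ∈ H, g * j = j * g) →
      centralizer ({j} : Set Q) = H := by
    intro j hj hj2 hcen
    by_cases hjA : j ∈ A
    · obtain ⟨k, rfl⟩ := mem_zpowers_iff.1 hjA
      have h6 : (6 : ℤ) ∣ k * 2 := by
        have := pow_orderOf_eq_one ((x * z) ^ k)
        rw [hj2, ← zpow_natCast, ← zpow_mul, ← orderOf_dvd_iff_zpow_eq_one, h.orderOf_xz] at this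
        exact_mod_cast this
      obtain ⟨m, rfl⟩ : (3 : ℤ) ∣ k := by omega
      have e : (x * z) ^ (3 * m) = z ^ (3 * m) := by
        rw [h.hxz.mul_zpow, zpow_mul x 3 m,
          show x ^ (3 : ℤ) = 1 by
            rw [show (3 : ℤ) = ((3 : ℕ) : ℤ) from rfl, zpow_natCast, ← h.hx, pow_orderOf_eq_one],
          one_zpow, one_mul]
      rw [e] at hj2 ⊢
      rcases Int.even_or_odd (3 * m) with ⟨n, hn⟩ | ⟨n, hn⟩
      · exfalso
        rw [hn, ← two_mul, zpow_mul, show z ^ (2 : ℤ) = 1 by rw [zpow_two]; exact h.hz2,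
          one_zpow, orderOf_one] at hj2
        omega
      · rw [hn, zpow_add, zpow_mul, show z ^ (2 : ℤ) = 1 by rw [zpow_two]; exact h.hz2,
          one_zpow, one_mul, zpow_one]
    · exfalso
      have hxA : x ∈ A := by
        refine mem_zpowers_iff.2 ⟨4, ?_⟩
        rw [h.hxz.mul_zpow, show z ^ (4 : ℤ) = 1 by
          rw [show (4 : ℤ) = 2 * 2 by norm_num, zpow_mul,
            show z ^ (2 : ℤ) = 1 by rw [zpow_two]; exact h.hz2, one_zpow], mul_one,
          show (4 : ℤ) = 3 + 1 by norm_num, zpow_add, zpow_one,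
          show x ^ (3 : ℤ) = 1 by
            rw [show (3 : ℤ) = ((3 : ℕ) : ℤ) from rfl, zpow_natCast, ← h.hx, pow_orderOf_eq_one],
          one_mul]
      have hjx := hD (j * x) (mul_mem hj (hAle hxA)) fun hm =>
        hjA (by simpa using mul_mem hm (inv_mem hxA))
      have hjx' : Commute j x := (hcen x (hAle hxA)).symm
      rw [hjx'.mul_pow, ← hj2, pow_orderOf_eq_one, one_mul, hj2] at hjx
      exact hx1 hjx
  obtain ⟨N, hN, hNcard, F, hF, hFf, -, hiso⟩ :=
    Cfsg.Agent.S3322.result H A hAH hD (by rw [hH, h.hcard]; norm_num) hC hns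
  haveI := hN
  have hodd : Odd (Nat.card N) := by
    rcases hNcard with ho | ⟨m, hm, hm2⟩
    · exact ho
    exfalso
    obtain ⟨S, hS⟩ := h.exists_sylow
    have hc := CfsgLib.Coprime.card_sylow_inf_normal S N
    have hf : (Nat.card N).factorization 2 = 1 := by
      rw [hm2, Nat.factorization_mul two_ne_zero (fun e => by rw [e] at hm; exact Nat.not_odd_zero hm),
        Finsupp.add_apply, Nat.prime_two.factorization_self,
        Nat.factorization_eq_zero_of_not_dvd (fun hd => not_two_dvd hm hd)]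
    rw [hS, hf, pow_one] at hc
    have hne : h.V ⊓ N ≠ ⊥ := fun e => by rw [e, Subgroup.card_bot] at hc; omega
    obtain ⟨a, ha, ha1⟩ := (h.V ⊓ N).bot_or_exists_ne_one.resolve_left hne
    have hle : h.V ≤ h.V ⊓ N := h.V_le_of_conj (fun c hc' =>
      ⟨h.t_conj_V hc'.1, hN.conj_mem _ hc'.2 _⟩) ha.1 ha1 ha
    have := Subgroup.card_le_of_le hle
    rw [hc, h.card_V] at this
    omega
  by_cases hxN : x ∈ N
  · exact h.commute_of_mem hN hodd hxN
  exfalso
  have hN1 : N = ⊥ := by
    by_contra hne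
    obtain ⟨s, g, hg1, hgN, hgs⟩ := h.exists_centralized
      (by rw [Subgroup.normalizer_eq_top_iff.mpr hN]; exact le_top) hodd hne
    obtain ⟨hgx, -⟩ := h.pow_three_of_mem hN hodd hgN hgs
    apply hxN
    obtain ⟨k, hk⟩ := mem_zpowers_iff.1 hgx
    have hgN' : x ^ k ∈ N := by rw [hk]; simpa using hN.conj_mem g hgN s⁻¹
    have hk3 : ¬ (3 : ℤ) ∣ k := fun hd => by
      apply hg1
      have h1 : x ^ k = 1 := orderOf_dvd_iff_zpow_eq_one.1 (by rw [h.hx]; exact_mod_cast hd)
      rw [h1] at hk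
      have : g = s * (s⁻¹ * g * s) * s⁻¹ := by group
      rw [this, ← hk]; group
    have hx3 : x ^ (3 : ℤ) = 1 := by
      rw [show (3 : ℤ) = ((3 : ℕ) : ℤ) from rfl, zpow_natCast, ← h.hx, pow_orderOf_eq_one]
    rcases (show k % 3 = 1 ∨ k % 3 = 2 by omega) with e | e
    · have e2 : x ^ k = x := by
        rw [show k = 1 + 3 * (k / 3) by omega, zpow_add, zpow_mul, hx3, one_zpow, mul_one, zpow_one]
      exact e2 ▸ hgN'
    · have e2 : x ^ k * x ^ k = x := by
        rw [← zpow_add, show k + k = 1 + 3 * (2 * (k / 3) + 1) by omega, zpow_add, zpow_mul, hx3,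
          one_zpow, mul_one, zpow_one]
      exact e2 ▸ mul_mem hgN' hgN'
  let e₀ : Q ≃* Q ⧸ N := ((QuotientGroup.quotientMulEquivOfEq hN1).trans
    QuotientGroup.quotientBot).symm
  have ht : orderOf t = 3 := by
    refine orderOf_eq_prime h.ht3 fun e => h.hzw ?_
    have := h.htz
    rw [e, one_mul, inv_one, mul_one] at this
    exact this
  obtain ⟨i, hi, hit⟩ : ∃ i : Q, orderOf i = 2 ∧ Commute i t := by
    rcases hiso with ⟨⟨e⟩⟩ | ⟨⟨e⟩⟩
    · exact exists_involution_commute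
        (Matrix.ProjectiveSpecialLinearGroup.toPGL.comp (e₀.trans e).toMonoidHom)
        (Matrix.ProjectiveSpecialLinearGroup.toPGL_injective.comp (e₀.trans e).injective)
        (by
          rw [MonoidHom.range_comp, MonoidHom.range_eq_top.2 (e₀.trans e).surjective,
            ← MonoidHom.range_eq_map]
          exact toPGL_range_normal)
        h.hx ht h.orderOf_z h.hxz.symm
    · exact exists_involution_commute (e₀.trans e).toMonoidHom (e₀.trans e).injective
        (by rw [MonoidHom.range_eq_top.2 (e₀.trans e).surjective]; infer_instance)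
        h.hx ht h.orderOf_z h.hxz.symm
  exact h.hno i hi hit

/-- The conclusion. -/
theorem commute : Commute x x2 := by
  by_cases hs : Group.IsSolvable Q
  · haveI := hs
    exact h.commute_of_mem inferInstance
      (Nat.coprime_two_right.1 (CfsgLib.Solvable.Cores.coprime_card_pPrimeCore 2)) h.mem_oddCore
  · exact h.commute_of_not_solvable hs

end FourCfg

end CfsgLib.Recognition.UFourThree
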