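import Cfsg.Agent.Lib.Recognition.UFourThree.Basics

/-!
# The fused involution and the element of order three
-/

set_option autoImplicit false

namespace CfsgLib.Recognition.UFourThree

/-- An involution `t = a * b` of `Q` and an element `σ` of order three permuting `z, t, z * t`. -/
structure Seed {G : Type*} [Group G] (z : G) (Q₁ Q₂ Q : Subgroup G) (a b t σ : G) : Prop where
  a_mem : a ∈ Q₁
  a_sq : a * a = z
  b_mem : b ∈ Q₂
  b_sq : b * b = z
  t_eq : t = a * b
  sigma3 : σ ^ 3 = 1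
  sigma_z : σ * z * σ⁻¹ = t
  sigma_t : σ * t * σ⁻¹ = z * t
  inter : ∀ g ∈ Q, σ⁻¹ * g * σ ∈ Q → g = 1 ∨ g = z ∨ g = t ∨ g = z * t

end CfsgLib.Recognition.UFourThree
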