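import Cfsg.Agent.Lib.Recognition.UFourThree.SeedDef
import Cfsg.Agent.Lib.Recognition.UFourThree.Codes

/-!
# The shape of `C(z) ∩ C(t)`

With `e = c c'`, `d = σ a σ⁻¹`, `x = σ e σ⁻¹` the group `C(z) ∩ C(t)` is generated over `⟨z, t⟩` by
`a, e, d, x`; the commutators and the action of `σ` are forced.
-/

set_option autoImplicit false
set_option linter.unusedSectionVars false

namespace CfsgLib.Recognition.UFourThree

open Subgroup

section Four

variable {G : Type*} [Group G] (z t : G)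

/-- The element of the four-group with a code. -/
def xi (i : ℕ) : G := [1, z, t, z * t].getD i 1

/-- `g` and `k` commute up to the element with code `i`. -/
def Br (g k : G) (i : ℕ) : Prop := i < 4 ∧ g * k = xi z t i * (k * g)

/-- The square of `g` has code `i`. -/
def Sq (g : G) (i : ℕ) : Prop := i < 4 ∧ g * g = xi z t i

/-- The centraliser of the four-group. -/
def four : Subgroup G := centralizer ({z} : Set G) ⊓ centralizer ({t} : Set G)

variable {z t}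

theorem mem_four {g : G} : g ∈ four z t ↔ g * z = z * g ∧ g * t = t * g := by
  simp [four, Subgroup.mem_inf, mem_centralizer_singleton_iff]

theorem xi_zero : xi z t 0 = 1 := rfl
theorem xi_one : xi z t 1 = z := rfl
theorem xi_two : xi z t 2 = t := rfl
theorem xi_three : xi z t 3 = z * t := rfl

/-- The standing facts about the four-group. -/
structure Klein (z t : G) : Prop where
  z2 : z * z = 1
  t2 : t * t = 1
  comm : z * t = t * z
  z1 : z ≠ 1
  t1 : t ≠ 1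
  tz : t ≠ z

namespace Klein

variable (K : Klein z t)
include K

theorem xi_mul {i j : ℕ} (hi : i < 4) (hj : j < 4) : xi z t i * xi z t j = xi z t (i ^^^ j) := by
  have e1 : z * (z * t) = t := by rw [← mul_assoc, K.z2, one_mul]
  have e2 : t * (z * t) = z := by rw [K.comm, ← mul_assoc, K.t2, one_mul]
  have e3 : z * t * z = t := by rw [K.comm, mul_assoc, K.z2, mul_one]
  have e4 : z * t * t = z := by rw [mul_assoc, K.t2, mul_one]
  have e5 : z * t * (z * t) = 1 := by rw [mul_assoc, e2, K.z2]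
  interval_cases i <;> interval_cases j <;>
    simp [xi, K.z2, K.t2, e1, e2, e3, e4, e5, K.comm.symm]

theorem xi_sq {i : ℕ} (hi : i < 4) : xi z t i * xi z t i = 1 := by
  rw [K.xi_mul hi hi, Nat.xor_self, xi_zero]

theorem xi_inj {i j : ℕ} (hi : i < 4) (hj : j < 4) (h : xi z t i = xi z t j) : i = j := by
  refine (xor_lt4 i hi j hj).2.1 ?_
  have h2 : xi z t (i ^^^ j) = 1 := by rw [← K.xi_mul hi hj, h, K.xi_sq hj]
  have h3 := (xor_lt4 i hi j hj).1
  generalize i ^^^ j = m at h2 h3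
  interval_cases m
  · rfl
  · exact absurd h2 K.z1
  · exact absurd h2 K.t1
  · refine absurd (show z * (z * t) = z * 1 by rw [show z * t = 1 from h2]) ?_
    rw [← mul_assoc, K.z2, one_mul, mul_one]
    exact K.tz

theorem xi_mem {i : ℕ} (hi : i < 4) : xi z t i ∈ four z t := by
  have hz : z ∈ four z t := mem_four.2 ⟨rfl, K.comm⟩
  have ht : t ∈ four z t := mem_four.2 ⟨K.comm.symm, rfl⟩
  interval_cases i
  exacts [one_mem _, hz, ht, mul_mem hz ht]

omit K in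
theorem xi_comm {g : G} (hg : g ∈ four z t) {i : ℕ} (hi : i < 4) :
    g * xi z t i = xi z t i * g := by
  obtain ⟨h1, h2⟩ := mem_four.1 hg
  interval_cases i <;> simp only [xi, List.getD_cons_zero, List.getD_cons_succ, mul_one, one_mul]
  · exact h1
  · exact h2
  · rw [← mul_assoc, h1, mul_assoc, h2, mul_assoc]

omit K in
theorem br_self (g : G) : Br z t g g 0 := ⟨by norm_num, (one_mul _).symm⟩

omit K in
theorem br_one (g : G) : Br z t 1 g 0 := ⟨by norm_num, by simp [xi]⟩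

omit K in
theorem br_xi {g : G} (hg : g ∈ four z t) {i : ℕ} (hi : i < 4) : Br z t (xi z t i) g 0 :=
  ⟨by norm_num, by rw [xi_zero, one_mul, xi_comm hg hi]⟩

theorem br_symm {g k : G} {i : ℕ} (h : Br z t g k i) : Br z t k g i := by
  refine ⟨h.1, ?_⟩
  rw [h.2, ← mul_assoc, K.xi_sq h.1, one_mul]

theorem br_mul {g g' k : G} {i j : ℕ} (hg : g ∈ four z t) (h : Br z t g k i) (h' : Br z t g' k j) :
    Br z t (g * g') k (i ^^^ j) := by
  refine ⟨(xor_lt4 i h.1 j h'.1).1, ?_⟩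
  calc g * g' * k = g * xi z t j * (k * g') := by rw [mul_assoc, h'.2, ← mul_assoc]
    _ = xi z t j * (g * k) * g' := by rw [xi_comm hg h'.1]; group
    _ = xi z t j * xi z t i * (k * (g * g')) := by rw [h.2]; group
    _ = _ := by rw [K.xi_mul h'.1 h.1, Nat.xor_comm]

theorem br_unique {g k : G} {i j : ℕ} (h : Br z t g k i) (h' : Br z t g k j) : i = j :=
  K.xi_inj h.1 h'.1 (mul_right_cancel (h.2.symm.trans h'.2))

theorem br_pow {g k : G} {i : ℕ} (h : Br z t g k i) {n : ℕ} (hn : n < 2) :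
    Br z t (g ^ n) k (n * i) := by
  interval_cases n
  · simpa using br_one (z := z) (t := t) k
  · simpa using h

theorem sq_mul {g k : G} {i j l : ℕ} (hg : g ∈ four z t) (h : Sq z t g i) (h' : Sq z t k j)
    (hb : Br z t k g l) : Sq z t (g * k) (i ^^^ (l ^^^ j)) := by
  have hl := (xor_lt4 l hb.1 j h'.1).1
  refine ⟨(xor_lt4 i h.1 _ hl).1, ?_⟩
  calc g * k * (g * k) = g * (k * g) * k := by group
    _ = (g * xi z t l) * g * (k * k) := by rw [hb.2]; group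
    _ = xi z t l * (g * g) * (k * k) := by rw [xi_comm hg hb.1]; group
    _ = _ := by
      rw [h.2, h'.2, K.xi_mul hb.1 h.1, K.xi_mul (xor_lt4 l hb.1 i h.1).1 h'.1]
      congr 1
      rw [← Nat.xor_assoc i l j, Nat.xor_comm l i]

theorem sq_pow {g : G} {i : ℕ} (h : Sq z t g i) {n : ℕ} (hn : n < 2) : Sq z t (g ^ n) (n * i) := by
  interval_cases n
  · exact ⟨by norm_num, by simp [xi]⟩
  · simpa using h

theorem sq_xi {g : G} {i m : ℕ} (hg : g ∈ four z t) (h : Sq z t g i) (hm : m < 4) :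
    Sq z t (g * xi z t m) i := by
  have h2 := K.sq_mul hg h (show Sq z t (xi z t m) 0 from ⟨by norm_num, by rw [K.xi_sq hm, xi_zero]⟩)
    (br_xi hg hm)
  simpa using h2

theorem br_xi_right {g k : G} {i m : ℕ} (hg : g ∈ four z t) (h : Br z t g k i) (hm : m < 4) :
    Br z t g (k * xi z t m) i := by
  refine ⟨h.1, ?_⟩
  rw [← mul_assoc, h.2, mul_assoc, mul_assoc, mul_assoc, xi_comm hg hm]

/-- Products of powers below two. -/
theorem pow_bits {g : G} {i : ℕ} (h : Sq z t g i) {n m : ℕ} (hn : n < 2) (hm : m < 2) :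
    g ^ n * g ^ m = xi z t (n * m * i) * g ^ (n ^^^ m) := by
  interval_cases n <;> interval_cases m <;> simp [xi_zero, h.2]

end Klein

end Four

/-- The choices made so far. -/
structure Pre {G : Type*} [Group G] (z : G) (Q₁ Q₂ Q : Subgroup G) (a b t σ c c' : G) : Prop
    extends Seed z Q₁ Q₂ Q a b t σ where
  c_mem : c ∈ Q₁
  c_sq : c * c = z
  a_c : a * c ≠ c * a
  c'_mem : c' ∈ Q₂
  c'_sq : c' * c' = z
  b_c' : b * c' ≠ c' * b

/-- The element with four bits in the generators `a`, `e`, `d`, `x`. -/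
def nf {G : Type*} [Group G] (a e d x : G) (p : ℕ) : G :=
  a ^ bit4 p 0 * (e ^ bit4 p 1 * (d ^ bit4 p 2 * x ^ bit4 p 3))

theorem sq_identity : ∀ k₁ < 4, ∀ k₂ < 4, ∀ k₃ < 4, ∀ k₄ < 4, ∀ p < 16,
    bit4 p 0 * 1 ^^^ ((bit4 p 1 * (bit4 p 0 * 1) ^^^
      (bit4 p 2 * (bit4 p 0 * k₁) ^^^ bit4 p 3 * (bit4 p 0 * k₂))) ^^^
        (bit4 p 1 * 0 ^^^ ((bit4 p 2 * (bit4 p 1 * k₃) ^^^ bit4 p 3 * (bit4 p 1 * k₄)) ^^^
          (bit4 p 2 * 2 ^^^ (bit4 p 3 * (bit4 p 2 * 2) ^^^ bit4 p 3 * 0))))) =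
      sqCode k₁ k₂ k₃ k₄ p := by decide +kernel

theorem bit_xor : ∀ p < 16, ∀ q < 16, p ^^^ q < 16 ∧ ∀ i < 4,
    bit4 (p ^^^ q) i = bit4 p i ^^^ bit4 q i := by decide +kernel

theorem bit_ext : ∀ p < 16, p = bit4 p 0 + 2 * bit4 p 1 + 4 * bit4 p 2 + 8 * bit4 p 3 := by
  decide +kernel

theorem im_lt : ∀ f < 16, ∀ g < 16, ∀ p < 16, imCode f g p < 16 := by decide +kernel

theorem im_gen : ∀ f < 16, ∀ g < 16, imCode f g 1 = 4 ∧ imCode f g 2 = 8 ∧ imCode f g 4 = f ∧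
    imCode f g 8 = g := by decide +kernel

theorem gen_br : ∀ k₁ < 4, ∀ k₂ < 4, ∀ k₃ < 4, ∀ k₄ < 4, ∀ i < 4, ∀ j < 4,
    brCode k₁ k₂ k₃ k₄ (2 ^ i) (2 ^ j) = genCode k₁ k₂ k₃ k₄ i j := by decide +kernel

theorem bit4_lt (p i : ℕ) : bit4 p i < 2 := Nat.mod_lt _ (by norm_num)

namespace Pre

variable {G : Type*} [Group G] [Finite G] {z : G} {Q₁ Q₂ K₁ K₂ Q : Subgroup G} {a b t σ c c' : G}
  (h : Hyp z Q₁ Q₂ K₁ K₂ Q) (S : Pre z Q₁ Q₂ Q a b t σ c c')
include h S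

theorem klein : Klein z t := by
  have hab : a * b = b * a := h.comm₁₂ S.a_mem S.b_mem
  have hne : ∀ v : G, (v = 1 ∨ v = z) → t ≠ v := by
    intro v hv e
    have hb : b = a⁻¹ * v := by rw [← e, S.t_eq]; group
    have hb1 : b ∈ Q₁ := by
      rw [hb]
      refine mul_mem (inv_mem S.a_mem) ?_
      rcases hv with rfl | rfl
      exacts [one_mem _, h.p₁.z_mem]
    rcases h.inter_Q hb1 S.b_mem with e' | e'
    · exact h.z_ne (by rw [← S.b_sq, e', one_mul])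
    · exact h.z_ne (by rw [← S.b_sq, e', h.z_sq])
  refine ⟨h.z_sq, ?_, ?_, h.z_ne, hne 1 (Or.inl rfl), hne z (Or.inr rfl)⟩
  · rw [h.sq_eq t S.a_mem S.b_mem S.t_eq, S.a_sq, S.b_sq, h.z_sq]
  · rw [S.t_eq, ← mul_assoc, ← h.mem_C₁ S.a_mem, mul_assoc, ← h.mem_C₂ S.b_mem, mul_assoc]

theorem xi_rot {i : ℕ} (hi : i < 4) : σ * xi z t i * σ⁻¹ = xi z t (rotCode i) := by
  have h3 : σ * (z * t) * σ⁻¹ = z := by
    calc σ * (z * t) * σ⁻¹ = (σ * z * σ⁻¹) * (σ * t * σ⁻¹) := by group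
      _ = z := by rw [S.sigma_z, S.sigma_t, (klein h S).comm, ← mul_assoc, (klein h S).t2, one_mul]
  interval_cases i <;> simp [xi, rotCode, S.sigma_z, S.sigma_t, h3]

theorem a_four : a ∈ four z t := mem_four.2 ⟨h.mem_C₁ S.a_mem, by
  rw [S.t_eq, mul_assoc, ← h.comm₁₂ S.a_mem S.b_mem]⟩

theorem flip₁ : a * c = z * (c * a) ∧ c * a = z * (a * c) := by
  have h1 := (h.p₁.flip a S.a_mem S.a_sq c S.c_mem S.c_sq S.a_c).2
  have e : c⁻¹ = z * c := by
    refine inv_eq_of_mul_eq_one_right ?_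
    rw [← mul_assoc, h.mem_C₁ S.c_mem, mul_assoc, S.c_sq, h.z_sq]
  rw [mul_inv_eq_iff_eq_mul, e, mul_assoc] at h1
  exact ⟨h1, by rw [h1, ← mul_assoc, h.z_sq, one_mul]⟩

theorem flip₂ : b * c' = z * (c' * b) ∧ c' * b = z * (b * c') := by
  have h1 := (h.p₂.flip b S.b_mem S.b_sq c' S.c'_mem S.c'_sq S.b_c').2
  have e : c'⁻¹ = z * c' := by
    refine inv_eq_of_mul_eq_one_right ?_
    rw [← mul_assoc, h.mem_C₂ S.c'_mem, mul_assoc, S.c'_sq, h.z_sq]
  rw [mul_inv_eq_iff_eq_mul, e, mul_assoc] at h1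
  exact ⟨h1, by rw [h1, ← mul_assoc, h.z_sq, one_mul]⟩

theorem e_four : c * c' ∈ four z t := by
  refine mem_four.2 ⟨mem_centralizer_singleton_iff.1 (h.Q_le ((h.mem_Q _).2 ⟨c, S.c_mem, c', S.c'_mem, rfl⟩)), ?_⟩
  rw [S.t_eq]
  calc c * c' * (a * b) = (c * a) * (c' * b) := by
        rw [mul_assoc, ← mul_assoc c', ← h.comm₁₂ S.a_mem S.c'_mem]; group
    _ = z * (a * c) * (z * (b * c')) := by rw [(flip₁ h S).2, (flip₂ h S).2]
    _ = (z * z) * ((a * c) * (b * c')) := by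
        rw [mul_assoc, ← mul_assoc (a * c) z, h.mem_C₁ (mul_mem S.a_mem S.c_mem)]; group
    _ = a * b * (c * c') := by
        rw [h.z_sq, one_mul, mul_assoc, ← mul_assoc c, h.comm₁₂ S.c_mem S.b_mem]; group

theorem br_ae : Br z t a (c * c') 1 := by
  refine ⟨by norm_num, ?_⟩
  rw [xi_one, ← mul_assoc, (flip₁ h S).1, mul_assoc, mul_assoc, h.comm₁₂ S.a_mem S.c'_mem]
  group

theorem e_sq : c * c' * (c * c') = 1 := by
  rw [h.sq_eq _ S.c_mem S.c'_mem rfl, S.c_sq, S.c'_sq, h.z_sq]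

theorem sigma_inv_z : σ⁻¹ * z * σ = z * t := by
  have h3 := xi_rot h S (i := 3) (by norm_num)
  simp only [xi, rotCode, List.getD_cons_zero, List.getD_cons_succ] at h3
  calc σ⁻¹ * z * σ = σ⁻¹ * (σ * (z * t) * σ⁻¹) * σ := by rw [h3]
    _ = z * t := by group

theorem conj_four {g : G} (hg : g ∈ four z t) : σ * g * σ⁻¹ ∈ four z t := by
  refine mem_four.2 ⟨?_, ?_⟩
  · calc σ * g * σ⁻¹ * z = σ * (g * (σ⁻¹ * z * σ)) * σ⁻¹ := by group
      _ = σ * ((σ⁻¹ * z * σ) * g) * σ⁻¹ := by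
          rw [sigma_inv_z h S, show z * t = xi z t 3 from rfl, Klein.xi_comm hg (by norm_num)]
      _ = z * (σ * g * σ⁻¹) := by group
  · calc σ * g * σ⁻¹ * t = σ * (g * z) * σ⁻¹ := by rw [← S.sigma_z]; group
      _ = σ * (z * g) * σ⁻¹ := by rw [(mem_four.1 hg).1]
      _ = t * (σ * g * σ⁻¹) := by rw [← S.sigma_z]; group

theorem br_conj {g k : G} {i : ℕ} (hb : Br z t g k i) :
    Br z t (σ * g * σ⁻¹) (σ * k * σ⁻¹) (rotCode i) := by
  refine ⟨(xor_lt4 i hb.1 i hb.1).2.2, ?_⟩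
  calc σ * g * σ⁻¹ * (σ * k * σ⁻¹) = σ * (g * k) * σ⁻¹ := by group
    _ = (σ * xi z t i * σ⁻¹) * (σ * k * σ⁻¹ * (σ * g * σ⁻¹)) := by rw [hb.2]; group
    _ = _ := by rw [xi_rot h S hb.1]

/-- Membership of `Q ∩ σ Q σ⁻¹` in coded form. -/
theorem exists_xi {g : G} (hg : g ∈ Q) (hg' : σ⁻¹ * g * σ ∈ Q) : ∃ i < 4, g = xi z t i := by
  rcases S.inter g hg hg' with e | e | e | e
  exacts [⟨0, by norm_num, e⟩, ⟨1, by norm_num, e⟩, ⟨2, by norm_num, e⟩, ⟨3, by norm_num, e⟩]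

theorem exists_br {g k : G} (hg : g ∈ Q) (hgP : g ∈ four z t) (hk : σ⁻¹ * k * σ ∈ Q)
    (hkP : k ∈ four z t) : ∃ i, Br z t g k i := by
  have hkC : k ∈ centralizer ({z} : Set G) := mem_centralizer_singleton_iff.2 (mem_four.1 hkP).1
  have h1 : g * k * g⁻¹ * k⁻¹ ∈ Q := by
    have := mul_mem hg (h.norm k hkC g⁻¹ (inv_mem hg))
    simpa [mul_assoc] using this
  have hgC : σ⁻¹ * g * σ ∈ centralizer ({z} : Set G) := by
    refine mem_centralizer_singleton_iff.2 ?_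
    calc σ⁻¹ * g * σ * z = σ⁻¹ * (g * (σ * z * σ⁻¹)) * σ := by group
      _ = σ⁻¹ * ((σ * z * σ⁻¹) * g) * σ := by rw [S.sigma_z, (mem_four.1 hgP).2]
      _ = z * (σ⁻¹ * g * σ) := by group
  have h2 : σ⁻¹ * (g * k * g⁻¹ * k⁻¹) * σ ∈ Q := by
    have := mul_mem (h.norm _ hgC _ hk) (inv_mem hk)
    simpa [mul_assoc] using this
  obtain ⟨i, hi, e⟩ := exists_xi h S h1 h2
  exact ⟨i, hi, by rw [← e]; group⟩

/-- The commutator codes. -/
theorem exists_codes : ∃ k₁ k₂ k₃ k₄ : ℕ,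
    Br z t a (σ * a * σ⁻¹) k₁ ∧ Br z t a (σ * (c * c') * σ⁻¹) k₂ ∧
      Br z t (c * c') (σ * a * σ⁻¹) k₃ ∧ Br z t (c * c') (σ * (c * c') * σ⁻¹) k₄ := by
  have eQ : c * c' ∈ Q := (h.mem_Q _).2 ⟨c, S.c_mem, c', S.c'_mem, rfl⟩
  have hinv : ∀ g : G, σ⁻¹ * (σ * g * σ⁻¹) * σ = g := fun g => by group
  obtain ⟨k₁, h1⟩ := exists_br h S (h.left_mem_Q S.a_mem) (a_four h S)
    (by rw [hinv]; exact h.left_mem_Q S.a_mem) (conj_four h S (a_four h S))
  obtain ⟨k₂, h2⟩ := exists_br h S (h.left_mem_Q S.a_mem) (a_four h S)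
    (by rw [hinv]; exact eQ) (conj_four h S (e_four h S))
  obtain ⟨k₃, h3⟩ := exists_br h S eQ (e_four h S)
    (by rw [hinv]; exact h.left_mem_Q S.a_mem) (conj_four h S (a_four h S))
  obtain ⟨k₄, h4⟩ := exists_br h S eQ (e_four h S)
    (by rw [hinv]; exact eQ) (conj_four h S (e_four h S))
  exact ⟨k₁, k₂, k₃, k₄, h1, h2, h3, h4⟩

end Pre

end CfsgLib.Recognition.UFourThree
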