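import Cfsg.Agent.Lib.Recognition.UFourThree.ShapeMain

/-!
# Classes modulo the four-group; faithfulness on `Q`
-/

set_option autoImplicit false
set_option linter.unusedSectionVars false
set_option linter.style.haveILetI false
set_option linter.unnecessarySeqFocus false

namespace CfsgLib.Recognition.UFourThree

open Subgroup

namespace Pre

variable {G : Type*} [Group G] [Finite G] {z : G} {Q₁ Q₂ K₁ K₂ Q : Subgroup G} {a b t σ c c' : G}
  (h : Hyp z Q₁ Q₂ K₁ K₂ Q) (S : Pre z Q₁ Q₂ Q a b t σ c c')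
include h S

local notation "ee" => (c * c')
local notation "dd" => (σ * a * σ⁻¹)
local notation "xx" => (σ * (c * c') * σ⁻¹)

variable {k₁ k₂ k₃ k₄ : ℕ} (H1 : Br z t a (σ * a * σ⁻¹) k₁) (H2 : Br z t a (σ * (c * c') * σ⁻¹) k₂)
  (H3 : Br z t (c * c') (σ * a * σ⁻¹) k₃) (H4 : Br z t (c * c') (σ * (c * c') * σ⁻¹) k₄)
include H1 H2 H3 H4

/-- Every element of `C(z) ∩ C(t)` has coordinates. -/
theorem exists_nf (hP : Nat.card (four z t) = 64) {g : G} (hg : g ∈ four z t) :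
    ∃ p < 16, ∃ i < 4, g = nf a ee dd xx p * xi z t i := by
  have K := klein h S
  let F : Fin 16 × Fin 4 → four z t := fun q =>
    ⟨nf a ee dd xx q.1 * xi z t q.2, mul_mem (nf_mem h S _) (K.xi_mem q.2.2)⟩
  have hF : Function.Injective F := fun q r e => by
    obtain ⟨e1, e2⟩ := nf_unique h S H1 H2 H3 H4 q.1.2 r.1.2 q.2.2 r.2.2 (congrArg Subtype.val e)
    exact Prod.ext (Fin.ext e1) (Fin.ext e2)
  haveI : Fintype (four z t) := Fintype.ofFinite _
  have hb : Function.Bijective F := (Fintype.bijective_iff_injective_and_card F).2 ⟨hF, by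
    rw [← Nat.card_eq_fintype_card (α := four z t), hP]; simp⟩
  obtain ⟨q, hq⟩ := hb.2 ⟨g, hg⟩
  exact ⟨q.1, q.1.2, q.2, q.2.2, (congrArg Subtype.val hq).symm⟩

/-- Moving a power to the left past a tail. -/
theorem swap_pow {g r r' w : G} {n m i l j : ℕ} (hg : g ∈ four z t) (hwm : w ∈ four z t)
    (hs : Sq z t g i) (hn : n < 2) (hm : m < 2) (hb : Br z t r g l) (hj : j < 4)
    (hw : r * r' = w * xi z t j) :
    ∃ v < 4, g ^ n * r * (g ^ m * r') = g ^ (n ^^^ m) * w * xi z t v := by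
  have K := klein h S
  have hb' := K.br_symm (K.br_pow (K.br_symm hb) hm)
  have h1 := hb'.1
  have h2 : n * m * i < 4 := by
    have := hs.1
    interval_cases n <;> interval_cases m <;> simp <;> omega
  have h3 := (xor_lt4 _ h1 _ h2).1
  refine ⟨_, (xor_lt4 _ h3 j hj).1, ?_⟩
  rw [← K.xi_mul h3 hj, ← K.xi_mul h1 h2]
  calc g ^ n * r * (g ^ m * r') = g ^ n * (r * g ^ m) * r' := by group
    _ = (g ^ n * xi z t (m * l)) * g ^ m * (r * r') := by rw [hb'.2]; group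
    _ = xi z t (m * l) * (g ^ n * g ^ m) * (w * xi z t j) := by
        rw [Klein.xi_comm (pow_mem hg n) h1, hw]; group
    _ = (xi z t (m * l) * xi z t (n * m * i)) * (g ^ (n ^^^ m) * w) * xi z t j := by
        rw [K.pow_bits hs hn hm]; group
    _ = g ^ (n ^^^ m) * w * ((xi z t (m * l) * xi z t (n * m * i)) * xi z t j) := by
        rw [K.xi_mul h1 h2, ← Klein.xi_comm (mul_mem (pow_mem hg _) hwm) h3]; group

/-- The class of a product. -/
theorem nf_mul {p q : ℕ} (hp : p < 16) (hq : q < 16) :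
    ∃ i < 4, nf a ee dd xx p * nf a ee dd xx q = nf a ee dd xx (p ^^^ q) * xi z t i := by
  have K := klein h S
  have hae := br_ae h S
  have hdx := br_conj h S hae
  have hA : Sq z t a 1 := ⟨by norm_num, S.a_sq⟩
  have hE : Sq z t ee 0 := ⟨by norm_num, e_sq h S⟩
  have hD : Sq z t dd 2 := ⟨by norm_num, by rw [xi_two, ← S.sigma_z, ← S.a_sq]; group⟩
  have hX : Sq z t xx 0 := ⟨by norm_num, by
    calc xx * xx = σ * (ee * ee) * σ⁻¹ := by group
      _ = xi z t 0 := by rw [e_sq h S, mul_one, mul_inv_cancel, xi_zero]⟩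
  have ma := a_four h S
  have me := e_four h S
  have md := conj_four h S (a_four h S)
  have mx := conj_four h S (e_four h S)
  obtain ⟨-, hbit⟩ := bit_xor p hp q hq
  have e3 : xx ^ bit4 p 3 * xx ^ bit4 q 3 = xx ^ (bit4 p 3 ^^^ bit4 q 3) *
      xi z t (bit4 p 3 * bit4 q 3 * 0) := by
    rw [K.pow_bits hX (bit4_lt p 3) (bit4_lt q 3)]
    simp [xi_zero]
  have b3 := K.br_pow (K.br_symm hdx) (bit4_lt p 3)
  obtain ⟨v2, hv2, e2⟩ := swap_pow h S H1 H2 H3 H4 md (pow_mem mx _) hD (bit4_lt p 2) (bit4_lt q 2) b3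
    (by simp) e3
  have b2 := K.br_mul (pow_mem md (bit4 p 2)) (K.br_pow (K.br_symm H3) (bit4_lt p 2))
    (K.br_pow (K.br_symm H4) (bit4_lt p 3))
  obtain ⟨v1, hv1, e1⟩ := swap_pow h S H1 H2 H3 H4 me
    (mul_mem (pow_mem md (bit4 p 2 ^^^ bit4 q 2)) (pow_mem mx (bit4 p 3 ^^^ bit4 q 3))) hE (bit4_lt p 1)
    (bit4_lt q 1) b2 hv2 e2
  have b1 := K.br_mul (pow_mem me (bit4 p 1)) (K.br_pow (K.br_symm hae) (bit4_lt p 1))
    (K.br_mul (pow_mem md (bit4 p 2)) (K.br_pow (K.br_symm H1) (bit4_lt p 2))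
      (K.br_pow (K.br_symm H2) (bit4_lt p 3)))
  obtain ⟨v0, hv0, e0⟩ := swap_pow h S H1 H2 H3 H4 ma
    (mul_mem (pow_mem me (bit4 p 1 ^^^ bit4 q 1))
      (mul_mem (pow_mem md (bit4 p 2 ^^^ bit4 q 2)) (pow_mem mx (bit4 p 3 ^^^ bit4 q 3)))) hA (bit4_lt p 0)
    (bit4_lt q 0) b1 hv1 e1
  refine ⟨v0, hv0, ?_⟩
  simp only [nf, hbit 0 (by norm_num), hbit 1 (by norm_num), hbit 2 (by norm_num), hbit 3 (by norm_num)]
  exact e0

/-- A class of `σ Q σ⁻¹` fixing both factors of `Q` up to sign is trivial. -/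
theorem faithful : Faith k₁ k₂ k₃ k₄ := by
  intro w hw hlt
  have K := klein h S
  have hw16 : w < 16 := by fin_cases hw <;> norm_num
  set v := nf a ee dd xx w with hv
  have hva := br_nf h S H1 H2 H3 H4 w 1
  have hve := br_nf h S H1 H2 H3 H4 w 2
  have n1 : nf a ee dd xx 1 = a := by simp [nf, bit4]
  have n2 : nf a ee dd xx 2 = ee := by simp [nf, bit4]
  rw [n1] at hva; rw [n2] at hve
  have hsym : ∀ k : ℕ, k < 16 → brCode k₁ k₂ k₃ k₄ w k = brCode k₁ k₂ k₃ k₄ k w := fun k _ =>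
    K.br_unique (br_nf h S H1 H2 H3 H4 w k) (K.br_symm (br_nf h S H1 H2 H3 H4 k w))
  obtain ⟨hla, hle⟩ := hlt
  rw [← hsym 1 (by norm_num)] at hla
  rw [← hsym 2 (by norm_num)] at hle
  have hzpow : ∀ i < 2, xi z t i ∈ Q₁ ∧ xi z t i ∈ Q₂ ∧ (xi z t i = 1 ∨ xi z t i = z) := by
    intro i hi
    interval_cases i
    · exact ⟨one_mem _, one_mem _, Or.inl rfl⟩
    · exact ⟨h.p₁.z_mem, h.p₂.z_mem, Or.inr rfl⟩
  obtain ⟨sa₁, sa₂, sa⟩ := hzpow _ hla
  obtain ⟨se₁, se₂, se⟩ := hzpow _ hle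
  set ja := xi z t (brCode k₁ k₂ k₃ k₄ w 1) with hja
  set je := xi z t (brCode k₁ k₂ k₃ k₄ w 2) with hje
  have hv4 : v ∈ four z t := nf_mem h S _
  have hvC : v ∈ centralizer ({z} : Set G) := mem_centralizer_singleton_iff.2 (mem_four.1 hv4).1
  have cz : ∀ u : G, u ∈ centralizer ({z} : Set G) → ∀ s : G, s = 1 ∨ s = z → u * s = s * u := by
    rintro u hu s (rfl | rfl)
    · simp
    · exact mem_centralizer_singleton_iff.1 hu
  have C₁ : ∀ {u : G}, u ∈ Q₁ → u ∈ centralizer ({z} : Set G) := fun hu => h.le₁ (h.p₁.le hu)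
  have C₂ : ∀ {u : G}, u ∈ Q₂ → u ∈ centralizer ({z} : Set G) := fun hu => h.le₂ (h.p₂.le hu)
  -- the images of the four generators
  have ea : v * a * v⁻¹ = ja * a := by
    rw [mul_inv_eq_iff_eq_mul, hva.2]
    exact (mul_assoc _ _ _).symm
  have eb : v * b * v⁻¹ = ja * b := by
    have hb : b = a⁻¹ * t := by rw [S.t_eq]; group
    have e0 : v * b * v⁻¹ = (v * a * v⁻¹)⁻¹ * (v * t * v⁻¹) := by rw [hb]; group
    rw [e0, ea, show v * t * v⁻¹ = t by rw [(mem_four.1 hv4).2, mul_inv_cancel_right], mul_inv_rev,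
      show ja⁻¹ = ja by rcases sa with e | e <;> simp [e, h.z_inv_eq], mul_assoc, hb, ← mul_assoc a⁻¹,
      cz a⁻¹ (inv_mem (C₁ S.a_mem)) ja sa, mul_assoc]
  have ee' : (v * c * v⁻¹) * (v * c' * v⁻¹) = (je * c) * c' := by
    calc (v * c * v⁻¹) * (v * c' * v⁻¹) = v * (c * c') * v⁻¹ := by group
      _ = (je * c) * c' := by
          rw [mul_inv_eq_iff_eq_mul, hve.2, mul_assoc je c c']
          exact (mul_assoc _ _ _).symm
  have factor : ∀ u ∈ Q, u * u = z → ∀ q : G, (q ∈ Q₁ ∧ ∀ y ∈ Q₂, q * y = y * q) →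
      u * q ≠ q * u → u ∈ Q₁ := fun u hu hu4 q hq hn =>
    (h.four_Q hu hu4).resolve_right fun h2 => hn (hq.2 u h2).symm
  have hsq : ∀ u : G, u * u = z → (v * u * v⁻¹) * (v * u * v⁻¹) = z := fun u hu => by
    calc (v * u * v⁻¹) * (v * u * v⁻¹) = v * (u * u) * v⁻¹ := by group
      _ = z := by rw [hu, (mem_four.1 hv4).1, mul_inv_cancel_right]
  have hc : v * c * v⁻¹ ∈ Q₁ := by
    refine factor _ (h.norm v hvC c (h.left_mem_Q S.c_mem)) (hsq c S.c_sq) (v * a * v⁻¹)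
      ⟨ea ▸ mul_mem sa₁ S.a_mem, fun y hy => h.comm₁₂ (ea ▸ mul_mem sa₁ S.a_mem) hy⟩ fun e => S.a_c ?_
    calc a * c = v⁻¹ * ((v * a * v⁻¹) * (v * c * v⁻¹)) * v := by group
      _ = v⁻¹ * ((v * c * v⁻¹) * (v * a * v⁻¹)) * v := by rw [e]
      _ = c * a := by group
  have hc' : v * c' * v⁻¹ ∈ Q₂ := by
    refine (h.four_Q (h.norm v hvC c' (h.right_mem_Q S.c'_mem)) (hsq c' S.c'_sq)).resolve_left fun h1 =>
      S.b_c' ?_
    have e := h.comm₁₂ h1 (eb ▸ mul_mem sa₂ S.b_mem : v * b * v⁻¹ ∈ Q₂)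
    calc b * c' = v⁻¹ * ((v * b * v⁻¹) * (v * c' * v⁻¹)) * v := by group
      _ = v⁻¹ * ((v * c' * v⁻¹) * (v * b * v⁻¹)) * v := by rw [e]
      _ = c' * b := by group
  obtain ⟨s, s', hs, hs', ec, ec'⟩ : ∃ s s' : G, (s = 1 ∨ s = z) ∧ (s' = 1 ∨ s' = z) ∧
      v * c * v⁻¹ = s * c ∧ v * c' * v⁻¹ = s' * c' := by
    rcases h.decomp_Q hc (mul_mem se₁ S.c_mem) hc' S.c'_mem ee' with ⟨e1, e2⟩ | ⟨e1, e2⟩
    · exact ⟨je, 1, se, Or.inl rfl, e1, by rw [e2, one_mul]⟩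
    · rcases se with e | e
      · exact ⟨z, z, Or.inr rfl, Or.inr rfl, by rw [e1, e, one_mul], e2⟩
      · exact ⟨1, z, Or.inl rfl, Or.inr rfl, by rw [e1, e, ← mul_assoc, h.z_sq], e2⟩
  -- an element of `Q` with the same action
  have pick : ∀ (p q : G), p * q = z * (q * p) → q * p = z * (p * q) → p * z = z * p → q * z = z * q →
      ∀ s s' : G, (s = 1 ∨ s = z) → (s' = 1 ∨ s' = z) →
      ∃ u ∈ closure ({p, q} : Set G), u * p = s * (p * u) ∧ u * q = s' * (q * u) := by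
    intro p q h1 h2 hpz hqz s s' hs hs'
    have mp : p ∈ closure ({p, q} : Set G) := subset_closure (Set.mem_insert _ _)
    have mq : q ∈ closure ({p, q} : Set G) := subset_closure (Set.mem_insert_of_mem _ rfl)
    rcases hs with e | e <;> rcases hs' with e' | e' <;> rw [e, e']
    · exact ⟨1, one_mem _, by simp, by simp⟩
    · exact ⟨p, mp, by simp, h1⟩
    · exact ⟨q, mq, h2, by simp⟩
    · refine ⟨p * q, mul_mem mp mq, ?_, ?_⟩
      · calc p * q * p = p * (z * (p * q)) := by rw [mul_assoc, h2]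
          _ = z * (p * (p * q)) := by rw [← mul_assoc p z, hpz]; group
      · calc p * q * q = (z * (q * p)) * q := by rw [h1]
          _ = z * (q * (p * q)) := by group
  obtain ⟨u₁, hu₁, u1a, u1c⟩ := pick a c (flip₁ h S).1 (flip₁ h S).2 (h.mem_C₁ S.a_mem) (h.mem_C₁ S.c_mem)
    ja s sa hs
  obtain ⟨u₂, hu₂, u2b, u2c⟩ := pick b c' (flip₂ h S).1 (flip₂ h S).2 (h.mem_C₂ S.b_mem)
    (h.mem_C₂ S.c'_mem) ja s' sa hs'
  have m₁ : u₁ ∈ Q₁ := (closure_le _).2 (by simp [Set.insert_subset_iff, S.a_mem, S.c_mem]) hu₁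
  have m₂ : u₂ ∈ Q₂ := (closure_le _).2 (by simp [Set.insert_subset_iff, S.b_mem, S.c'_mem]) hu₂
  have key : ∀ g j : G, v * g * v⁻¹ = j * g → (u₁ * u₂) * g = j * (g * (u₁ * u₂)) →
      g * ((u₁ * u₂)⁻¹ * v) = ((u₁ * u₂)⁻¹ * v) * g := by
    intro g j e1 e2
    have e3 : (u₁ * u₂) * g * (u₁ * u₂)⁻¹ = v * g * v⁻¹ := by rw [e1, e2]; group
    calc g * ((u₁ * u₂)⁻¹ * v) = (u₁ * u₂)⁻¹ * ((u₁ * u₂) * g * (u₁ * u₂)⁻¹) * v := by group
      _ = ((u₁ * u₂)⁻¹ * v) * g := by rw [e3]; group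
  have ga := key a ja ea (by
    rw [mul_assoc, ← h.comm₁₂ S.a_mem m₂, ← mul_assoc, u1a]; group)
  have gc := key c s ec (by
    rw [mul_assoc, ← h.comm₁₂ S.c_mem m₂, ← mul_assoc, u1c]; group)
  have gb := key b ja eb (by
    rw [mul_assoc, u2b, ← mul_assoc u₁, cz u₁ (C₁ m₁) ja sa, mul_assoc, ← mul_assoc u₁, h.comm₁₂ m₁ S.b_mem]
    group)
  have gc' := key c' s' ec' (by
    rw [mul_assoc, u2c, ← mul_assoc u₁, cz u₁ (C₁ m₁) s' hs', mul_assoc, ← mul_assoc u₁,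
      h.comm₁₂ m₁ S.c'_mem]
    group)
  set W := (u₁ * u₂)⁻¹ * v with hW
  have hWC : W ∈ centralizer ({z} : Set G) := mul_mem (inv_mem (mul_mem (C₁ m₁) (C₂ m₂))) hvC
  have hQW : ∀ q ∈ Q, q * W = W * q := by
    have hz' := mem_centralizer_singleton_iff.1 hWC
    have base : ∀ g ∈ ({a, c, b, c', z} : Set G), g ∈ centralizer ({W} : Set G) := by
      intro g hg
      rw [mem_centralizer_singleton_iff]
      rcases hg with rfl | rfl | rfl | rfl | rfl
      exacts [ga, gc, gb, gc', hz'.symm]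
    have hz := base z (by simp)
    have ha := base a (by simp)
    have hb := base b (by simp)
    have hc := base c (by simp)
    have hc' := base c' (by simp)
    intro q hq
    obtain ⟨q₁, hq₁, q₂, hq₂, rfl⟩ := (h.mem_Q q).1 hq
    refine mem_centralizer_singleton_iff.1 (mul_mem ?_ ?_ : q₁ * q₂ ∈ centralizer ({W} : Set G))
    · rcases h.p₁.gen a S.a_mem S.a_sq c S.c_mem S.c_sq S.a_c q₁ hq₁ with
        e | e | e | e | e | e | e | e <;> rw [e]
      exacts [one_mem _, hz, ha, inv_mem ha, hc, inv_mem hc, mul_mem ha hc, mul_mem hc ha]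
    · rcases h.p₂.gen b S.b_mem S.b_sq c' S.c'_mem S.c'_sq S.b_c' q₂ hq₂ with
        e | e | e | e | e | e | e | e <;> rw [e]
      exacts [one_mem _, hz, hb, inv_mem hb, hc', inv_mem hc', mul_mem hb hc', mul_mem hc' hb]
  have hWQ := h.selfc W hWC hQW
  have hvQ : v ∈ Q := by
    have := mul_mem ((h.mem_Q _).2 ⟨u₁, m₁, u₂, m₂, rfl⟩) hWQ
    rwa [hW, mul_inv_cancel_left] at this
  have hvQ' : σ⁻¹ * v * σ ∈ Q := by
    have n : v = dd ^ bit4 w 2 * xx ^ bit4 w 3 := by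
      rw [hv]; fin_cases hw <;> simp [nf, bit4]
    have e : σ⁻¹ * v * σ = a ^ bit4 w 2 * ee ^ bit4 w 3 := by
      rw [n, conj_pow, conj_pow]; group
    rw [e]
    exact mul_mem (pow_mem (h.left_mem_Q S.a_mem) _)
      (pow_mem ((h.mem_Q _).2 ⟨c, S.c_mem, c', S.c'_mem, rfl⟩) _)
  obtain ⟨i, hi, e⟩ := exists_xi h S hvQ hvQ'
  have n0 : nf a ee dd xx 0 = 1 := by simp [nf, bit4]
  have := (nf_unique h S H1 H2 H3 H4 hw16 (by norm_num : (0 : ℕ) < 16) (by norm_num : (0 : ℕ) < 4) hi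
    (by rw [n0, one_mul, xi_zero, mul_one]; exact e)).1
  subst this
  exact absurd hw (by simp)

end Pre

end CfsgLib.Recognition.UFourThree
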