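import Cfsg.Agent.Lib.Recognition.UFourThree.Shape

/-!
# Determination of the commutators and of `σ` on `C(z) ∩ C(t)`
-/

set_option autoImplicit false
set_option linter.unusedSectionVars false

namespace CfsgLib.Recognition.UFourThree

open Subgroup

namespace Pre

variable {G : Type*} [Group G] [Finite G] {z : G} {Q₁ Q₂ K₁ K₂ Q : Subgroup G} {a b t σ c c' : G}
  (h : Hyp z Q₁ Q₂ K₁ K₂ Q) (S : Pre z Q₁ Q₂ Q a b t σ c c')
include h S

local notation "ee" => (c * c')
local notation "dd" => (σ * a * σ⁻¹)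
local notation "xx" => (σ * (c * c') * σ⁻¹)

/-- The generator with a number. -/
theorem gen_four {i : ℕ} (hi : i < 4) : [a, ee, dd, xx].getD i 1 ∈ four z t := by
  have h1 := a_four h S
  have h2 := e_four h S
  have h3 := conj_four h S (a_four h S)
  have h4 := conj_four h S (e_four h S)
  interval_cases i <;> simpa

theorem pow_mem4 {g : G} (hg : g ∈ four z t) (n : ℕ) : g ^ n ∈ four z t := pow_mem hg n

theorem nf_mem (p : ℕ) : nf a ee dd xx p ∈ four z t :=
  mul_mem (pow_mem (a_four h S) _) (mul_mem (pow_mem (e_four h S) _)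
    (mul_mem (pow_mem (conj_four h S (a_four h S)) _) (pow_mem (conj_four h S (e_four h S)) _)))

variable {k₁ k₂ k₃ k₄ : ℕ} (H1 : Br z t a (σ * a * σ⁻¹) k₁) (H2 : Br z t a (σ * (c * c') * σ⁻¹) k₂)
  (H3 : Br z t (c * c') (σ * a * σ⁻¹) k₃) (H4 : Br z t (c * c') (σ * (c * c') * σ⁻¹) k₄)
include H1 H2 H3 H4

theorem br_gen {i j : ℕ} (hi : i < 4) (hj : j < 4) :
    Br z t ([a, ee, dd, xx].getD i 1) ([a, ee, dd, xx].getD j 1) (genCode k₁ k₂ k₃ k₄ i j) := by
  have K := klein h S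
  have hae := br_ae h S
  have hdx := br_conj h S hae
  simp only [rotCode, List.getD_cons_zero, List.getD_cons_succ] at hdx
  interval_cases i <;> interval_cases j <;>
    simp only [genCode, List.getD_cons_zero, List.getD_cons_succ] <;>
    first
      | exact Klein.br_self _
      | exact hae | exact K.br_symm hae
      | exact hdx | exact K.br_symm hdx
      | exact H1 | exact K.br_symm H1
      | exact H2 | exact K.br_symm H2
      | exact H3 | exact K.br_symm H3
      | exact H4 | exact K.br_symm H4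

theorem br_row {i : ℕ} (hi : i < 4) (q : ℕ) :
    Br z t (nf a ee dd xx q) ([a, ee, dd, xx].getD i 1) (rowCode k₁ k₂ k₃ k₄ i q) := by
  have K := klein h S
  have hg := fun j (hj : j < 4) => K.br_symm (br_gen h S H1 H2 H3 H4 hi hj)
  exact K.br_mul (pow_mem (a_four h S) _) (K.br_pow (hg 0 (by norm_num)) (bit4_lt q 0))
    (K.br_mul (pow_mem (e_four h S) _) (K.br_pow (hg 1 (by norm_num)) (bit4_lt q 1))
      (K.br_mul (pow_mem (conj_four h S (a_four h S)) _) (K.br_pow (hg 2 (by norm_num)) (bit4_lt q 2))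
        (K.br_pow (hg 3 (by norm_num)) (bit4_lt q 3))))

theorem br_nf (p q : ℕ) :
    Br z t (nf a ee dd xx p) (nf a ee dd xx q) (brCode k₁ k₂ k₃ k₄ p q) := by
  have K := klein h S
  have hg := fun j (hj : j < 4) => K.br_symm (br_row h S H1 H2 H3 H4 hj q)
  exact K.br_mul (pow_mem (a_four h S) _) (K.br_pow (hg 0 (by norm_num)) (bit4_lt p 0))
    (K.br_mul (pow_mem (e_four h S) _) (K.br_pow (hg 1 (by norm_num)) (bit4_lt p 1))
      (K.br_mul (pow_mem (conj_four h S (a_four h S)) _) (K.br_pow (hg 2 (by norm_num)) (bit4_lt p 2))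
        (K.br_pow (hg 3 (by norm_num)) (bit4_lt p 3))))

theorem sq_nf {p : ℕ} (hp : p < 16) : Sq z t (nf a ee dd xx p) (sqCode k₁ k₂ k₃ k₄ p) := by
  have K := klein h S
  have hA : Sq z t a 1 := ⟨by norm_num, S.a_sq⟩
  have hE : Sq z t ee 0 := ⟨by norm_num, e_sq h S⟩
  have hD : Sq z t dd 2 := ⟨by norm_num, by
    rw [xi_two, ← S.sigma_z, ← S.a_sq]; group⟩
  have hX : Sq z t xx 0 := ⟨by norm_num, by
    calc xx * xx = σ * (ee * ee) * σ⁻¹ := by group
      _ = xi z t 0 := by rw [e_sq h S, mul_one, mul_inv_cancel, xi_zero]⟩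
  have g := fun i j (hi : i < 4) (hj : j < 4) => br_gen h S H1 H2 H3 H4 hi hj
  have b01 := g 0 1 (by norm_num) (by norm_num)
  have b02 := g 0 2 (by norm_num) (by norm_num)
  have b03 := g 0 3 (by norm_num) (by norm_num)
  have b12 := g 1 2 (by norm_num) (by norm_num)
  have b13 := g 1 3 (by norm_num) (by norm_num)
  have b23 := g 2 3 (by norm_num) (by norm_num)
  simp only [genCode, List.getD_cons_zero, List.getD_cons_succ] at b01 b02 b03 b12 b13 b23
  have mA := pow_mem (a_four h S) (bit4 p 0)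
  have mE := pow_mem (e_four h S) (bit4 p 1)
  have mD := pow_mem (conj_four h S (a_four h S)) (bit4 p 2)
  have s3 := K.sq_pow hX (bit4_lt p 3)
  -- commutators of the tails with a power
  have powBr : ∀ {g k : G} {i : ℕ}, Br z t g k i → ∀ n m : ℕ, n < 2 → m < 2 →
      Br z t (k ^ m) (g ^ n) (m * (n * i)) := fun hb n m hn hm =>
    K.br_pow (K.br_symm (K.br_pow hb hn)) hm
  have tD := powBr b23 (bit4 p 2) (bit4 p 3) (bit4_lt _ _) (bit4_lt _ _)
  have s2 := K.sq_mul mD (K.sq_pow hD (bit4_lt p 2)) s3 tD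
  have tE := K.br_mul mD (powBr b12 (bit4 p 1) (bit4 p 2) (bit4_lt _ _) (bit4_lt _ _))
    (powBr b13 (bit4 p 1) (bit4 p 3) (bit4_lt _ _) (bit4_lt _ _))
  have s1 := K.sq_mul mE (K.sq_pow hE (bit4_lt p 1)) s2 tE
  have tA := K.br_mul mE (powBr b01 (bit4 p 0) (bit4 p 1) (bit4_lt _ _) (bit4_lt _ _))
    (K.br_mul mD (powBr b02 (bit4 p 0) (bit4 p 2) (bit4_lt _ _) (bit4_lt _ _))
      (powBr b03 (bit4 p 0) (bit4 p 3) (bit4_lt _ _) (bit4_lt _ _)))
  have s0 := K.sq_mul mA (K.sq_pow hA (bit4_lt p 0)) s1 tA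
  rwa [sq_identity k₁ H1.1 k₂ H2.1 k₃ H3.1 k₄ H4.1 p hp] at s0

/-- Coordinates are unique. -/
theorem nf_unique {p q i j : ℕ} (hp : p < 16) (hq : q < 16) (hi : i < 4) (hj : j < 4)
    (he : nf a ee dd xx p * xi z t i = nf a ee dd xx q * xi z t j) : p = q ∧ i = j := by
  have K := klein h S
  have aQ : a ∈ Q := h.left_mem_Q S.a_mem
  have eQ : ee ∈ Q := (h.mem_Q _).2 ⟨c, S.c_mem, c', S.c'_mem, rfl⟩
  set L := fun r : ℕ => a ^ bit4 r 0 * ee ^ bit4 r 1 with hL
  set R := fun r : ℕ => dd ^ bit4 r 2 * xx ^ bit4 r 3 with hR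
  have hLR : ∀ r, nf a ee dd xx r = L r * R r := fun r => by simp only [nf, hL, hR, mul_assoc]
  have hLm : ∀ r, L r ∈ four z t := fun r =>
    mul_mem (pow_mem (a_four h S) _) (pow_mem (e_four h S) _)
  have hRm : ∀ r, R r ∈ four z t := fun r =>
    mul_mem (pow_mem (conj_four h S (a_four h S)) _) (pow_mem (conj_four h S (e_four h S)) _)
  have hm := (xor_lt4 i hi j hj).1
  have hu : (L q)⁻¹ * L p = R q * (R p)⁻¹ * xi z t (i ^^^ j) := by
    have e1 : L p * R p = L q * R q * xi z t (i ^^^ j) := by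
      rw [hLR, hLR] at he
      calc L p * R p = L p * R p * xi z t i * xi z t i := by rw [mul_assoc _ (xi z t i), K.xi_sq hi, mul_one]
        _ = L q * R q * (xi z t j * xi z t i) := by rw [he, mul_assoc]
        _ = _ := by rw [K.xi_mul hj hi, Nat.xor_comm]
    have hc : xi z t (i ^^^ j) * (R p)⁻¹ = (R p)⁻¹ * xi z t (i ^^^ j) :=
      (Klein.xi_comm (inv_mem (hRm p)) hm).symm
    calc (L q)⁻¹ * L p = (L q)⁻¹ * (L p * R p) * (R p)⁻¹ := by group
      _ = R q * (xi z t (i ^^^ j) * (R p)⁻¹) := by rw [e1]; group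
      _ = _ := by rw [hc]; group
  have hsd : σ⁻¹ * dd * σ = a := by group
  have hsx : σ⁻¹ * xx * σ = ee := by group
  have hLQ : ∀ r, L r ∈ Q := fun r => mul_mem (pow_mem aQ _) (pow_mem eQ _)
  let Qs : Subgroup G := Q.comap (MulAut.conj σ⁻¹).toMonoidHom
  have hQs : ∀ g, g ∈ Qs ↔ σ⁻¹ * g * σ ∈ Q := fun g => by simp [Qs]
  have hRQ : ∀ r, R r ∈ Qs := fun r => mul_mem
    (pow_mem ((hQs _).2 (by rw [hsd]; exact aQ)) _) (pow_mem ((hQs _).2 (by rw [hsx]; exact eQ)) _)
  have hxiQ : xi z t (i ^^^ j) ∈ Qs := by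
    have hz : z ∈ Qs := (hQs z).2 (by
      rw [sigma_inv_z h S, S.t_eq]
      exact mul_mem h.z_mem_Q (mul_mem aQ (h.right_mem_Q S.b_mem)))
    have ht : t ∈ Qs := (hQs t).2 (by
      rw [show σ⁻¹ * t * σ = z by rw [← S.sigma_z]; group]
      exact h.z_mem_Q)
    generalize i ^^^ j = m at hm
    interval_cases m
    exacts [one_mem _, hz, ht, mul_mem hz ht]
  obtain ⟨m, hmlt, em⟩ := exists_xi h S (mul_mem (inv_mem (hLQ q)) (hLQ p))
    ((hQs _).1 (hu ▸ mul_mem (mul_mem (hRQ q) (inv_mem (hRQ p))) hxiQ))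
  have eL : L p = L q * xi z t m := by rw [← em]; group
  have eR : R q = R p * (xi z t m * xi z t (i ^^^ j)) := by
    have hc : (xi z t m * xi z t (i ^^^ j)) ∈ four z t := mul_mem (K.xi_mem hmlt) (K.xi_mem hm)
    have : R q = xi z t m * xi z t (i ^^^ j) * R p := by
      rw [hu] at em
      calc R q = R q * (R p)⁻¹ * (xi z t (i ^^^ j) * xi z t (i ^^^ j)) * R p := by
            rw [K.xi_sq hm, mul_one]; group
        _ = _ := by rw [← mul_assoc (R q * (R p)⁻¹), em]
    rw [this, K.xi_mul hmlt hm, Klein.xi_comm (hRm p) (xor_lt4 m hmlt _ hm).1]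
  have bL : ∀ r, ∀ k < 4, Br z t (L r * xi z t k) a (bit4 r 1) ∧ Br z t (L r * xi z t k) ee (bit4 r 0) := by
    intro r k hk
    have hae := br_ae h S
    have h1 := K.br_mul (pow_mem (a_four h S) _) (K.br_pow (Klein.br_self (z := z) (t := t) a) (bit4_lt r 0))
      (K.br_pow (K.br_symm hae) (bit4_lt r 1))
    have h2 := K.br_mul (pow_mem (a_four h S) _) (K.br_pow hae (bit4_lt r 0))
      (K.br_pow (Klein.br_self (z := z) (t := t) ee) (bit4_lt r 1))
    have h1' := K.br_mul (hLm r) h1 (Klein.br_xi (a_four h S) hk)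
    have h2' := K.br_mul (hLm r) h2 (Klein.br_xi (e_four h S) hk)
    simp only [mul_zero, mul_one, Nat.zero_xor, Nat.xor_zero] at h1' h2'
    exact ⟨h1', h2'⟩
  have bR : ∀ r, ∀ k < 4, Br z t (R r * xi z t k) dd (bit4 r 3 * 2) ∧
      Br z t (R r * xi z t k) xx (bit4 r 2 * 2) := by
    intro r k hk
    have hdx := br_conj h S (br_ae h S)
    simp only [rotCode, List.getD_cons_zero, List.getD_cons_succ] at hdx
    have hd := conj_four h S (a_four h S)
    have h1 := K.br_mul (pow_mem hd _) (K.br_pow (Klein.br_self (z := z) (t := t) dd) (bit4_lt r 2))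
      (K.br_pow (K.br_symm hdx) (bit4_lt r 3))
    have h2 := K.br_mul (pow_mem hd _) (K.br_pow hdx (bit4_lt r 2))
      (K.br_pow (Klein.br_self (z := z) (t := t) xx) (bit4_lt r 3))
    have h1' := K.br_mul (hRm r) h1 (Klein.br_xi hd hk)
    have h2' := K.br_mul (hRm r) h2 (Klein.br_xi (conj_four h S (e_four h S)) hk)
    simp only [mul_zero, Nat.zero_xor, Nat.xor_zero] at h1' h2'
    exact ⟨h1', h2'⟩
  have l1 := bL p 0 (by norm_num)
  rw [xi_zero, mul_one, eL] at l1
  have b0 := K.br_unique l1.2 (bL q m hmlt).2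
  have b1 := K.br_unique l1.1 (bL q m hmlt).1
  have r1 := bR q 0 (by norm_num)
  rw [xi_zero, mul_one, eR, K.xi_mul hmlt hm] at r1
  have b2 := K.br_unique r1.2 (bR p _ (xor_lt4 m hmlt _ hm).1).2
  have b3 := K.br_unique r1.1 (bR p _ (xor_lt4 m hmlt _ hm).1).1
  have hpq : p = q := by rw [bit_ext p hp, bit_ext q hq]; omega
  subst hpq
  exact ⟨rfl, K.xi_inj hi hj (mul_left_cancel he)⟩

end Pre

end CfsgLib.Recognition.UFourThree
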