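import Cfsg.Agent.Lib.Recognition.UFourThree.ShapeClasses

/-!
# The forced relations in `C(z) ∩ C(t)`
-/

set_option autoImplicit false
set_option linter.unusedSectionVars false

namespace CfsgLib.Recognition.UFourThree

open Subgroup

theorem rot_fix : ∀ i < 4, rotCode i ^^^ i = 2 → i = 3 := by decide +kernel

theorem rot_fix' : ∀ i < 4, rotCode i ^^^ i = 0 → i = 0 := by decide +kernel

namespace Pre

variable {G : Type*} [Group G] [Finite G] {z : G} {Q₁ Q₂ K₁ K₂ Q : Subgroup G} {a b t σ c c' : G}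
  (h : Hyp z Q₁ Q₂ K₁ K₂ Q) (S : Pre z Q₁ Q₂ Q a b t σ c c')
  (hP : Nat.card (four z t) = 64)
include h S hP

local notation "ee" => (c * c')
local notation "dd" => (σ * a * σ⁻¹)
local notation "xx" => (σ * (c * c') * σ⁻¹)

/-- The forced relations. -/
theorem shape : dd * a = a * dd ∧ xx * a = z * t * (a * xx) ∧ dd * ee = z * t * (ee * dd) ∧
    xx * ee = ee * xx ∧ σ * dd * σ⁻¹ = a * dd * (z * t) ∧ σ * xx * σ⁻¹ = ee * xx ∧
    ∀ g ∈ four z t, ∃ p < 16, ∃ i < 4, g = nf a ee dd xx p * xi z t i := by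
  have K := klein h S
  obtain ⟨k₁, k₂, k₃, k₄, H1, H2, H3, H4⟩ := exists_codes h S
  have hex := fun {g : G} (hg : g ∈ four z t) => exists_nf h S H1 H2 H3 H4 hP hg
  have ma := a_four h S
  have me := e_four h S
  have md := conj_four h S ma
  have mx := conj_four h S me
  have mf := conj_four h S md
  have mg := conj_four h S mx
  obtain ⟨pf, hpf, vf, hvf, ef⟩ := hex mf
  obtain ⟨pg, hpg, vg, hvg, eg⟩ := hex mg
  have hD : Sq z t dd 2 := ⟨by norm_num, by rw [xi_two, ← S.sigma_z, ← S.a_sq]; group⟩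
  have hX : Sq z t xx 0 := ⟨by norm_num, by
    calc xx * xx = σ * (ee * ee) * σ⁻¹ := by group
      _ = xi z t 0 := by rw [e_sq h S, mul_one, mul_inv_cancel, xi_zero]⟩
  have sqc : ∀ {g : G} {i : ℕ}, Sq z t g i → Sq z t (σ * g * σ⁻¹) (rotCode i) := by
    intro g i hs
    refine ⟨(xor_lt4 i hs.1 i hs.1).2.2, ?_⟩
    calc σ * g * σ⁻¹ * (σ * g * σ⁻¹) = σ * (g * g) * σ⁻¹ := by group
      _ = _ := by rw [hs.2, xi_rot h S hs.1]
  have uniqSq : ∀ {g : G} {i j : ℕ}, Sq z t g i → Sq z t g j → i = j := fun hs hs' =>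
    K.xi_inj hs.1 hs'.1 (hs.2.symm.trans hs'.2)
  have sqcl : ∀ {g : G} {p v : ℕ}, p < 16 → v < 4 → g = nf a ee dd xx p * xi z t v →
      Sq z t g (sqCode k₁ k₂ k₃ k₄ p) := fun hp hv e =>
    e ▸ K.sq_xi (nf_mem h S _) (sq_nf h S H1 H2 H3 H4 hp) hv
  -- classes multiply
  have clmul : ∀ {g k : G} {p q : ℕ}, p < 16 → q < 16 → (∃ v < 4, g = nf a ee dd xx p * xi z t v) →
      (∃ v < 4, k = nf a ee dd xx q * xi z t v) →
      ∃ v < 4, g * k = nf a ee dd xx (p ^^^ q) * xi z t v := by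
    intro g k p q hp hq hg hk
    obtain ⟨i, hi, rfl⟩ := hg
    obtain ⟨j, hj, rfl⟩ := hk
    obtain ⟨l, hl, e⟩ := nf_mul h S H1 H2 H3 H4 hp hq
    have h1 := (xor_lt4 i hi j hj).1
    refine ⟨l ^^^ (i ^^^ j), (xor_lt4 l hl _ h1).1, ?_⟩
    rw [← K.xi_mul hl h1, ← K.xi_mul hi hj]
    calc nf a ee dd xx p * xi z t i * (nf a ee dd xx q * xi z t j)
        = nf a ee dd xx p * (xi z t i * nf a ee dd xx q) * xi z t j := by group
      _ = (nf a ee dd xx p * nf a ee dd xx q) * (xi z t i * xi z t j) := by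
          rw [← Klein.xi_comm (nf_mem h S q) hi]; group
      _ = _ := by rw [e]; group
  have cluniq : ∀ {g : G} {p q : ℕ}, p < 16 → q < 16 → (∃ v < 4, g = nf a ee dd xx p * xi z t v) →
      (∃ v < 4, g = nf a ee dd xx q * xi z t v) → p = q := by
    rintro g p q hp hq ⟨i, hi, e⟩ ⟨j, hj, e'⟩
    exact (nf_unique h S H1 H2 H3 H4 hp hq hi hj (e.symm.trans e')).1
  have cl1 : ∀ {n : ℕ}, n < 2 → ∀ {g : G} {p : ℕ}, p < 16 → (∃ v < 4, g = nf a ee dd xx p * xi z t v) →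
      ∃ v < 4, g ^ n = nf a ee dd xx (n * p) * xi z t v := by
    intro n hn g p hp hg
    interval_cases n
    · exact ⟨0, by norm_num, by simp [nf, bit4, xi]⟩
    · simpa using hg
  have n4 : nf a ee dd xx 4 = dd := by simp [nf, bit4]
  have n8 : nf a ee dd xx 8 = xx := by simp [nf, bit4]
  have n1 : nf a ee dd xx 1 = a := by simp [nf, bit4]
  have n2 : nf a ee dd xx 2 = ee := by simp [nf, bit4]
  have cfx : ∃ v < 4, σ * (dd * xx) * σ⁻¹ = nf a ee dd xx (pf ^^^ pg) * xi z t v := by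
    obtain ⟨v, hv, e⟩ := clmul hpf hpg ⟨vf, hvf, ef⟩ ⟨vg, hvg, eg⟩
    exact ⟨v, hv, by rw [← e]; group⟩
  -- images of classes
  have climg : ∀ p < 16, ∃ v < 4, σ * nf a ee dd xx p * σ⁻¹ =
      nf a ee dd xx (imCode pf pg p) * xi z t v := by
    intro p hp
    have hb := bit4_lt p
    have l4 : bit4 p 2 * pf < 16 := lt_of_le_of_lt (Nat.le_trans (Nat.mul_le_mul_right _ (show bit4 p 2 ≤ 1 by
      have := hb 2; omega)) (by rw [one_mul])) hpf
    have l8 : bit4 p 3 * pg < 16 := lt_of_le_of_lt (Nat.le_trans (Nat.mul_le_mul_right _ (show bit4 p 3 ≤ 1 by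
      have := hb 3; omega)) (by rw [one_mul])) hpg
    have la : bit4 p 0 * 4 < 16 := by have := hb 0; omega
    have le' : bit4 p 1 * 8 < 16 := by have := hb 1; omega
    have c3 := cl1 (hb 3) hpg ⟨vg, hvg, eg⟩
    have c2 := cl1 (hb 2) hpf ⟨vf, hvf, ef⟩
    have c1 := cl1 (hb 1) (g := xx) (p := 8) (by norm_num) ⟨0, by norm_num, by rw [n8, xi_zero, mul_one]⟩
    have c0 := cl1 (hb 0) (g := dd) (p := 4) (by norm_num) ⟨0, by norm_num, by rw [n4, xi_zero, mul_one]⟩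
    have h23 := (bit_xor _ l4 _ l8).1
    have h123 := (bit_xor _ le' _ h23).1
    obtain ⟨v, hv, e⟩ := clmul la h123 c0 (clmul le' h23 c1 (clmul l4 l8 c2 c3))
    refine ⟨v, hv, ?_⟩
    rw [show imCode pf pg p = bit4 p 0 * 4 ^^^ (bit4 p 1 * 8 ^^^ (bit4 p 2 * pf ^^^ bit4 p 3 * pg)) from rfl,
      ← e]
    simp only [nf, conj_pow]
    group
  have s3 : σ * (σ * (σ * a * σ⁻¹) * σ⁻¹) * σ⁻¹ = a ∧ σ * (σ * (σ * ee * σ⁻¹) * σ⁻¹) * σ⁻¹ = ee := by
    have e3 : σ * σ * σ = 1 := by rw [← pow_two, ← pow_succ, S.sigma3]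
    have e : ∀ g : G, σ * (σ * (σ * g * σ⁻¹) * σ⁻¹) * σ⁻¹ = (σ * σ * σ) * g * (σ * σ * σ)⁻¹ := fun g => by
      group
    simp only [e, e3, one_mul, inv_one, mul_one, and_self]
  have himf : imCode pf pg pf = 1 := by
    obtain ⟨v, hv, e⟩ := climg pf hpf
    refine cluniq (im_lt pf hpf pg hpg pf hpf) (by norm_num) (g := a) ?_ ⟨0, by norm_num, by rw [n1, xi_zero, mul_one]⟩
    refine ⟨v ^^^ rotCode vf, (xor_lt4 v hv _ (xor_lt4 vf hvf vf hvf).2.2).1, ?_⟩
    conv_lhs => rw [← s3.1, ef]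
    calc σ * (nf a ee dd xx pf * xi z t vf) * σ⁻¹
        = (σ * nf a ee dd xx pf * σ⁻¹) * (σ * xi z t vf * σ⁻¹) := by group
      _ = _ := by
          rw [e, xi_rot h S hvf, mul_assoc, K.xi_mul hv (xor_lt4 vf hvf vf hvf).2.2]
  have himg : imCode pf pg pg = 2 := by
    obtain ⟨v, hv, e⟩ := climg pg hpg
    refine cluniq (im_lt pf hpf pg hpg pg hpg) (by norm_num) (g := ee) ?_ ⟨0, by norm_num, by rw [n2, xi_zero, mul_one]⟩
    refine ⟨v ^^^ rotCode vg, (xor_lt4 v hv _ (xor_lt4 vg hvg vg hvg).2.2).1, ?_⟩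
    conv_lhs => rw [← s3.2, eg]
    calc σ * (nf a ee dd xx pg * xi z t vg) * σ⁻¹
        = (σ * nf a ee dd xx pg * σ⁻¹) * (σ * xi z t vg * σ⁻¹) := by group
      _ = _ := by
          rw [e, xi_rot h S hvg, mul_assoc, K.xi_mul hv (xor_lt4 vg hvg vg hvg).2.2]
  have hadm : Admissible k₁ k₂ k₃ k₄ pf pg := by
    refine ⟨uniqSq (sqcl hpf hvf ef) (sqc hD), uniqSq (sqcl hpg hvg eg) (sqc hX), ?_, himf, himg, ?_⟩
    · obtain ⟨v, hv, e⟩ := cfx
      have hdx := K.br_symm (br_conj h S (br_ae h S))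
      exact uniqSq (sqcl (bit_xor pf hpf pg hpg).1 hv e) (sqc (K.sq_mul md hD hX hdx))
    · intro i hi j hj
      have hj4 : j < 4 := lt_trans hj hi
      have hi' : 2 ^ i < 16 := by interval_cases i <;> norm_num
      have hj' : 2 ^ j < 16 := by interval_cases j <;> norm_num
      obtain ⟨u, hu, ei⟩ := climg _ hi'
      obtain ⟨w, hw, ej⟩ := climg _ hj'
      have hb := br_conj h S (br_nf h S H1 H2 H3 H4 (2 ^ i) (2 ^ j))
      rw [ei, ej] at hb
      have hb2 := K.br_mul (nf_mem h S _) (br_nf h S H1 H2 H3 H4 (imCode pf pg (2 ^ i)) (imCode pf pg (2 ^ j)))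
        (Klein.br_xi (nf_mem h S (imCode pf pg (2 ^ j))) hu)
      rw [Nat.xor_zero] at hb2
      exact K.br_unique (K.br_xi_right (mul_mem (nf_mem h S _) (K.xi_mem hu)) hb2 hw) hb
  obtain ⟨rfl, rfl, rfl, rfl, rfl, rfl⟩ := shape_unique H1.1 H2.1 H3.1 H4.1
    (faithful h S H1 H2 H3 H4) hpf hpg hadm
  have hda : dd * a = a * dd := by rw [H1.2, xi_zero, one_mul]
  have hxa : xx * a = z * t * (a * xx) := (K.br_symm H2).2
  have hde : dd * ee = z * t * (ee * dd) := (K.br_symm H3).2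
  have hxe : xx * ee = ee * xx := by rw [H4.2, xi_zero, one_mul]
  have n5 : nf a ee dd xx 5 = a * dd := by simp [nf, bit4]
  have n10 : nf a ee dd xx 10 = ee * xx := by simp [nf, bit4]
  rw [n5] at ef
  rw [n10] at eg
  have hvf3 : vf = 3 := by
    refine rot_fix vf hvf ?_
    have r := (xor_lt4 vf hvf vf hvf).2.2
    have e1 : a = a * t * (xi z t (rotCode vf) * xi z t vf) := by
      conv_lhs => rw [← s3.1, ef]
      calc σ * (a * dd * xi z t vf) * σ⁻¹ = dd * (σ * dd * σ⁻¹) * (σ * xi z t vf * σ⁻¹) := by group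
        _ = (dd * a) * dd * (xi z t vf * xi z t (rotCode vf)) := by rw [xi_rot h S hvf, ef]; group
        _ = a * (dd * dd) * (xi z t vf * xi z t (rotCode vf)) := by rw [hda]; group
        _ = _ := by rw [hD.2, xi_two, K.xi_mul hvf r, K.xi_mul r hvf, Nat.xor_comm]
    rw [K.xi_mul r hvf] at e1
    have h3 : xi z t 2 * xi z t (rotCode vf ^^^ vf) = xi z t 0 :=
      mul_left_cancel (a := a) (by rw [xi_two, xi_zero, mul_one, ← mul_assoc]; exact e1.symm)
    have h4 := (xor_lt4 _ r vf hvf).1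
    rw [K.xi_mul (by norm_num) h4] at h3
    have h5 := (xor_lt4 2 (by norm_num) _ h4)
    exact (h5.2.1 (K.xi_inj h5.1 (by norm_num) h3)).symm
  have hvg0 : vg = 0 := by
    refine rot_fix' vg hvg ?_
    have r := (xor_lt4 vg hvg vg hvg).2.2
    have e1 : ee = ee * (xi z t (rotCode vg) * xi z t vg) := by
      conv_lhs => rw [← s3.2, eg]
      calc σ * (ee * xx * xi z t vg) * σ⁻¹ = xx * (σ * xx * σ⁻¹) * (σ * xi z t vg * σ⁻¹) := by group
        _ = (xx * ee) * xx * (xi z t vg * xi z t (rotCode vg)) := by rw [xi_rot h S hvg, eg]; group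
        _ = ee * (xx * xx) * (xi z t vg * xi z t (rotCode vg)) := by rw [hxe]; group
        _ = _ := by rw [hX.2, xi_zero, mul_one, K.xi_mul hvg r, K.xi_mul r hvg, Nat.xor_comm]
    rw [K.xi_mul r hvg] at e1
    refine K.xi_inj (xor_lt4 _ r vg hvg).1 (by norm_num) (mul_left_cancel (a := ee) ?_)
    rw [xi_zero, mul_one]
    exact e1.symm
  subst hvf3 hvg0
  exact ⟨hda, hxa, hde, hxe, ef, by rw [eg, xi_zero, mul_one], fun g hg => hex hg⟩

end Pre

end CfsgLib.Recognition.UFourThree
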