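import Cfsg.Agent.Lib.Recognition.UFourThree.Words
import Cfsg.Agent.Lib.Recognition.UFourThree.Data
import Cfsg.Agent.Lib.Recognition.UFourThree.Cert.CertH
import Cfsg.Agent.Lib.Recognition.UFourThree.Cert.CertX1
import Cfsg.Agent.Lib.Recognition.UFourThree.Cert.CertX2
import Cfsg.Agent.Lib.Recognition.UFourThree.Cert.CertX3
import Cfsg.Agent.Lib.Recognition.UFourThree.Cert.CertG

/-!
# The keys of the two large tables and the checks on them
-/

set_option autoImplicit false
set_option maxRecDepth 100000

namespace CfsgLib.Recognition.UFourThree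

open CfsgLib.Sporadic.CosetCert (Cert)
open CfsgLib.Sporadic.OutCert (lk allF allF_iff)
open Data CertData

/-- The inverse letter. -/
def ivl (x : ℕ) : ℕ := ivL.getD x x

/-- The letter of the large certificate as a letter. -/
def ordl (x : ℕ) : ℕ := ordG.getD x x

/-- The image of a point under the inverse of a letter. -/
def pinv280 (x i : ℕ) : ℕ := lk 9 (p280.getD (ivl x) 0) i

/-- The action of a letter on a key of the centraliser. -/
def actH (x b : ℕ) : ℕ := pinv280 x (b % 512) + 512 * pinv280 x (b / 512)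

/-- The key of a node of the centraliser. -/
def keyHn (u : ℕ) : ℕ := lk 18 keyH u

/-- Running a word from the first node. -/
def runH (L : List ℕ) : ℕ := Keyed.run actH L (keyHn 0)

/-- The word of a node of the centraliser. -/
def wordAt (u : ℕ) : List ℕ :=
  (List.range (lk 32 wordH u % 16)).map fun i => Nat.shiftRight (lk 32 wordH u) (4 * (i + 1)) % 16

/-- The eight points of a node. -/
def ptsG (u : ℕ) : List ℕ := (List.range 8).map fun i => lk 9 (lk 72 keyG u) i

/-- The set of a node. -/
def keyGn (u : ℕ) : Finset ℕ := (ptsG u).toFinset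

/-- The action of a letter of the large certificate on a set. -/
def actG (x : ℕ) (s : Finset ℕ) : Finset ℕ := s.image (pinv280 (ordl x))

/-- A list as a bit mask. -/
def maskL (L : List ℕ) : ℕ := L.foldr (fun p m => Nat.lor (Nat.shiftLeft 1 p) m) 0

theorem testBit_maskL (L : List ℕ) (i : ℕ) : (maskL L).testBit i = decide (i ∈ L) := by
  induction L with
  | nil => simp [maskL]
  | cons p L ih =>
    have h : Nat.shiftLeft 1 p = 2 ^ p := Nat.one_shiftLeft p
    show (Nat.lor (Nat.shiftLeft 1 p) (maskL L)).testBit i = _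
    rw [h]
    show (2 ^ p ||| maskL L).testBit i = _
    rw [Nat.testBit_or, ih, Nat.testBit_two_pow]
    simp [List.mem_cons, eq_comm]

theorem toFinset_eq_of_mask {L M : List ℕ} (h : maskL L = maskL M) : L.toFinset = M.toFinset := by
  ext i
  have := congrArg (fun n => n.testBit i) h
  simpa [testBit_maskL] using this

theorem mask_eq_of_toFinset {L M : List ℕ} (h : L.toFinset = M.toFinset) : maskL L = maskL M := by
  refine Nat.eq_of_testBit_eq fun i => ?_
  rw [testBit_maskL, testBit_maskL]
  have := Finset.ext_iff.1 h i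
  simp only [List.mem_toFinset] at this
  simp [this]

/-- One step of a table against keys. -/
noncomputable def stepOK (C : Cert) (top : ℕ) (ok : ℕ → ℕ → ℕ → Bool) (u x : ℕ) : Bool :=
  Nat.rec (motive := fun _ => Bool) false (fun s _ => Nat.blt s C.N && ok u x s) (C.look top u x)

theorem stepOK_spec {C : Cert} {top : ℕ} {ok : ℕ → ℕ → ℕ → Bool} {u x : ℕ}
    (h : stepOK C top ok u x = true) : ∃ s, C.look top u x = s + 1 ∧ s < C.N ∧ ok u x s = true := by
  unfold stepOK at h
  rcases hl : C.look top u x with _ | s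
  · rw [hl] at h; exact absurd h (by simp)
  · rw [hl] at h
    simp only [Bool.and_eq_true, Nat.blt_eq] at h
    exact ⟨s, rfl, h.1, h.2⟩

theorem certH_shape : certH.N = 1152 ∧ certH.nl = 9 := ⟨rfl, rfl⟩

theorem certG_shape : certG.N = 2835 ∧ certG.nl = 11 := ⟨rfl, rfl⟩

theorem stepH : allF (fun u => allF (fun x =>
    stepOK certH 10369 (fun u x s => Nat.beq (keyHn s) (actH x (keyHn u))) u x) 9) 1152 = true := by
  decide +kernel

theorem distinctH : allF (fun u => allF (fun v => !Nat.beq (keyHn u) (keyHn v)) u) 1152 = true := by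
  decide +kernel

theorem pathsH : allF (fun u => Nat.beq (runH (wordAt u)) (keyHn u) &&
    (wordAt u).all fun x => Nat.blt x 9) 1152 = true := by
  decide +kernel

theorem stepG : allF (fun u => allF (fun x =>
    stepOK certG 96795 (fun u x s => Nat.beq (maskL (ptsG s))
      (maskL ((ptsG u).map (pinv280 (ordl x))))) u x) 11) 2835 = true := by
  decide +kernel

theorem sortedG : allF (fun u => Nat.blt (lk 12 rankG u) 2835 &&
    (Nat.beq (lk 12 sortG (lk 12 rankG u)) u &&
      (Nat.beq u 2834 || Nat.blt (maskL (ptsG (lk 12 sortG u))) (maskL (ptsG (lk 12 sortG (u + 1))))))) 2835 =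
        true := by
  decide +kernel

theorem keyedH : Keyed certH keyHn actH 10369 := by
  obtain ⟨hN, hl⟩ := certH_shape
  refine ⟨fun u hu x hx => ?_, fun u hu v hv e => ?_⟩
  · rw [hN] at hu; rw [hl] at hx
    obtain ⟨s, h1, h2, h3⟩ := stepOK_spec (allF_iff.1 (allF_iff.1 stepH u hu) x hx)
    exact ⟨s, h1, h2, Nat.eq_of_beq_eq_true h3⟩
  · rw [hN] at hu hv
    by_contra hne
    rcases Nat.lt_or_gt_of_ne hne with hlt | hlt
    · have := allF_iff.1 (allF_iff.1 distinctH v hv) u hlt
      simp [e] at this
    · have := allF_iff.1 (allF_iff.1 distinctH u hu) v hlt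
      simp [e] at this

theorem keyedG : Keyed certG keyGn actG 96795 := by
  obtain ⟨hN, hl⟩ := certG_shape
  refine ⟨fun u hu x hx => ?_, fun u hu v hv e => ?_⟩
  · rw [hN] at hu; rw [hl] at hx
    obtain ⟨s, h1, h2, h3⟩ := stepOK_spec (allF_iff.1 (allF_iff.1 stepG u hu) x hx)
    refine ⟨s, h1, h2, ?_⟩
    have := toFinset_eq_of_mask (Nat.eq_of_beq_eq_true h3)
    rw [keyGn, this, actG, keyGn]
    ext i
    simp [List.mem_toFinset]
  · rw [hN] at hu hv
    have hs : ∀ w < 2835, lk 12 rankG w < 2835 ∧ lk 12 sortG (lk 12 rankG w) = w ∧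
        (w < 2834 → maskL (ptsG (lk 12 sortG w)) < maskL (ptsG (lk 12 sortG (w + 1)))) := by
      intro w hw
      have := allF_iff.1 sortedG w hw
      simp only [Bool.and_eq_true, Bool.or_eq_true, Nat.blt_eq, Nat.beq_eq] at this
      exact ⟨this.1, this.2.1, fun hlt => this.2.2.resolve_left hlt.ne⟩
    have mono : ∀ i j, i < j → j < 2835 →
        maskL (ptsG (lk 12 sortG i)) < maskL (ptsG (lk 12 sortG j)) := by
      intro i j hij hj
      induction j with
      | zero => omega
      | succ j ih =>
        have hstep := (hs j (by omega)).2.2 (by omega)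
        rcases Nat.lt_or_eq_of_le (Nat.lt_succ_iff.1 hij) with h | h
        · exact lt_trans (ih h (by omega)) hstep
        · exact h ▸ hstep
    have em := mask_eq_of_toFinset e
    obtain ⟨hu1, hu2, -⟩ := hs u hu
    obtain ⟨hv1, hv2, -⟩ := hs v hv
    rcases Nat.lt_trichotomy (lk 12 rankG u) (lk 12 rankG v) with h | h | h
    · have := mono _ _ h hv1
      rw [hu2, hv2, em] at this
      exact absurd this (lt_irrefl _)
    · rw [← hu2, h, hv2]
    · have := mono _ _ h hu1
      rw [hu2, hv2, em] at this
      exact absurd this (lt_irrefl _)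

theorem pathH {u : ℕ} (hu : u < 1152) : runH (wordAt u) = keyHn u ∧ ∀ x ∈ wordAt u, x < 9 := by
  have := allF_iff.1 pathsH u hu
  simp only [Bool.and_eq_true, Nat.beq_eq, List.all_eq_true, Nat.blt_eq] at this
  exact this

end CfsgLib.Recognition.UFourThree
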