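import Cfsg.Agent.Lib.Recognition.UFourThree.Quotient

/-!
# The `3`-local fact for groups of type `U₄(3)`

For an element `y` of order `3` and a four group `⟨z, w⟩` in `C(y)` permuted by `τ`, the elements
of order `3` of `C(y, z)` and `C(y, w)` commute. Also: no involution centralises `⟨y, τ⟩`.
-/

set_option autoImplicit false

namespace CfsgLib.Recognition.UFourThree

open Subgroup
open scoped Pointwise

variable {G : Type*} [Group G] [Finite G]

private theorem coe_mem_zpowers_iff {C : Subgroup G} {y : G} (hy : y ∈ C) (c : C) :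
    c ∈ zpowers (⟨y, hy⟩ : C) ↔ (c : G) ∈ zpowers y := by
  constructor
  · intro hc
    obtain ⟨k, hk⟩ := mem_zpowers_iff.1 hc
    exact mem_zpowers_iff.2 ⟨k, by rw [← hk, Subgroup.coe_zpow]⟩
  · intro hc
    obtain ⟨k, hk⟩ := mem_zpowers_iff.1 hc
    exact mem_zpowers_iff.2 ⟨k, Subtype.ext (by rw [Subgroup.coe_zpow, hk])⟩

/-- An element `c` of `⟨y⟩`, `y` of order `3`, with `c * c = 1` is trivial. -/
private theorem eq_one_of_sq {y c : G} (hy : orderOf y = 3) (hc : c ∈ zpowers y) (h2 : c * c = 1) :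
    c = 1 := by
  have h3 : c ^ 3 = 1 := by
    obtain ⟨k, rfl⟩ := mem_zpowers_iff.1 hc
    rw [← zpow_natCast, ← zpow_mul, mul_comm, zpow_mul, zpow_natCast, ← hy, pow_orderOf_eq_one,
      one_zpow]
  rwa [pow_succ, pow_two, h2, one_mul] at h3

/-- The elements of order `3` in the centralisers of two involutions of a fused four group of
`C(y)` commute. -/
theorem commute_of_fused {y z w τ x x2 : G} (hy : orderOf y = 3) (hz : orderOf z = 2)
    (hw : orderOf w = 2) (hzw : z ≠ w) (hzwc : Commute z w) (hzy : Commute z y)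
    (hwy : Commute w y) (hτy : Commute τ y) (hτ3 : τ ^ 3 ∈ zpowers y) (hτz : τ * z * τ⁻¹ = w)
    (hτw : τ * w * τ⁻¹ = z * w) (hcard : Nat.card (centralizer ({y, z} : Set G)) = 36)
    (hout : ∀ g ∈ centralizer ({y, z} : Set G), g ∉ closure ({y, x, z} : Set G) →
      g ^ 2 ∈ zpowers y)
    (hx : orderOf x = 3) (hxn : x ∉ zpowers y) (hxy : Commute x y) (hxz : Commute x z)
    (hx23 : x2 ^ 3 = 1) (hx2y : Commute x2 y) (hx2w : Commute x2 w)
    (hx2z : z * x2 * z⁻¹ = x2⁻¹)
    (hno : ∀ i : G, orderOf i = 2 → Commute i y → ¬ Commute i τ) :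
    Commute x x2 := by
  classical
  set C := centralizer ({y} : Set G) with hC
  have memC : ∀ {g : G}, g ∈ C ↔ Commute g y := fun {g} => mem_centralizer_singleton_iff
  have hyC : y ∈ C := memC.2 (Commute.refl y)
  set N := zpowers (⟨y, hyC⟩ : C) with hN
  haveI hNn : N.Normal := by
    refine ⟨fun n hn g => ?_⟩
    obtain ⟨k, rfl⟩ := mem_zpowers_iff.1 hn
    have : Commute (g : C) ((⟨y, hyC⟩ : C) ^ k) :=
      (show Commute g (⟨y, hyC⟩ : C) from Subtype.ext (memC.1 g.2)).zpow_right k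
    rw [this.eq, mul_inv_cancel_right]
    exact hn
  set π := QuotientGroup.mk' N with hπ
  have hker : ∀ c : C, π c = 1 ↔ (c : G) ∈ zpowers y := fun c => by
    rw [hπ, QuotientGroup.mk'_apply, QuotientGroup.eq_one_iff, hN, coe_mem_zpowers_iff]
  have hy3 : ∀ c ∈ zpowers y, c ^ 3 = 1 := fun c hc => by
    obtain ⟨k, rfl⟩ := mem_zpowers_iff.1 hc
    rw [← zpow_natCast, ← zpow_mul, mul_comm, zpow_mul, zpow_natCast, ← hy, pow_orderOf_eq_one,
      one_zpow]
  have hinv : ∀ i : G, orderOf i = 2 → i ∉ zpowers y := fun i hi hm => by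
    have := orderOf_dvd_of_pow_eq_one (hy3 i hm)
    rw [hi] at this
    omega
  set Z : C := ⟨z, memC.2 hzy⟩ with hZ
  set W : C := ⟨w, memC.2 hwy⟩ with hW
  set T : C := ⟨τ, memC.2 hτy⟩ with hT
  set X : C := ⟨x, memC.2 hxy⟩ with hX
  set X2 : C := ⟨x2, memC.2 hx2y⟩ with hX2
  have hz2 : z * z = 1 := by rw [← pow_two, ← hz, pow_orderOf_eq_one]
  have hw2 : w * w = 1 := by rw [← pow_two, ← hw, pow_orderOf_eq_one]
  have hzz : Z * Z = 1 := Subtype.ext hz2
  have hww : W * W = 1 := Subtype.ext hw2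
  -- lifting centralised elements
  have hliftz : ∀ c : C, Commute (π c) (π Z) → Commute (c : G) z := by
    intro c hc
    have h1 : π (c * Z * c⁻¹ * Z⁻¹) = 1 := by
      simp only [map_mul, map_inv]
      rw [hc.eq, mul_inv_cancel_right, mul_inv_cancel]
    rw [hker] at h1
    set d : G := ((c * Z * c⁻¹ * Z⁻¹ : C) : G) with hd
    have hdy : Commute z d := by
      obtain ⟨k, hk⟩ := mem_zpowers_iff.1 h1
      rw [← hk]; exact hzy.zpow_right k
    have e : (c : G) * z * (c : G)⁻¹ = d * z := by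
      rw [hd]; simp [hZ, mul_assoc]
    have e2 : d * d = 1 := by
      have h2 : d * z * (d * z) = 1 := by
        rw [← e]
        calc (c : G) * z * (c : G)⁻¹ * ((c : G) * z * (c : G)⁻¹) = (c : G) * (z * z) * (c : G)⁻¹ := by
              group
          _ = 1 := by rw [hz2, mul_one, mul_inv_cancel]
      rwa [mul_assoc, ← mul_assoc z, hdy.eq, mul_assoc, hz2, mul_one] at h2
    rw [eq_one_of_sq hy h1 e2, one_mul, mul_inv_eq_iff_eq_mul] at e
    exact e
  have hset : ∀ g : G, g ∈ centralizer ({y, z} : Set G) ↔ Commute g y ∧ Commute g z := fun g => by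
    rw [mem_centralizer_iff]
    simp only [Set.mem_insert_iff, Set.mem_singleton_iff, forall_eq_or_imp, forall_eq]
    exact ⟨fun h => ⟨h.1.symm, h.2.symm⟩, fun h => ⟨h.1.symm, h.2.symm⟩⟩
  have hcQ : Nat.card (centralizer ({π Z} : Set (C ⧸ N))) = 12 := by
    have e1 : Nat.card (QuotientGroup.mk ⁻¹' (centralizer ({π Z} : Set (C ⧸ N)) : Set (C ⧸ N)) :
        Set C) = 36 := by
      rw [← hcard]
      refine Nat.card_congr
        { toFun := fun c => ⟨((c : C) : G), (hset _).2 ⟨memC.1 (c : C).2,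
            hliftz _ (mem_centralizer_singleton_iff.1 c.2)⟩⟩
          invFun := fun g => ⟨⟨(g : G), memC.2 ((hset _).1 g.2).1⟩, ?_⟩
          left_inv := fun c => rfl
          right_inv := fun g => rfl }
      show π ⟨(g : G), _⟩ ∈ centralizer ({π Z} : Set (C ⧸ N))
      rw [mem_centralizer_singleton_iff, ← map_mul, ← map_mul]
      exact congrArg π (Subtype.ext ((hset _).1 g.2).2)
    have hNc : Nat.card N = 3 := by rw [hN, Nat.card_zpowers, Subgroup.orderOf_mk, hy]
    rw [Nat.card_congr (QuotientGroup.preimageMkEquivSubgroupProdSet N _), Nat.card_prod,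
      hNc] at e1
    change 3 * Nat.card (centralizer ({π Z} : Set (C ⧸ N))) = 36 at e1
    omega
  have hord : ∀ (c : C) (p : ℕ) [Fact p.Prime], orderOf (c : G) = p → (c : G) ∉ zpowers y →
      orderOf (π c) = p := by
    intro c p _ hc hn
    refine orderOf_eq_prime ?_ (fun e => hn ((hker c).1 e))
    rw [← map_pow, show c ^ p = 1 from Subtype.ext (by
      rw [Subgroup.coe_pow, ← hc, pow_orderOf_eq_one, Subgroup.coe_one]), map_one]
  haveI : Fact (Nat.Prime 2) := ⟨Nat.prime_two⟩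
  haveI : Fact (Nat.Prime 3) := ⟨Nat.prime_three⟩
  have hzw2 : orderOf (z * w) = 2 := by
    refine orderOf_eq_prime (by rw [hzwc.mul_pow, pow_two, pow_two, hz2, hw2, one_mul]) ?_
    intro e
    exact hzw ((inv_eq_of_mul_eq_one_right hz2).symm.trans (inv_eq_of_mul_eq_one_right e))
  have cfg : FourCfg (π Z) (π W) (π T) (π X) (π X2) := by
    refine ⟨?_, ?_, ?_, ?_, ?_, ?_, ?_, ?_, ?_, hord X 3 hx hxn, ?_, ?_, ?_, hcQ, ?_, ?_⟩
    · rw [← map_mul, hzz, map_one]
    · exact fun e => hinv z hz ((hker Z).1 e)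
    · rw [← map_mul, hww, map_one]
    · exact fun e => hinv w hw ((hker W).1 e)
    · intro e
      refine hinv (z * w) hzw2 ((hker (Z * W)).1 ?_)
      rw [map_mul, e, ← map_mul, hww, map_one]
    · rw [← map_mul, ← map_mul]; exact congrArg π (Subtype.ext hzwc.eq)
    · rw [← map_pow, hker, Subgroup.coe_pow]; exact hτ3
    · rw [← map_inv, ← map_mul, ← map_mul]; exact congrArg π (Subtype.ext hτz)
    · rw [← map_inv, ← map_mul, ← map_mul, ← map_mul]; exact congrArg π (Subtype.ext hτw)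
    · exact (show Commute X Z from Subtype.ext hxz).map π
    · rw [← map_pow, show X2 ^ 3 = 1 from Subtype.ext (by simpa [hX2] using hx23), map_one]
    · exact (show Commute X2 W from Subtype.ext hx2w).map π
    · intro g hg hgA
      obtain ⟨c, rfl⟩ := QuotientGroup.mk'_surjective N g
      have hcz := hliftz c hg
      rw [← map_pow, hker, Subgroup.coe_pow]
      refine hout _ ((hset _).2 ⟨memC.1 c.2, hcz⟩) fun hcl => hgA ?_
      have hsub : closure ({y, x, z} : Set G) ≤
          ((zpowers (π X * π Z)).comap π).map C.subtype := by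
        rw [closure_le]
        have hXm : π X ∈ zpowers (π X * π Z) := by
          refine mem_zpowers_iff.2 ⟨4, ?_⟩
          rw [((show Commute X Z from Subtype.ext hxz).map π).mul_zpow, ← map_zpow, ← map_zpow,
            ← map_mul]
          refine congrArg π (Subtype.ext ?_)
          have h3 : x ^ 3 = 1 := hx ▸ pow_orderOf_eq_one x
          simp only [Subgroup.coe_mul, Subgroup.coe_zpow, hX, hZ]
          rw [show (4 : ℤ) = ((4 : ℕ) : ℤ) from rfl, zpow_natCast, zpow_natCast,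
            show (4 : ℕ) = 3 + 1 from rfl, pow_succ x, h3, one_mul,
            show 3 + 1 = 2 * 2 from rfl, pow_mul, pow_two z, hz2, one_pow, mul_one]
        have hZm : π Z ∈ zpowers (π X * π Z) := by
          simpa using mul_mem (inv_mem hXm) (mem_zpowers (π X * π Z))
        rintro a (e | e | e)
        · exact ⟨⟨y, hyC⟩, by
            show π ⟨y, hyC⟩ ∈ zpowers (π X * π Z)
            rw [(hker ⟨y, hyC⟩).2 (mem_zpowers y)]; exact one_mem _, e.symm⟩
        · exact ⟨X, hXm, e.symm⟩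
        · exact ⟨Z, hZm, e.symm⟩
      obtain ⟨c', hc', e⟩ := hsub hcl
      obtain rfl : c' = c := Subtype.ext e
      exact hc'
    · intro i hi hit
      obtain ⟨c, rfl⟩ := QuotientGroup.mk'_surjective N i
      have hc2 : (c : G) ^ 2 ∈ zpowers y := by
        rw [← Subgroup.coe_pow, ← hker, map_pow, ← hi]
        exact pow_orderOf_eq_one _
      have hcn : (c : G) ∉ zpowers y := fun hm => by
        rw [(hker c).2 hm, orderOf_one] at hi
        omega
      have hj : orderOf ((c : G) ^ 3) = 2 := by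
        refine orderOf_eq_prime ?_ fun e => hcn ?_
        · rw [← pow_mul, show 3 * 2 = 2 * 3 from rfl, pow_mul, hy3 _ hc2]
        · have : (c : G) = ((c : G) ^ 2)⁻¹ := by
            rw [eq_inv_iff_mul_eq_one, ← pow_succ', e]
          rw [this]; exact inv_mem hc2
      have hjy : Commute ((c : G) ^ 3) y := (memC.1 c.2).pow_left 3
      refine hno _ hj hjy ?_
      set j : G := (c : G) ^ 3 with hjdef
      set d : G := j * τ * j⁻¹ * τ⁻¹ with hd
      have hdm : d ∈ zpowers y := by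
        have h1 : π (c ^ 3 * T * (c ^ 3)⁻¹ * T⁻¹) = 1 := by
          simp only [map_mul, map_inv, map_pow]
          rw [(hit.pow_left 3).eq, mul_inv_cancel_right, mul_inv_cancel]
        rw [hker] at h1
        simpa [hd, hjdef, hT] using h1
      have hjd : Commute j d := by
        obtain ⟨k, hk⟩ := mem_zpowers_iff.1 hdm
        rw [← hk]; exact hjy.zpow_right k
      have hj2 : j * j = 1 := by rw [← pow_two, ← hj, pow_orderOf_eq_one]
      have e : j * τ * j⁻¹ = d * τ := by rw [hd]; group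
      have e2 : d * d = 1 := by
        have h1 : τ = d * (d * τ) := by
          calc τ = j * j * τ * (j * j)⁻¹ := by rw [hj2, inv_one, one_mul, mul_one]
            _ = j * (j * τ * j⁻¹) * j⁻¹ := by group
            _ = j * (d * τ) * j⁻¹ := by rw [e]
            _ = j * d * j⁻¹ * (j * τ * j⁻¹) := by group
            _ = d * (d * τ) := by rw [e, hjd.eq, mul_inv_cancel_right]
        rw [← mul_assoc] at h1
        exact mul_eq_right.1 h1.symm
      rw [eq_one_of_sq hy hdm e2, one_mul, mul_inv_eq_iff_eq_mul] at e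
      exact e
  -- lift the conclusion
  have hd1 : π (X * X2 * X⁻¹ * X2⁻¹) = 1 := by
    simp only [map_mul, map_inv]
    rw [cfg.commute.eq, mul_inv_cancel_right, mul_inv_cancel]
  rw [hker] at hd1
  set d : G := ((X * X2 * X⁻¹ * X2⁻¹ : C) : G) with hd
  have e : x * x2 * x⁻¹ = d * x2 := by
    rw [hd]; simp [hX, hX2, mul_assoc]
  have hdz : Commute z d := by
    obtain ⟨k, hk⟩ := mem_zpowers_iff.1 hd1
    rw [← hk]; exact hzy.zpow_right k
  have hdx2 : Commute x2 d := by
    obtain ⟨k, hk⟩ := mem_zpowers_iff.1 hd1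
    rw [← hk]; exact hx2y.zpow_right k
  have e' : x * x2⁻¹ * x⁻¹ = d * x2⁻¹ := by
    have := congrArg (MulAut.conj z) e
    simp only [map_mul, map_inv, MulAut.conj_apply, hx2z] at this
    rwa [hxz.symm.eq, mul_inv_cancel_right, hdz.eq, mul_inv_cancel_right] at this
  have e'' : x * x2⁻¹ * x⁻¹ = x2⁻¹ * d⁻¹ := by
    rw [show x * x2⁻¹ * x⁻¹ = (x * x2 * x⁻¹)⁻¹ by group, e, _root_.mul_inv_rev]
  rw [e', ← (hdx2.inv_left).eq] at e''
  have e2 : d * d = 1 := by
    nth_rewrite 1 [mul_left_cancel e'']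
    exact inv_mul_cancel d
  rw [eq_one_of_sq hy hd1 e2, one_mul, mul_inv_eq_iff_eq_mul] at e
  exact e

/-- The order of `⟨y, τ⟩` for `y` of order `3` and `τ` outside `⟨y⟩` with cube in `⟨y⟩`. -/
theorem card_closure_pair {y τ : G} (hy : orderOf y = 3) (hyτ : Commute y τ)
    (hτ3 : τ ^ 3 ∈ zpowers y) (hτn : τ ∉ zpowers y) :
    Nat.card (closure ({y, τ} : Set G)) = 9 := by
  set A := zpowers y with hA
  have hn : ∀ k ∈ A, τ * k * τ⁻¹ ∈ A := fun k hk => by
    obtain ⟨m, rfl⟩ := mem_zpowers_iff.1 hk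
    rw [(hyτ.symm.zpow_right m).eq, mul_inv_cancel_right]
    exact hk
  set B := zpowers τ with hB
  have hBA : B ≤ normalizer (A : Set G) := by
    rw [hB, zpowers_le, mem_normalizer_iff_map_conj_eq]
    refine eq_of_le_of_card_ge ?_ ?_
    · rintro _ ⟨k, hk, rfl⟩; exact hn k hk
    · exact le_of_eq (Nat.card_congr (equivMapOfInjective _ _ (MulAut.conj τ).injective).toEquiv)
  have hc : closure ({y, τ} : Set G) = A ⊔ B := by
    rw [hA, hB, zpowers_eq_closure, zpowers_eq_closure, ← Subgroup.closure_union, Set.singleton_union]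
  haveI : (A.subgroupOf (A ⊔ B)).Normal :=
    (normal_subgroupOf_iff_le_normalizer le_sup_left).2 (sup_le le_normalizer hBA)
  set Aq := A.subgroupOf (A ⊔ B) with hAq
  let tq : ↥(A ⊔ B) := ⟨τ, Subgroup.mem_sup_right (mem_zpowers τ)⟩
  have hgen : ∀ g : ↥(A ⊔ B) ⧸ Aq, g ∈ zpowers (QuotientGroup.mk tq : ↥(A ⊔ B) ⧸ Aq) := by
    intro g
    obtain ⟨⟨g, hg⟩, rfl⟩ := QuotientGroup.mk_surjective g
    have hg' : g ∈ (B : Set G) * (A : Set G) := by
      rw [← coe_mul_of_left_le_normalizer_right B A hBA, sup_comm]; exact hg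
    obtain ⟨b, hb, a, ha, rfl⟩ := hg'
    obtain ⟨m, rfl⟩ := mem_zpowers_iff.1 hb
    refine mem_zpowers_iff.2 ⟨m, ?_⟩
    rw [← QuotientGroup.mk_zpow]
    refine QuotientGroup.eq.2 ?_
    rw [hAq, mem_subgroupOf]
    simpa [tq] using ha
  have hidx : Aq.index = 3 := by
    rw [Subgroup.index_eq_card, ← orderOf_eq_card_of_forall_mem_zpowers hgen]
    haveI : Fact (Nat.Prime 3) := ⟨Nat.prime_three⟩
    refine orderOf_eq_prime ?_ fun e => hτn ?_
    · rw [← QuotientGroup.mk_pow, QuotientGroup.eq_one_iff, hAq, mem_subgroupOf]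
      exact hτ3
    · rw [QuotientGroup.eq_one_iff, hAq, mem_subgroupOf] at e
      exact e
  have h := Aq.card_mul_index
  rw [hidx, hAq, Nat.card_congr (subgroupOfEquivOfLe le_sup_left).toEquiv, hA, Nat.card_zpowers,
    hy] at h
  rw [hc, hA, ← h]

/-- No involution centralises `⟨y, τ⟩`. -/
theorem no_involution_centralises {z : G} (hall : ∀ i : G, orderOf i = 2 → IsConj i z)
    (R : Subgroup G) (hR : Nat.card R = 9) (hRz : R ≤ centralizer ({z} : Set G))
    (h27 : ¬ 27 ∣ Nat.card (centralizer ({z} : Set G))) {Y : G} (hY : Y ∈ R)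
    (huniq : ∀ i : G, orderOf i = 2 → Commute i z → Commute i Y → i = z)
    (hninv : ∀ e : G, orderOf e = 2 → Commute e z → e * Y * e⁻¹ ≠ Y⁻¹)
    (hz : orderOf z = 2)
    {y τ e : G} (hR0 : Nat.card (closure ({y, τ} : Set G)) = 9) (hyτ : Commute y τ)
    (he : orderOf e = 2) (hey : e * y * e⁻¹ = y⁻¹) (heτ : e * τ * e⁻¹ = τ⁻¹) :
    ∀ i : G, orderOf i = 2 → Commute i y → ¬ Commute i τ := by
  intro i hi hiy hiτ
  haveI : Fact (Nat.Prime 3) := ⟨Nat.prime_three⟩
  haveI : Fact (Nat.Prime 2) := ⟨Nat.prime_two⟩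
  set R0 := closure ({y, τ} : Set G) with hR0def
  have hicent : ∀ r ∈ R0, Commute i r := fun r hr =>
    show i * r = r * i from
      (closure_induction (p := fun r _ => Commute i r)
        (by rintro a (rfl | rfl); exacts [hiy, hiτ]) (Commute.one_right i)
        (fun a b _ _ ha hb => ha.mul_right hb) (fun a _ ha => ha.inv_right) hr).eq
  have hcomm : ∀ a ∈ R0, ∀ b ∈ R0, a * b = b * a := by
    have hle : R0 ≤ centralizer (R0 : Set G) := by
      rw [hR0def, closure_le]
      intro a ha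
      rw [SetLike.mem_coe, centralizer_closure, mem_centralizer_iff]
      intro b hb
      rcases ha with rfl | rfl <;> rcases hb with rfl | rfl
      exacts [rfl, hyτ.symm.eq, hyτ.eq, rfl]
    exact fun a ha b hb => (mem_centralizer_iff.1 (hle ha) b hb).symm
  have hinvR0 : ∀ r ∈ R0, e * r * e⁻¹ = r⁻¹ := by
    intro r hr
    induction hr using closure_induction with
    | mem a ha => rcases ha with rfl | rfl; exacts [hey, heτ]
    | one => simp
    | mul a b ha hb iha ihb =>
      rw [show e * (a * b) * e⁻¹ = (e * a * e⁻¹) * (e * b * e⁻¹) by group, iha, ihb,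
        _root_.mul_inv_rev]
      exact hcomm _ (inv_mem ha) _ (inv_mem hb)
    | inv a ha iha =>
      rw [show e * a⁻¹ * e⁻¹ = (e * a * e⁻¹)⁻¹ by group, iha]
  obtain ⟨g, hg⟩ := isConj_iff.1 (hall i hi)
  set C := centralizer ({z} : Set G) with hC
  set R1 := R0.map (MulAut.conj g).toMonoidHom with hR1
  have hR1C : R1 ≤ C := by
    rintro _ ⟨r, hr, rfl⟩
    rw [hC, mem_centralizer_singleton_iff, ← hg]
    exact ((hicent r hr).symm.map (MulAut.conj g).toMonoidHom).eq
  have hf : (Nat.card C).factorization 3 = 2 := by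
    have h1 := (Nat.prime_three.pow_dvd_iff_le_factorization (Nat.card_pos (α := C)).ne').1
      (show 3 ^ 2 ∣ Nat.card C by rw [show (3 : ℕ) ^ 2 = 9 by norm_num, ← hR]; exact card_dvd_of_le hRz)
    have h2 : ¬ 3 ≤ (Nat.card C).factorization 3 := fun h =>
      h27 ((Nat.prime_three.pow_dvd_iff_le_factorization Nat.card_pos.ne').2 h)
    omega
  have hR1card : Nat.card R1 = 9 := by
    rw [hR1, ← hR0]
    exact (Nat.card_congr (equivMapOfInjective _ _ (MulAut.conj g).injective).toEquiv).symm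
  obtain ⟨P1, hP1⟩ := CfsgLib.Coprime.exists_sylow_map_eq (p := 3) hR1C
    (by rw [hf, hR1card]; norm_num)
  obtain ⟨P2, hP2⟩ := CfsgLib.Coprime.exists_sylow_map_eq (p := 3) hRz
    (by rw [hf, hR]; norm_num)
  obtain ⟨c, hc⟩ := MulAction.exists_smul_eq C P1 P2
  have hRR : R = R1.map (MulAut.conj (c : G)).toMonoidHom := by
    rw [← hP1, ← hP2, ← CfsgLib.Coprime.map_smul_sylow, hc]
  set s : G := (c : G) * g with hs
  set e1 : G := s * e * s⁻¹ with he1
  have he12 : orderOf e1 = 2 := by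
    rw [← he]
    exact orderOf_injective (MulAut.conj s).toMonoidHom (MulAut.conj s).injective e
  have he1R : ∀ r ∈ R, e1 * r * e1⁻¹ = r⁻¹ := by
    intro r hr
    rw [hRR] at hr
    obtain ⟨_, ⟨r0, hr0, rfl⟩, rfl⟩ := hr
    simp only [MulEquiv.coe_toMonoidHom, MulAut.conj_apply]
    calc e1 * ((c : G) * (g * r0 * g⁻¹) * (c : G)⁻¹) * e1⁻¹
        = s * (e * r0 * e⁻¹) * s⁻¹ := by rw [he1, hs]; group
      _ = s * r0⁻¹ * s⁻¹ := by rw [hinvR0 r0 hr0]
      _ = ((c : G) * (g * r0 * g⁻¹) * (c : G)⁻¹)⁻¹ := by rw [hs]; group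
  -- inside the normaliser of `R`
  set D := centralizer (R : Set G) with hD
  set M := normalizer (R : Set G) with hM
  have hDM : D ≤ M := centralizer_le_normalizer _
  have he1M : e1 ∈ M := by
    rw [hM, mem_normalizer_iff_map_conj_eq]
    ext r
    constructor
    · rintro ⟨a, ha, rfl⟩
      show e1 * a * e1⁻¹ ∈ R
      rw [he1R a ha]
      exact inv_mem ha
    · intro hr
      refine ⟨r⁻¹, inv_mem hr, ?_⟩
      show e1 * r⁻¹ * e1⁻¹ = r
      rw [he1R _ (inv_mem hr), inv_inv]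
  haveI hDn : (D.subgroupOf M).Normal := ⟨fun a ha m => by
    rw [mem_subgroupOf, hD, mem_centralizer_iff]
    intro r hr
    have hr' : (m : G)⁻¹ * r * (m : G) ∈ R := (mem_normalizer_iff''.1 m.2 r).1 hr
    have h1 := mem_centralizer_iff.1 (mem_subgroupOf.1 ha) _ hr'
    simp only [Subgroup.coe_mul, Subgroup.coe_inv]
    calc r * ((m : G) * (a : G) * (m : G)⁻¹)
        = (m : G) * (((m : G)⁻¹ * r * (m : G)) * (a : G)) * (m : G)⁻¹ := by group
      _ = (m : G) * ((a : G) * ((m : G)⁻¹ * r * (m : G))) * (m : G)⁻¹ := by rw [h1]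
      _ = (m : G) * (a : G) * (m : G)⁻¹ * r := by group⟩
  obtain ⟨T, hT⟩ := (IsPGroup.of_card (p := 2) (G := zpowers (⟨e1, he1M⟩ : M)) (n := 1) (by
    rw [Nat.card_zpowers, Subgroup.orderOf_mk, he12]; norm_num)).exists_le_sylow
  set P0 := ((T : Subgroup M) ⊓ D.subgroupOf M).map M.subtype with hP0
  have hP0D : P0 ≤ D := by
    rintro _ ⟨a, ha, rfl⟩
    exact ha.2
  have hP0c : Nat.card P0 = 2 ^ (Nat.card D).factorization 2 := by
    rw [hP0, CfsgLib.Coprime.card_map_subtype, CfsgLib.Coprime.card_sylow_inf_normal,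
      Nat.card_congr (subgroupOfEquivOfLe hDM).toEquiv]
  have hP0e : ∀ a ∈ P0, e1 * a * e1⁻¹ ∈ P0 := by
    rintro _ ⟨a, ha, rfl⟩
    refine ⟨⟨e1, he1M⟩ * a * ⟨e1, he1M⟩⁻¹, ⟨?_, hDn.conj_mem a ha.2 _⟩, rfl⟩
    have hm : (⟨e1, he1M⟩ : M) ∈ (T : Subgroup M) := hT (mem_zpowers _)
    have ha1 : a ∈ (T : Subgroup M) := ha.1
    exact (mul_mem (mul_mem hm ha1) (inv_mem hm) : _ ∈ (T : Subgroup M))
  obtain ⟨S1, hS1⟩ := CfsgLib.Coprime.exists_sylow_map_eq (p := 2) hP0D hP0c
  have hzD : z ∈ D := mem_centralizer_iff.2 fun r hr =>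
    mem_centralizer_singleton_iff.1 (hRz hr)
  obtain ⟨S0, hS0⟩ := (IsPGroup.of_card (p := 2) (G := zpowers (⟨z, hzD⟩ : D)) (n := 1) (by
    rw [Nat.card_zpowers, Subgroup.orderOf_mk, hz]; norm_num)).exists_le_sylow
  obtain ⟨d, hd⟩ := MulAction.exists_smul_eq D S1 S0
  set P := P0.map (MulAut.conj (d : G)).toMonoidHom with hP
  have hPS : (S0 : Subgroup D).map D.subtype = P := by
    rw [← hd, CfsgLib.Coprime.map_smul_sylow, hS1]
  have hzP : z ∈ P := hPS ▸ ⟨⟨z, hzD⟩, hS0 (mem_zpowers _), rfl⟩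
  have hPD : P ≤ D := hPS ▸ map_subtype_le _
  have hP2 : IsPGroup 2 P := hPS ▸ S0.isPGroup'.map _
  set e2 : G := (d : G) * e1 * (d : G)⁻¹ with he2
  have he22 : orderOf e2 = 2 := by
    rw [← he12]
    exact orderOf_injective (MulAut.conj (d : G)).toMonoidHom (MulAut.conj (d : G)).injective e1
  have he2P : ∀ a ∈ P, e2 * a * e2⁻¹ ∈ P := by
    rintro _ ⟨a, ha, rfl⟩
    refine ⟨e1 * a * e1⁻¹, hP0e a ha, ?_⟩
    simp only [MulEquiv.coe_toMonoidHom, MulAut.conj_apply, he2]
    group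
  have hdY : Commute (d : G) Y := (mem_centralizer_iff.1 d.2 Y hY).symm
  have he2Y : e2 * Y * e2⁻¹ = Y⁻¹ := by
    have h1 : (d : G)⁻¹ * Y * (d : G) = Y := by
      rw [mul_assoc, ← hdY.eq, inv_mul_cancel_left]
    calc e2 * Y * e2⁻¹ = (d : G) * (e1 * ((d : G)⁻¹ * Y * (d : G)) * e1⁻¹) * (d : G)⁻¹ := by
          rw [he2]; group
      _ = (d : G) * Y⁻¹ * (d : G)⁻¹ := by rw [h1, he1R Y hY]
      _ = Y⁻¹ := by rw [hdY.inv_right.eq, mul_inv_cancel_right]
  have hDY : ∀ a ∈ D, Commute a Y := fun a ha => (mem_centralizer_iff.1 ha Y hY).symm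
  -- the central involution of `P` is `z`
  haveI : Nontrivial P := nontrivial_iff_ne_bot P |>.2 fun h => by
    rw [h] at hzP
    rw [mem_bot.1 hzP, orderOf_one] at hz
    omega
  haveI := hP2.center_nontrivial
  obtain ⟨n, hn, hcn⟩ := (hP2.to_subgroup (center P)).nontrivial_iff_card.1 inferInstance
  obtain ⟨c0, hc0⟩ := exists_prime_orderOf_dvd_card' (G := center P) 2
    (hcn ▸ dvd_pow_self 2 (Nat.pos_iff_ne_zero.1 hn))
  have hcen : ∀ a ∈ P, a * ((c0 : P) : G) = ((c0 : P) : G) * a := fun a ha =>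
    congrArg Subtype.val (Subgroup.mem_center_iff.1 c0.2 ⟨a, ha⟩)
  have hc0z : ((c0 : P) : G) = z :=
    huniq _ (by rw [Subgroup.orderOf_coe, Subgroup.orderOf_coe, hc0]) (hcen z hzP).symm
      (hDY _ (hPD (c0 : P).2))
  have he2z : e2 * z * e2⁻¹ = z :=
    huniq _ ((orderOf_injective (MulAut.conj e2).toMonoidHom (MulAut.conj e2).injective z).trans hz)
      (by
        have := hcen _ (he2P z hzP)
        rw [hc0z] at this
        exact this)
      (hDY _ (hPD (he2P z hzP)))
  exact hninv e2 he22 (mul_inv_eq_iff_eq_mul.1 he2z) he2Y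

end CfsgLib.Recognition.UFourThree
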