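import Cfsg.Agent.Lib.Recognition.UFourThree.Gens
import Cfsg.Agent.Lib.Recognition.UFourThree.Tables

/-!
# Equations in the centraliser are decided in the model; conjugates along trajectories
-/

set_option autoImplicit false
set_option maxRecDepth 100000
set_option linter.unusedSectionVars false

namespace CfsgLib.Recognition.UFourThree

open CfsgLib.Sporadic.CosetCert (Cert)
open CfsgLib.Sporadic.OutCert (lk allF allF_iff)
open Subgroup Data CertData

theorem certH_words : certH.nr = certH.words.length ∧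
    ∀ i < certH.nr, certH.letters i ∈ relH := by
  refine ⟨by decide +kernel, ?_⟩
  decide +kernel

theorem certH_inv : (∀ x < 9, certH.inv x = ivl x) ∧ ∀ x < 11, ivl x < 11 ∧ ivl (ivl x) = x := by
  decide +kernel

/-- The eleven letters. -/
def lett {G : Type*} [Group G] (a c r x d σ : G) (i : ℕ) : G :=
  [a, a⁻¹, c, c⁻¹, r, r⁻¹, x, d, d⁻¹, σ, σ⁻¹].getD i 1

/-- Letters of the centraliser only. -/
def Small (L : List ℕ) : Prop := ∀ i ∈ L, i < 9

instance (L : List ℕ) : Decidable (Small L) := by unfold Small; infer_instance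

namespace Gens

variable {G : Type*} [Group G] [Finite G] {z a c r x d σ : G} (g : Gens z a c r x d σ)
include g

theorem x_inv : x⁻¹ = x := inv_eq_of_mul_eq_one_right g.x2

theorem a_inv : a⁻¹ = z * a := by
  refine inv_eq_of_mul_eq_one_left ?_
  rw [mul_assoc, g.a2, g.z2]

theorem lett_inv (i : ℕ) (hi : i < 11) : lett a c r x d σ (ivl i) = (lett a c r x d σ i)⁻¹ := by
  interval_cases i <;> simp [lett, ivl, ivL, g.x_inv]

theorem lett_mem {i : ℕ} (hi : i < 9) : lett a c r x d σ i ∈ centralizer ({z} : Set G) := by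
  have ma := g.mem a (by simp)
  have mc := g.mem c (by simp)
  have mr := g.mem r (by simp)
  have mx := g.mem x (by simp)
  have md := g.mem d (by simp)
  interval_cases i
  exacts [ma, inv_mem ma, mc, inv_mem mc, mr, inv_mem mr, mx, md, inv_mem md]

theorem relH_one : ∀ L ∈ relH, ev (lett a c r x d σ) L = 1 := by
  have hx := g.x_inv
  have cr := g.cross
  have key : ∀ u ∈ ({a, c, r} : Set G), ∀ v ∈ ({a, c, r} : Set G),
      u * (x * (v * (x * (u⁻¹ * (x * (v⁻¹ * x)))))) = 1 := fun u hu v hv => by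
    calc u * (x * (v * (x * (u⁻¹ * (x * (v⁻¹ * x)))))) = (u * (x * v * x)) * u⁻¹ * (x * v⁻¹ * x) := by group
      _ = (x * v * x * u) * u⁻¹ * (x * v⁻¹ * x) := by rw [cr u hu v hv]
      _ = x * v * (x * x) * v⁻¹ * x := by group
      _ = 1 := by rw [g.x2, mul_one, mul_inv_cancel_right, g.x2]
  have e1 : a * (a * (a * a)) = 1 := by rw [← mul_assoc, g.a2, g.z2]
  have e2 : c * (c * (a⁻¹ * a⁻¹)) = 1 := by
    rw [← mul_assoc, g.c2, ← mul_inv_rev, g.a2, mul_inv_cancel]
  have e3 : c * (a * (c⁻¹ * a)) = 1 := by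
    rw [← mul_assoc, ← mul_assoc, g.ca, inv_mul_cancel]
  have e4 : r * (r * r) = 1 := by rw [← pow_three, g.r3]
  have e5 : r * (a * (r⁻¹ * c⁻¹)) = 1 := by
    rw [← mul_assoc, ← mul_assoc, g.ra, mul_inv_cancel]
  have e6 : r * (c * (r⁻¹ * (c⁻¹ * a⁻¹))) = 1 := by
    calc r * (c * (r⁻¹ * (c⁻¹ * a⁻¹))) = (r * c * r⁻¹) * (a * c)⁻¹ := by group
      _ = 1 := by rw [g.rc, mul_inv_cancel]
  have e7 : x * (a * (a * (x * (a⁻¹ * a⁻¹)))) = 1 := by
    calc x * (a * (a * (x * (a⁻¹ * a⁻¹)))) = (x * (a * a) * x) * (a * a)⁻¹ := by group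
      _ = 1 := by rw [g.a2, g.xz, mul_inv_cancel]
  have e8 : d * (d * (x * (a⁻¹ * (x * a⁻¹)))) = 1 := by
    calc d * (d * (x * (a⁻¹ * (x * a⁻¹)))) = (d * d) * (x⁻¹ * a⁻¹ * x⁻¹ * a⁻¹) := by rw [hx]; group
      _ = 1 := by rw [g.d2]; group
  have e9 : d * (a * (d⁻¹ * a⁻¹)) = 1 := by
    rw [← mul_assoc, ← mul_assoc, g.da, mul_inv_cancel]
  have e10 : d * (c * (d⁻¹ * (c⁻¹ * a))) = 1 := by
    calc d * (c * (d⁻¹ * (c⁻¹ * a))) = (d * c * d⁻¹) * (a⁻¹ * c)⁻¹ := by group
      _ = 1 := by rw [g.dc, mul_inv_cancel]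
  have e11 : x * (d * (x * d)) = 1 := by
    rw [← mul_assoc, ← mul_assoc, g.dx, inv_mul_cancel]
  have e12 : d * (r * (d⁻¹ * (r * a⁻¹))) = 1 := by
    calc d * (r * (d⁻¹ * (r * a⁻¹))) = (d * r * d⁻¹) * (a * r⁻¹)⁻¹ := by group
      _ = 1 := by rw [g.dr, mul_inv_cancel]
  have ma : a ∈ ({a, c, r} : Set G) := by simp
  have mc : c ∈ ({a, c, r} : Set G) := by simp
  have mr : r ∈ ({a, c, r} : Set G) := by simp
  intro L hL
  simp only [relH, List.mem_cons, List.not_mem_nil, or_false] at hL
  rcases hL with rfl | rfl | rfl | rfl | rfl | rfl | rfl | rfl | rfl | rfl | rfl | rfl | rfl | rfl |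
    rfl | rfl | rfl | rfl | rfl <;>
    simp only [ev, lett, List.map_cons, List.map_nil, List.prod_cons, List.prod_nil, mul_one,
      List.getD_cons_zero, List.getD_cons_succ]
  exacts [e1, e2, e3, e4, e5, e6, g.x2, e7, e8, e9, e10, e11, e12, key a ma a ma, key a ma c mc,
    key a ma r mr, key c mc c mc, key c mc r mr, key r mr r mr]

theorem readingH : Reading certH (lett a c r x d σ) (⊥ : Subgroup G) := by
  obtain ⟨hnr, hrel⟩ := certH_words
  refine ⟨certH_valid, by rw [certH_shape.1]; norm_num, fun i hi => ?_, fun i hi _ => g.relH_one _ (hrel i hi),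
    fun i h1 h2 => absurd h2 (not_lt.2 (hnr ▸ h1))⟩
  rw [certH_shape.2] at hi
  rw [certH_inv.1 i hi, g.lett_inv i (by omega)]

theorem small_lt {L : List ℕ} (hL : Small L) : ∀ i ∈ L, i < certH.nl := fun i hi => by
  rw [certH_shape.2]; exact hL i hi

/-- Equal keys give equal elements. -/
theorem eq_of_run {L M : List ℕ} (hL : Small L) (hM : Small M) (e : runH L = runH M) :
    ev (lett a c r x d σ) L = ev (lett a c r x d σ) M := by
  have R := g.readingH
  have h0 : 0 < certH.N := by rw [certH_shape.1]; norm_num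
  obtain ⟨s, hs, e1, k1⟩ := keyedH.walk R L (g.small_lt hL) 0 h0
  obtain ⟨u, hu, e2, k2⟩ := keyedH.walk R M (g.small_lt hM) 0 h0
  have : s = u := keyedH.inj s hs u hu (by rw [k1, k2]; exact e)
  subst this
  have e3 := e1.trans e2.symm
  rw [Cert.Interp.node_zero] at e3
  change (((ev (lett a c r x d σ) L)⁻¹ * 1 : G) : G ⧸ (⊥ : Subgroup G)) =
    (((ev (lett a c r x d σ) M)⁻¹ * 1 : G) : G ⧸ (⊥ : Subgroup G)) at e3
  rw [mul_one, mul_one, QuotientGroup.eq, Subgroup.mem_bot, inv_inv, mul_inv_eq_one] at e3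
  exact e3

/-- Every element of `C(z)` is the value of the word of a node. -/
theorem exists_word {h : G} (hh : h ∈ centralizer ({z} : Set G)) :
    ∃ u < 1152, h = ev (lett a c r x d σ) (wordAt u) := by
  have R := g.readingH
  have hle : centralizer ({z} : Set G) ≤ Subgroup.closure (R.interp.g '' Set.Iio certH.nl) := by
    refine g.gen.trans ((Subgroup.closure_le _).2 ?_)
    have key : ∀ i < 9, lett a c r x d σ i ∈ Subgroup.closure (R.interp.g '' Set.Iio certH.nl) := by
      intro i hi
      have hi' : i < certH.nl := by rw [certH_shape.2]; exact hi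
      refine inv_inv (lett a c r x d σ i) ▸ inv_mem (Subgroup.subset_closure ⟨i, hi', ?_⟩)
      exact if_pos hi'
    rintro v (rfl | rfl | rfl | rfl | rfl)
    exacts [key 0 (by norm_num), key 2 (by norm_num), key 4 (by norm_num), key 6 (by norm_num),
      key 7 (by norm_num)]
  obtain ⟨w, hw, e⟩ := Cert.exists_node R.valid R.respects R.pos (inv_mem (hle hh))
  have hw' : w < 1152 := certH_shape.1 ▸ hw
  obtain ⟨hrun, hsm⟩ := pathH hw'
  obtain ⟨s, hs, e1, k1⟩ := keyedH.walk R (wordAt w) (g.small_lt hsm) 0 (by rw [certH_shape.1]; norm_num)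
  have : s = w := keyedH.inj s hs w hw (by rw [k1]; exact hrun)
  rw [this, Cert.Interp.node_zero] at e1
  refine ⟨w, hw', ?_⟩
  have e3 := e1.trans e.symm
  change (((ev (lett a c r x d σ) (wordAt w))⁻¹ * 1 : G) : G ⧸ (⊥ : Subgroup G)) =
    ((h⁻¹ * 1 : G) : G ⧸ (⊥ : Subgroup G)) at e3
  rw [mul_one, mul_one, QuotientGroup.eq, Subgroup.mem_bot, inv_inv, mul_inv_eq_one] at e3
  exact e3.symm

theorem ev_small {L : List ℕ} (hL : Small L) : ev (lett a c r x d σ) L ∈ centralizer ({z} : Set G) :=
  ev_mem fun i hi => g.lett_mem (hL i hi)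

theorem ev_winv' {L : List ℕ} (hL : ∀ i ∈ L, i < 11) :
    ev (lett a c r x d σ) (winv ivl L) = (ev (lett a c r x d σ) L)⁻¹ :=
  ev_winv fun i hi => g.lett_inv i (hL i hi)

end Gens

/-- The expansion of a word in the symbols. -/
def expand (pw : List ℕ) : List ℕ := (pw.map fun i => sym.getD i []).flatten

/-- The image of a symbol word under `σ` (letter `9`) or `σ⁻¹` (letter `10`). -/
def substW (l : ℕ) (pw : List ℕ) : List ℕ :=
  let f := fun w : List ℕ => (w.map fun i => symIm.getD i []).flatten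
  if l = 9 then f pw else f (f pw)

/-- A word of a trajectory. -/
def trajWord : List (List ℕ × ℕ × List ℕ) → List ℕ → List ℕ
  | [], last => last
  | (seg, l, _) :: rest, last => trajWord rest last ++ [l] ++ seg

/-- The check of a trajectory from the current word to the target. -/
def trajOK : List (List ℕ × ℕ × List ℕ) → List ℕ → List ℕ → List ℕ → Bool
  | [], last, cur, tgt => decide (Small last) && decide (Small cur) && decide (Small tgt) &&
      runH (last ++ cur ++ winv ivl last) == runH tgt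
  | (seg, l, pw) :: rest, last, cur, tgt =>
      decide (Small seg) && decide (Small cur) && decide (∀ i ∈ pw, i < 6) && (l == 9 || l == 10) &&
        runH (seg ++ cur ++ winv ivl seg) == runH (expand pw) &&
        trajOK rest last (expand (substW l pw)) tgt

theorem sym_small : (∀ i < 6, Small (sym.getD i [])) ∧ ∀ i < 6, ∀ j ∈ symIm.getD i [], j < 6 := by
  decide +kernel

theorem winv_small : ∀ i < 9, ivl i < 9 := by decide +kernel

theorem small_expand {pw : List ℕ} (h : ∀ i ∈ pw, i < 6) : Small (expand pw) := fun i hi => by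
  obtain ⟨w, hw, hiw⟩ := List.mem_flatten.1 hi
  obtain ⟨j, hj, rfl⟩ := List.mem_map.1 hw
  exact sym_small.1 j (h j hj) i hiw

theorem small_winv {L : List ℕ} (h : Small L) : Small (winv ivl L) := fun i hi => by
  simp only [winv, List.mem_map, List.mem_reverse] at hi
  obtain ⟨j, hj, rfl⟩ := hi
  exact winv_small j (h j hj)

theorem small_append {L M : List ℕ} (hL : Small L) (hM : Small M) : Small (L ++ M) := fun i hi =>
  (List.mem_append.1 hi).elim (hL i) (hM i)

theorem sym_im_check :
    runH (expand (symIm.getD 5 [])) =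
      runH ([0, 7, 0, 0, 0, 6, 0, 6] ++ [0, 7, 0, 0, 0, 6, 0, 6]) ∧
    Small (expand (symIm.getD 5 [])) := by decide +kernel

namespace Gens

variable {G : Type*} [Group G] [Finite G] {z a c r x d σ : G} (g : Gens z a c r x d σ)
include g

theorem sigma_sym {i : ℕ} (hi : i < 6) :
    σ * ev (lett a c r x d σ) (sym.getD i []) * σ⁻¹ =
      ev (lett a c r x d σ) (expand (symIm.getD i [])) := by
  have e5 := g.eq_of_run sym_im_check.2 (show Small ([0, 7, 0, 0, 0, 6, 0, 6] ++ [0, 7, 0, 0, 0, 6, 0, 6]) by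
    decide +kernel) sym_im_check.1
  have sd' : σ * d * σ⁻¹ = a * d * (a * a * (a * (x * a * x))) := by rw [g.sd, g.a2]
  interval_cases i
  · simpa [sym, symIm, expand, ev, lett] using g.sa
  · simpa [sym, symIm, expand, ev, lett, mul_assoc] using g.se
  · simpa [sym, symIm, expand, ev, lett, mul_assoc] using sd'
  · simpa [sym, symIm, expand, ev, lett, mul_assoc] using g.sx
  · have h4 : σ * (a * a) * σ⁻¹ = a * (x * a * x) := by
      calc σ * (a * a) * σ⁻¹ = (σ * a * σ⁻¹) * (σ * a * σ⁻¹) := by group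
        _ = a * (x * a * x) := by rw [g.sa, g.d2]
    simpa [sym, symIm, expand, ev, lett, mul_assoc] using h4
  · rw [e5]
    have h5 : σ * (a * (x * a * x)) * σ⁻¹ = (a * d * (a * a * (a * (x * a * x)))) *
        (a * d * (a * a * (a * (x * a * x)))) := by
      calc σ * (a * (x * a * x)) * σ⁻¹ = (σ * d * σ⁻¹) * (σ * d * σ⁻¹) := by rw [← g.d2]; group
        _ = _ := by rw [sd']
    simpa [sym, expand, ev, lett, mul_assoc] using h5

theorem sigma_word : ∀ {pw : List ℕ}, (∀ i ∈ pw, i < 6) →
    σ * ev (lett a c r x d σ) (expand pw) * σ⁻¹ =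
      ev (lett a c r x d σ) (expand ((pw.map fun i => symIm.getD i []).flatten))
  | [], _ => by simp [expand, ev]
  | i :: pw, h => by
    have ih := sigma_word (fun j hj => h j (List.mem_cons_of_mem _ hj))
    have e1 : expand (i :: pw) = sym.getD i [] ++ expand pw := by simp [expand]
    have e2 : expand (((i :: pw).map fun i => symIm.getD i []).flatten) =
        expand (symIm.getD i []) ++ expand ((pw.map fun i => symIm.getD i []).flatten) := by
      simp [expand]
    rw [e1, e2, ev_append, ev_append, ← ih, ← g.sigma_sym (h i List.mem_cons_self)]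
    group

theorem step_word {l : ℕ} (hl : l = 9 ∨ l = 10) {pw : List ℕ} (h : ∀ i ∈ pw, i < 6) :
    lett a c r x d σ l * ev (lett a c r x d σ) (expand pw) * (lett a c r x d σ l)⁻¹ =
      ev (lett a c r x d σ) (expand (substW l pw)) := by
  have hmem : ∀ j ∈ (pw.map fun i => symIm.getD i []).flatten, j < 6 := fun j hj => by
    obtain ⟨w, hw, hjw⟩ := List.mem_flatten.1 hj
    obtain ⟨i, hi, rfl⟩ := List.mem_map.1 hw
    exact sym_small.2 i (h i hi) j hjw
  rcases hl with rfl | rfl
  · simp only [substW, if_pos rfl]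
    exact g.sigma_word h
  · simp only [substW, if_neg (show ¬(10 : ℕ) = 9 by norm_num)]
    rw [← g.sigma_word hmem, ← g.sigma_word h]
    calc lett a c r x d σ 10 * ev (lett a c r x d σ) (expand pw) * (lett a c r x d σ 10)⁻¹
        = σ⁻¹ * σ ^ 3 * ev (lett a c r x d σ) (expand pw) * (σ ^ 3)⁻¹ * σ := by
          rw [g.s3]; simp [lett]
      _ = _ := by rw [pow_three]; group

theorem traj_sound : ∀ (steps : List (List ℕ × ℕ × List ℕ)) (last cur tgt : List ℕ),
    trajOK steps last cur tgt = true →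
      ev (lett a c r x d σ) (trajWord steps last) * ev (lett a c r x d σ) cur *
        (ev (lett a c r x d σ) (trajWord steps last))⁻¹ = ev (lett a c r x d σ) tgt
  | [], last, cur, tgt, h => by
    simp only [trajOK, Bool.and_eq_true, decide_eq_true_eq, beq_iff_eq] at h
    obtain ⟨⟨⟨h1, h2⟩, h3⟩, h4⟩ := h
    have := g.eq_of_run (small_append (small_append h1 h2) (small_winv h1)) h3 h4
    rwa [ev_append, ev_append, g.ev_winv' fun i hi => lt_trans (h1 i hi) (by norm_num)] at this
  | (seg, l, pw) :: rest, last, cur, tgt, h => by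
    simp only [trajOK, Bool.and_eq_true, Bool.or_eq_true, decide_eq_true_eq, beq_iff_eq] at h
    obtain ⟨⟨⟨⟨⟨h1, h2⟩, h3⟩, h4⟩, h5⟩, h6⟩ := h
    have e1 := g.eq_of_run (small_append (small_append h1 h2) (small_winv h1)) (small_expand h3) h5
    rw [ev_append, ev_append, g.ev_winv' fun i hi => lt_trans (h1 i hi) (by norm_num)] at e1
    have e2 := g.step_word h4 h3
    have ih := traj_sound rest last _ tgt h6
    rw [trajWord, ev_append, ev_append, ← ih, ← e2, ← e1,
      show ev (lett a c r x d σ) [l] = lett a c r x d σ l by simp [ev]]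
    group

end Gens

end CfsgLib.Recognition.UFourThree
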