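import Cfsg.Agent.Lib.Sporadic.CosetCertApply
import Cfsg.Agent.Lib.Sporadic.OutCert.Perm

/-!
# Words and tables read through a coset certificate

A closed certificate gives a table of an action; if the nodes carry distinct keys that move in the
same way in a concrete permutation group, then a word acting trivially there fixes every node.
-/

set_option autoImplicit false

namespace CfsgLib.Recognition.UFourThree

open CfsgLib.Sporadic.CosetCert (Cert appProd appProd_append)

/-- The value of a word, read as a product. -/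
def ev {G : Type*} [Group G] (el : ℕ → G) (L : List ℕ) : G := (L.map el).prod

section Ev

variable {G : Type*} [Group G] {el : ℕ → G}

theorem ev_nil : ev el [] = 1 := rfl

theorem ev_cons (x : ℕ) (L : List ℕ) : ev el (x :: L) = el x * ev el L := by simp [ev]

theorem ev_append (L M : List ℕ) : ev el (L ++ M) = ev el L * ev el M := by simp [ev]

theorem ev_mem {S : Subgroup G} {L : List ℕ} (h : ∀ x ∈ L, el x ∈ S) : ev el L ∈ S :=
  S.list_prod_mem (by simpa using h)

theorem map_ev {H : Type*} [Group H] (f : G →* H) (L : List ℕ) : f (ev el L) = ev (fun x => f (el x)) L := by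
  simp [ev, map_list_prod, List.map_map, Function.comp_def]

theorem ev_map (ρ : ℕ → ℕ) (L : List ℕ) : ev el (L.map ρ) = ev (fun x => el (ρ x)) L := by
  simp [ev, List.map_map, Function.comp_def]

theorem ev_congr {el' : ℕ → G} {L : List ℕ} (h : ∀ x ∈ L, el x = el' x) : ev el L = ev el' L :=
  congrArg List.prod (List.map_congr_left h)

theorem appProd_inv (L : List ℕ) : appProd (fun x => (el x)⁻¹) L = (ev el L)⁻¹ := by
  induction L with
  | nil => simp [appProd, ev]
  | cons x L ih => simp [appProd, ev_cons, ih]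

end Ev

/-- The inverse word, for an inversion table of the letters. -/
def winv (iv : ℕ → ℕ) (L : List ℕ) : List ℕ := L.reverse.map iv

theorem ev_winv {G : Type*} [Group G] {el : ℕ → G} {iv : ℕ → ℕ} {L : List ℕ}
    (h : ∀ x ∈ L, el (iv x) = (el x)⁻¹) : ev el (winv iv L) = (ev el L)⁻¹ := by
  induction L with
  | nil => simp [winv, ev]
  | cons x L ih =>
    rw [show winv iv (x :: L) = winv iv L ++ [iv x] by simp [winv], ev_append,
      ih fun y hy => h y (List.mem_cons_of_mem _ hy), ev_cons, ev_cons, ev_nil,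
      h x List.mem_cons_self]
    simp

/-- The data of a certificate read in a group: letters and the subgroup fixing the base. -/
structure Reading {G : Type*} [Group G] (C : Cert) (el : ℕ → G) (S : Subgroup G) : Prop where
  valid : C.Valid
  pos : 0 < C.N
  inv : ∀ x < C.nl, el (C.inv x) = (el x)⁻¹
  rel : ∀ i < C.nr, i < C.words.length → ev el (C.letters i) = 1
  sub : ∀ i, C.nr ≤ i → i < C.words.length → ev el (C.letters i) ∈ S

namespace Reading

variable {G : Type*} [Group G] {C : Cert} {el : ℕ → G} {S : Subgroup G}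

/-- The interpretation on the cosets. -/
noncomputable def interp (R : Reading C el S) : C.Interp G (G ⧸ S) where
  g x := if x < C.nl then (el x)⁻¹ else 1
  base := ((1 : G) : G ⧸ S)
  g_nl := if_neg (lt_irrefl _)
  g_inv x hx := by rw [if_pos (R.valid.inv_lt x hx), if_pos hx, R.inv x hx]

theorem interp_prod (R : Reading C el S) {L : List ℕ} (hL : ∀ x ∈ L, x < C.nl) :
    appProd R.interp.g L = (ev el L)⁻¹ := by
  rw [← appProd_inv]
  induction L with
  | nil => rfl
  | cons x L ih =>
    rw [appProd, appProd, ih fun y hy => hL y (List.mem_cons_of_mem _ hy)]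
    congr 1
    exact if_pos (hL x List.mem_cons_self)

theorem respects (R : Reading C el S) : R.interp.Respects := by
  intro i hi
  have hlt : ∀ x ∈ C.letters i, x < C.nl := fun x hx => by
    obtain ⟨j, -, rfl⟩ := List.mem_map.1 hx
    exact R.valid.letter_lt i hi 0 j
  rw [Cert.Interp.prod_eq_appProd]
  change (i < C.nr → appProd R.interp.g (C.letters i) = 1) ∧
    appProd R.interp.g (C.letters i) • R.interp.base = R.interp.base
  rw [R.interp_prod hlt]
  refine ⟨fun h => by rw [R.rel i h hi, inv_one], ?_⟩
  by_cases h : i < C.nr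
  · rw [R.rel i h hi, inv_one, one_smul]
  · have hm := R.sub i (not_lt.1 h) hi
    show (((ev el (C.letters i))⁻¹ * 1 : G) : G ⧸ S) = ((1 : G) : G ⧸ S)
    rw [mul_one, QuotientGroup.eq, inv_inv, mul_one]
    exact hm

/-- A single node: the first letters fix the base. -/
theorem mem_of_one (R : Reading C el S) (hN : C.N = 1) {x : ℕ} (hx : x < C.nl) : el x ∈ S := by
  have hm : R.interp.g x ∈ Subgroup.closure (R.interp.g '' Set.Iio C.nl) :=
    Subgroup.subset_closure ⟨x, hx, rfl⟩
  obtain ⟨w, hw, e⟩ := Cert.exists_node R.valid R.respects R.pos hm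
  rw [hN, Nat.lt_one_iff] at hw
  subst hw
  rw [Cert.Interp.node_zero, show R.interp.g x = (el x)⁻¹ from if_pos hx] at e
  change (((el x)⁻¹ * 1 : G) : G ⧸ S) = ((1 : G) : G ⧸ S) at e
  rw [mul_one, QuotientGroup.eq, inv_inv, mul_one] at e
  exact e

end Reading

/-- Keys on the nodes moving like the table. -/
structure Keyed (C : Cert) {β : Type*} (key : ℕ → β) (act : ℕ → β → β) (top : ℕ) : Prop where
  step : ∀ u < C.N, ∀ x < C.nl, ∃ s, C.look top u x = s + 1 ∧ s < C.N ∧ key s = act x (key u)
  inj : ∀ u < C.N, ∀ v < C.N, key u = key v → u = v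

namespace Keyed

variable {G : Type*} [Group G] {C : Cert} {el : ℕ → G} {S : Subgroup G} {β : Type*}
  {key : ℕ → β} {act : ℕ → β → β} {top : ℕ}

/-- Running a word on a key. -/
def run (act : ℕ → β → β) (L : List ℕ) (b : β) : β := L.foldl (fun b x => act x b) b

theorem walk (K : Keyed C key act top) (R : Reading C el S) :
    ∀ (L : List ℕ), (∀ x ∈ L, x < C.nl) → ∀ u < C.N,
      ∃ s < C.N, (ev el L)⁻¹ • R.interp.node u = R.interp.node s ∧ key s = run act L (key u)
  | [], _, u, hu => ⟨u, hu, by simp [ev], rfl⟩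
  | x :: L, hL, u, hu => by
    have hx := hL x List.mem_cons_self
    obtain ⟨s, hs, hsN, hk⟩ := K.step u hu x hx
    obtain ⟨s', hs', e, hk'⟩ := walk K R L (fun y hy => hL y (List.mem_cons_of_mem _ hy)) s hsN
    refine ⟨s', hs', ?_, ?_⟩
    · have h := Cert.table_spec (I := R.interp) R.valid R.respects hx.le hs
      rw [show R.interp.g x = (el x)⁻¹ from if_pos hx] at h
      rw [ev_cons, mul_inv_rev, mul_smul, h, e]
    · rw [hk', hk]; rfl

/-- A word fixing all keys lies in the conjugates of the base group. -/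
theorem conj_mem (K : Keyed C key act top) (R : Reading C el S) {L : List ℕ} (hL : ∀ x ∈ L, x < C.nl)
    (hfix : ∀ u < C.N, run act L (key u) = key u) {g : G}
    (hg : g ∈ Subgroup.closure (el '' Set.Iio C.nl)) : g⁻¹ * ev el L * g ∈ S := by
  have hle : Subgroup.closure (el '' Set.Iio C.nl) ≤ Subgroup.closure (R.interp.g '' Set.Iio C.nl) := by
    rw [Subgroup.closure_le]
    rintro _ ⟨x, hx, rfl⟩
    refine inv_inv (el x) ▸ inv_mem (Subgroup.subset_closure ⟨x, hx, ?_⟩)
    exact if_pos hx
  obtain ⟨w, hw, e⟩ := Cert.exists_node R.valid R.respects R.pos (hle hg)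
  obtain ⟨s, hs, e', hk⟩ := K.walk R L hL w hw
  rw [hfix w hw] at hk
  rw [K.inj s hs w hw hk, ← e] at e'
  have e2 : (((ev el L)⁻¹ * (g * 1) : G) : G ⧸ S) = ((g * 1 : G) : G ⧸ S) := e'
  rw [mul_one, QuotientGroup.eq, mul_inv_rev, inv_inv] at e2
  exact e2

end Keyed

end CfsgLib.Recognition.UFourThree
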